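import Mathlib
import Cfsg.Prelude.Def_OddOrderLocal
import Cfsg.Agent.Lib.helper1.Coprime

/-!
Coprime automorphisms of a nilpotent group centralizing a self-centralizing subgroup are trivial.
-/

set_option autoImplicit false
open Cfsg

namespace Cfsg.Agent.Lib.helper31

section NilpSelfCent

variable {G : Type*} [Group G]

theorem bi_lt_inf_normalizer_of_lt {D Q : Subgroup G} (hnil : Group.IsNilpotent Q) (h : D < Q) :
    D < Q ⊓ Subgroup.normalizer (D : Set G) := by
  have hnc := Group.normalizerCondition_of_isNilpotent (G := Q)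
  have hlt : D.subgroupOf Q < ⊤ := by
    rw [lt_top_iff_ne_top]
    intro he
    exact h.ne (le_antisymm h.le (Subgroup.subgroupOf_eq_top.mp he))
  have h2 := hnc _ hlt
  obtain ⟨x, hxN, hxD⟩ := SetLike.exists_of_lt h2
  refine lt_of_le_of_ne (le_inf h.le Subgroup.le_normalizer) ?_
  intro he
  apply hxD
  rw [Subgroup.mem_subgroupOf, he]
  refine ⟨x.2, ?_⟩
  show (x : G) ∈ Subgroup.normalizer (D : Set G)
  rw [Subgroup.mem_normalizer_iff] at hxN ⊢
  intro y
  constructor
  · intro hy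
    exact (hxN ⟨y, h.le hy⟩).mp (Subgroup.mem_subgroupOf.mpr hy)
  · intro hy
    have hyQ : y ∈ Q := by
      have h1 : (x : G)⁻¹ * ((x : G) * y * (x : G)⁻¹) * (x : G) ∈ Q :=
        Q.mul_mem (Q.mul_mem (Q.inv_mem x.2) (h.le hy)) x.2
      have e : (x : G)⁻¹ * ((x : G) * y * (x : G)⁻¹) * (x : G) = y := by group
      rwa [e] at h1
    exact (hxN ⟨y, hyQ⟩).mpr (Subgroup.mem_subgroupOf.mpr hy)

theorem bi_le_normalizer_inf {A Q₁ Q₂ : Subgroup G} (h₁ : A ≤ Subgroup.normalizer (Q₁ : Set G))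
    (h₂ : A ≤ Subgroup.normalizer (Q₂ : Set G)) :
    A ≤ Subgroup.normalizer ((Q₁ ⊓ Q₂ : Subgroup G) : Set G) := by
  rw [Subgroup.le_normalizer_iff] at h₁ h₂ ⊢
  intro a ha y hy
  exact ⟨h₁ a ha y hy.1, h₂ a ha y hy.2⟩

theorem bi_isSolvable_of_le_nilpotent {F K : Subgroup G} (hF : Group.IsNilpotent F) (hKF : K ≤ F) :
    Group.IsSolvable K := by
  have : Group.IsSolvable F := inferInstance
  exact Group.isSolvable_of_isSolvable_injective (Subgroup.inclusion_injective hKF)

theorem bi_isNilpotent_of_le_nilpotent {F K : Subgroup G} (hF : Group.IsNilpotent F) (hKF : K ≤ F) :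
    Group.IsNilpotent K := by
  have : Group.IsNilpotent (K.subgroupOf F) := inferInstance
  exact Group.nilpotent_of_mulEquiv (Subgroup.subgroupOfEquivOfLe hKF)

/-- Let `F` be a nilpotent subgroup, `M ≤ F` with `C_F(M) ≤ M`, and `A` a subgroup normalizing `F`,
centralizing `M`, of order coprime to `|F|`.  Then `A` centralizes `F`. -/
theorem bi_centralizes_aux [Finite G] (F A : Subgroup G)
    (hF : Group.IsNilpotent F) (hAF : A ≤ Subgroup.normalizer (F : Set G))
    (hcop : (Nat.card A).Coprime (Nat.card F)) :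
    ∀ (n : ℕ) (M : Subgroup G), Nat.card F - Nat.card M = n → M ≤ F →
      F ⊓ Subgroup.centralizer (M : Set G) ≤ M → A ≤ Subgroup.centralizer (M : Set G) →
      A ≤ Subgroup.centralizer (F : Set G) := by
  intro n
  induction n using Nat.strong_induction_on with
  | _ n ih =>
    intro M hn hMF hCM hAM
    by_cases hEq : M = F
    · subst hEq; exact hAM
    have hlt : M < F := lt_of_le_of_ne hMF hEq
    set M₁ := F ⊓ Subgroup.normalizer (M : Set G) with hM₁
    have hlt1 : M < M₁ := bi_lt_inf_normalizer_of_lt hF hlt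
    have hM₁F : M₁ ≤ F := inf_le_left
    have hM₁N : M₁ ≤ Subgroup.normalizer (M : Set G) := inf_le_right
    have hANM : A ≤ Subgroup.normalizer (M : Set G) := hAM.trans (Subgroup.centralizer_le_normalizer _)
    have hANN : A ≤ Subgroup.normalizer ((Subgroup.normalizer (M : Set G) : Subgroup G) : Set G) :=
      hANM.trans Subgroup.le_normalizer
    have hAM₁ : A ≤ Subgroup.normalizer (M₁ : Set G) := bi_le_normalizer_inf hAF hANN
    have hAMbot : ⁅A, M⁆ = ⊥ := Subgroup.commutator_eq_bot_iff_le_centralizer.mpr hAM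
    have hMAbot : ⁅M, A⁆ = ⊥ := by rw [Subgroup.commutator_comm]; exact hAMbot
    have h1 : ⁅⁅M₁, M⁆, A⁆ = ⊥ := by
      have hle : ⁅M₁, M⁆ ≤ M := by
        rw [Subgroup.commutator_comm]
        exact Cfsg.Agent.Lib.helper1.commutator_le_of_le_normalizer hM₁N
      exact le_bot_iff.mp ((Subgroup.commutator_mono hle le_rfl).trans hMAbot.le)
    have h2 : ⁅⁅M, A⁆, M₁⁆ = ⊥ := by
      rw [hMAbot]; exact Subgroup.commutator_bot_left M₁
    have h3 : ⁅⁅A, M₁⁆, M⁆ = ⊥ := Subgroup.commutator_commutator_eq_bot_of_rotate h1 h2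
    have h4 : ⁅A, M₁⁆ ≤ Subgroup.centralizer (M : Set G) :=
      Subgroup.commutator_eq_bot_iff_le_centralizer.mp h3
    have h5 : ⁅A, M₁⁆ ≤ M₁ := by
      rw [Subgroup.commutator_comm]
      exact Cfsg.Agent.Lib.helper1.commutator_le_of_le_normalizer hAM₁
    have h6 : ⁅A, M₁⁆ ≤ M := (le_inf (h5.trans hM₁F) h4).trans hCM
    have h7 : ⁅⁅M₁, A⁆, A⁆ = ⊥ := by
      have : ⁅M₁, A⁆ ≤ M := by rw [Subgroup.commutator_comm]; exact h6
      exact le_bot_iff.mp ((Subgroup.commutator_mono this le_rfl).trans hMAbot.le)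
    have hcop' : (Nat.card A).Coprime (Nat.card M₁) :=
      Nat.Coprime.coprime_dvd_right (Subgroup.card_dvd_of_le hM₁F) hcop
    have h8 : ⁅⁅M₁, A⁆, A⁆ = ⁅M₁, A⁆ :=
      Cfsg.Agent.Lib.helper1.commutator_commutator_eq A M₁ hAM₁ hcop'
        (Or.inr (bi_isSolvable_of_le_nilpotent hF hM₁F))
    have h9 : ⁅A, M₁⁆ = ⊥ := by
      rw [Subgroup.commutator_comm, ← h8]; exact h7
    have hAM₁c : A ≤ Subgroup.centralizer (M₁ : Set G) :=
      Subgroup.commutator_eq_bot_iff_le_centralizer.mp h9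
    have hCM₁ : F ⊓ Subgroup.centralizer (M₁ : Set G) ≤ M₁ :=
      ((inf_le_inf_left F (Subgroup.centralizer_le hlt1.le)).trans hCM).trans hlt1.le
    have hc1 : Nat.card M < Nat.card M₁ := by
      by_contra hcon
      exact hlt1.ne (Subgroup.eq_of_le_of_card_ge hlt1.le (not_lt.mp hcon))
    have hc2 : Nat.card M₁ ≤ Nat.card F := Subgroup.card_le_of_le hM₁F
    exact ih (Nat.card F - Nat.card M₁) (by omega) M₁ rfl hM₁F hCM₁ hAM₁c

theorem bi_centralizes [Finite G] (F A M : Subgroup G)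
    (hF : Group.IsNilpotent F) (hAF : A ≤ Subgroup.normalizer (F : Set G))
    (hcop : (Nat.card A).Coprime (Nat.card F)) (hMF : M ≤ F)
    (hCM : F ⊓ Subgroup.centralizer (M : Set G) ≤ M) (hAM : A ≤ Subgroup.centralizer (M : Set G)) :
    A ≤ Subgroup.centralizer (F : Set G) :=
  bi_centralizes_aux F A hF hAF hcop _ M rfl hMF hCM hAM

end NilpSelfCent

end Cfsg.Agent.Lib.helper31
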