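import Mathlib
import Cfsg.Prelude.Def_OddOrderLocal
import Cfsg.Prelude.Def_Local
import Cfsg.Agent.Lib.helper27.AxB
import Cfsg.Agent.Lib.helper28.PCores
import Cfsg.Agent.Lib.helper38.HallHigman2
import Cfsg.Agent.Lib.helper29.PSolv
import Cfsg.Agent.Lib.helper40.Cores

/-!
A Bender-style lemma: in a solvable group `T`, a `p'`-subgroup `B` commuting with a `p`-subgroup `P`
such that all commutators `[c, b]` (`c ∈ C_T(P)`, `b ∈ B`) are `p'`-elements lies in `O_{p'}(T)`.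
-/

set_option autoImplicit false
open Cfsg

namespace Cfsg.Agent.Lib.helper31

theorem bi_le_pPrimeCore {T : Type*} [Group T] [Finite T] (hT : Group.IsSolvable T)
    {p : ℕ} [Fact p.Prime] (P B : Subgroup T) (hP : IsPGroup p P) (hB : (Nat.card B).Coprime p)
    (hBP : ⁅B, P⁆ = ⊥)
    (h : ∀ c ∈ Subgroup.centralizer (P : Set T), ∀ b ∈ B,
      (orderOf (c * b * c⁻¹ * b⁻¹)).Coprime p) :
    B ≤ Cfsg.pPrimeCore p T := by
  set O := Cfsg.pPrimeCore p T with hO
  set φ := QuotientGroup.mk' O with hφ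
  set W := Cfsg.pCore p (T ⧸ O) with hW
  have hHH : Subgroup.centralizer (W : Set (T ⧸ O)) ≤ W :=
    Cfsg.Agent.Lib.helper28.isPConstrained_iff.mp
      (Cfsg.Agent.Lib.helper38.isPConstrained_of_isPSolvable
        (Cfsg.Agent.Lib.helper29.isPSolvable_of_isSolvable p hT))
  have hWp : IsPGroup p W := Cfsg.Agent.Lib.helper40.pCore_isPGroup p (T ⧸ O)
  have hWn : W.Normal := inferInstance
  have hOcop : (Nat.card O).Coprime p := Cfsg.Agent.Lib.helper40.pPrimeCore_card_coprime p T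
  set A := B.map φ with hA
  set P' := P.map φ with hP'
  have hAcop : (Nat.card A).Coprime p :=
    Nat.Coprime.coprime_dvd_left (Subgroup.card_map_dvd B φ) hB
  have hP'p : IsPGroup p P' := hP.map φ
  have hAP' : ⁅A, P'⁆ = ⊥ := by
    rw [hA, hP', ← Subgroup.map_commutator, hBP, Subgroup.map_bot]
  have hcent : ⁅W ⊓ Subgroup.centralizer (P' : Set (T ⧸ O)), A⁆ = ⊥ := by
    rw [Subgroup.commutator_eq_bot_iff_le_centralizer]
    intro w hw
    rw [Subgroup.mem_centralizer_iff]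
    intro a ha
    obtain ⟨b, hb, rfl⟩ := ha
    obtain ⟨x, hxw⟩ : ∃ x, φ x = w := QuotientGroup.mk'_surjective O w
    rw [← hxw] at hw ⊢
    have hx : ∀ y ∈ P, x * y * x⁻¹ * y⁻¹ ∈ O := by
      intro y hy
      have hcomm : φ y * φ x = φ x * φ y :=
        (Subgroup.mem_centralizer_iff.mp hw.2) (φ y) (Subgroup.mem_map_of_mem φ hy)
      rw [← QuotientGroup.ker_mk' O, MonoidHom.mem_ker]
      show φ (x * y * x⁻¹ * y⁻¹) = 1
      rw [map_mul, map_mul, map_mul, map_inv, map_inv, ← hcomm]; group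
    obtain ⟨n, hn, hc⟩ :=
      Cfsg.Agent.Lib.helper28.exists_mul_mem_centralizer_of_coprime O hOcop P hP x hx
    have hφn : φ n = 1 := (QuotientGroup.eq_one_iff n).mpr hn
    have hφc : φ (n⁻¹ * x) = φ x := by
      rw [map_mul, map_inv, hφn]; simp
    have hord := h _ hc b hb
    have heW : φ x * φ b * (φ x)⁻¹ * (φ b)⁻¹ ∈ W := by
      have h1 := hWn.conj_mem _ (W.inv_mem hw.1) (φ b)
      have h2 := W.mul_mem hw.1 h1
      have e : φ x * (φ b * (φ x)⁻¹ * (φ b)⁻¹) = φ x * φ b * (φ x)⁻¹ * (φ b)⁻¹ := by group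
      rwa [e] at h2
    obtain ⟨k, hk⟩ := hWp ⟨_, heW⟩
    have hk' : (φ x * φ b * (φ x)⁻¹ * (φ b)⁻¹) ^ p ^ k = 1 := by
      have := congrArg Subtype.val hk
      simpa using this
    have hord' : (orderOf (φ x * φ b * (φ x)⁻¹ * (φ b)⁻¹)).Coprime p := by
      have hdvd : orderOf (φ ((n⁻¹ * x) * b * (n⁻¹ * x)⁻¹ * b⁻¹)) ∣
          orderOf ((n⁻¹ * x) * b * (n⁻¹ * x)⁻¹ * b⁻¹) := orderOf_map_dvd φ _
      have e : φ ((n⁻¹ * x) * b * (n⁻¹ * x)⁻¹ * b⁻¹) = φ x * φ b * (φ x)⁻¹ * (φ b)⁻¹ := by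
        rw [map_mul, map_mul, map_mul, map_inv, map_inv, hφc]
      rw [e] at hdvd
      exact Nat.Coprime.coprime_dvd_left hdvd hord
    have h1 := Cfsg.Agent.Lib.helper40.eq_one_of_pow_eq_one_of_coprime hk' hord'
    have h2 : φ x * φ b = φ b * φ x := by
      calc φ x * φ b = (φ x * φ b * (φ x)⁻¹ * (φ b)⁻¹) * (φ b * φ x) := by group
        _ = φ b * φ x := by rw [h1, one_mul]
    exact h2.symm
  have hAx : ⁅W, A⁆ = ⊥ :=
    Cfsg.Agent.Lib.helper27.thompson_AxB W A P' hWp hAcop hP'p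
      (by rw [Subgroup.normalizer_eq_top]; exact le_top)
      (by rw [Subgroup.normalizer_eq_top]; exact le_top) hAP' hcent
  have hAW : A ≤ Subgroup.centralizer (W : Set (T ⧸ O)) := by
    rw [← Subgroup.commutator_eq_bot_iff_le_centralizer, Subgroup.commutator_comm]; exact hAx
  have hAW' : A ≤ W := hAW.trans hHH
  have hAbot : A = ⊥ := by
    have hAp : IsPGroup p A := hWp.to_le hAW'
    obtain ⟨k, hk⟩ := IsPGroup.iff_card.mp hAp
    rw [hk] at hAcop
    have hk0 : k = 0 := by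
      by_contra hk0
      have hpp : Nat.Coprime p p :=
        (Nat.coprime_pow_left_iff (Nat.pos_of_ne_zero hk0) p p).mp hAcop
      exact (Fact.out : p.Prime).one_lt.ne' ((Nat.coprime_self p).mp hpp)
    rw [hk0, pow_zero] at hk
    exact Subgroup.card_eq_one.mp hk
  intro b hb
  have hbA : φ b ∈ A := Subgroup.mem_map_of_mem φ hb
  rw [hAbot, Subgroup.mem_bot] at hbA
  exact (QuotientGroup.eq_one_iff b).mp hbA

end Cfsg.Agent.Lib.helper31
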