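import Mathlib
import Cfsg.Prelude.Def_OddOrderLocal
import Cfsg.Prelude.Def_CaseTheorems
import Cfsg.Agent.Lib.helper1.Coprime
import Cfsg.Agent.Lib.helper27.FStar
import Cfsg.Agent.Lib.helper28.Fitting
import Cfsg.Agent.Lib.helper29.Trans
import Cfsg.Agent.Lib.helper65.Fitting
import Cfsg.Agent.Lib.helper31.BenderInv1
import Cfsg.Agent.Lib.helper31.BenderInv2

/-!
Maximal local subgroups whose Fitting subgroup involves two primes: uniqueness of the maximal
`M`-invariant `q`-subgroups (Bender's method).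
-/

set_option autoImplicit false
open Cfsg

namespace Cfsg.Agent.Lib.helper31

section BenderInv

variable {G : Type*} [Group G]

/-! ### generalities -/

theorem bi_piCore_characteristic (π : Set ℕ) (X : Type*) [Group X] :
    (piCore π X).Characteristic := by
  rw [Subgroup.characteristic_iff_map_le]
  intro ϕ
  unfold piCore
  rw [(Subgroup.gc_map_comap ϕ.toMonoidHom).l_sSup]
  apply iSup₂_le
  rintro N ⟨hN, hπ⟩
  apply le_sSup
  refine ⟨Subgroup.Normal.map hN ϕ.toMonoidHom ϕ.surjective, ?_⟩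
  intro p hp hd
  apply hπ p hp
  rwa [Nat.card_congr (N.equivMapOfInjective ϕ.toMonoidHom ϕ.injective).toEquiv]

theorem bi_normalizer_le_normalizer_piCoreOf (π : Set ℕ) (X : Subgroup G) :
    Subgroup.normalizer (X : Set G) ≤
      Subgroup.normalizer ((piCoreOf π X : Subgroup G) : Set G) := by
  have := bi_piCore_characteristic π X
  exact Cfsg.Agent.Lib.helper1.normalizer_le_normalizer_map_of_characteristic X (piCore π X)

theorem bi_le_piCoreOf_of_nilpotent [Finite G] {M U : Subgroup G} (hM : Group.IsNilpotent M)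
    (hUM : U ≤ M) (π : Set ℕ) (hπ : ∀ p : ℕ, p.Prime → p ∣ Nat.card U → p ∈ π) :
    U ≤ piCoreOf π M := by
  have hsub : (U.subgroupOf M).IsSubnormal :=
    Cfsg.Agent.Lib.helper65.isSubnormal_of_isNilpotent _
  have hle : U.subgroupOf M ≤ piCore π M := by
    apply Cfsg.Agent.Lib.helper65.le_piCore_of_isSubnormal hsub π
    intro p hp hd
    apply hπ p hp
    rwa [Nat.card_congr (Subgroup.subgroupOfEquivOfLe hUM).toEquiv] at hd
  intro u hu
  exact Subgroup.mem_map.mpr ⟨⟨u, hUM hu⟩, hle (Subgroup.mem_subgroupOf.mpr hu), rfl⟩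

theorem bi_isPGroup_of_forall_prime [Finite G] {r : ℕ} [Fact r.Prime] {U : Subgroup G}
    (h : ∀ p : ℕ, p.Prime → p ∣ Nat.card U → p ∈ ({r} : Set ℕ)) : IsPGroup r U := by
  apply IsPGroup.of_card (n := (Nat.card U).primeFactorsList.length)
  exact Nat.eq_prime_pow_of_unique_prime_dvd Nat.card_pos.ne' (fun {d} hd hdvd => h d hd hdvd)

theorem bi_forall_prime_of_isPGroup [Finite G] {r : ℕ} [Fact r.Prime] {U : Subgroup G}
    (h : IsPGroup r U) : ∀ p : ℕ, p.Prime → p ∣ Nat.card U → p ∈ ({r} : Set ℕ) := by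
  intro p hp hd
  obtain ⟨k, hk⟩ := IsPGroup.iff_card.mp h
  rw [hk] at hd
  exact (Nat.prime_dvd_prime_iff_eq hp Fact.out).mp (hp.dvd_of_dvd_pow hd)

theorem bi_coprime_of_forall_prime {a b : ℕ} (h : ∀ p : ℕ, p.Prime → p ∣ a → ¬ p ∣ b) :
    Nat.Coprime a b := by
  by_contra hne
  have hne' : Nat.gcd a b ≠ 1 := hne
  obtain ⟨p, hp, hd⟩ := Nat.exists_prime_and_dvd hne'
  exact h p hp (hd.trans (Nat.gcd_dvd_left a b)) (hd.trans (Nat.gcd_dvd_right a b))

theorem bi_normalizer_le_normalizer_centralizer (B : Subgroup G) :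
    Subgroup.normalizer (B : Set G) ≤
      Subgroup.normalizer ((Subgroup.centralizer (B : Set G) : Subgroup G) : Set G) := by
  intro g hg
  rw [Subgroup.mem_normalizer_iff] at hg ⊢
  intro x
  constructor
  · intro hx
    rw [Subgroup.mem_centralizer_iff] at hx ⊢
    intro b hb
    have hb' : g⁻¹ * b * g ∈ B := by
      rw [hg]
      have e : g * (g⁻¹ * b * g) * g⁻¹ = b := by group
      rw [e]; exact hb
    have h1 := hx _ hb'
    calc b * (g * x * g⁻¹) = g * ((g⁻¹ * b * g) * x) * g⁻¹ := by group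
      _ = g * (x * (g⁻¹ * b * g)) * g⁻¹ := by rw [h1]
      _ = g * x * g⁻¹ * b := by group
  · intro hx
    rw [Subgroup.mem_centralizer_iff] at hx ⊢
    intro b hb
    have hb' : g * b * g⁻¹ ∈ B := (hg b).mp hb
    have h1 := hx _ hb'
    calc b * x = g⁻¹ * ((g * b * g⁻¹) * (g * x * g⁻¹)) * g := by group
      _ = g⁻¹ * ((g * x * g⁻¹) * (g * b * g⁻¹)) * g := by rw [h1]
      _ = x * b := by group

theorem bi_isSolvable_sup {R M : Subgroup G} (hR : Group.IsSolvable R) (hM : Group.IsSolvable M)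
    (hMR : M ≤ Subgroup.normalizer (R : Set G)) : Group.IsSolvable ↥(R ⊔ M) := by
  have hRT : R ≤ R ⊔ M := le_sup_left
  have hMT : M ≤ R ⊔ M := le_sup_right
  have hnorm : (R.subgroupOf (R ⊔ M)).Normal := by
    rw [Subgroup.normal_subgroupOf_iff_le_normalizer hRT]
    exact sup_le Subgroup.le_normalizer hMR
  have hsup : R.subgroupOf (R ⊔ M) ⊔ M.subgroupOf (R ⊔ M) = ⊤ := by
    rw [← Subgroup.subgroupOf_sup hRT hMT]; exact Subgroup.subgroupOf_self _
  have hsurj : Function.Surjective ((QuotientGroup.mk' (R.subgroupOf (R ⊔ M))).comp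
      (Subgroup.inclusion hMT)) := by
    intro z
    obtain ⟨t, rfl⟩ := QuotientGroup.mk'_surjective _ z
    have ht : t ∈ (↑(R.subgroupOf (R ⊔ M) ⊔ M.subgroupOf (R ⊔ M)) : Set ↥(R ⊔ M)) := by
      rw [hsup]; trivial
    rw [Subgroup.normal_mul] at ht
    obtain ⟨a, ha, b, hb, rfl⟩ := Set.mem_mul.mp ht
    refine ⟨⟨(b : G), Subgroup.mem_subgroupOf.mp hb⟩, ?_⟩
    rw [MonoidHom.comp_apply, QuotientGroup.mk'_apply, QuotientGroup.mk'_apply, QuotientGroup.eq]
    have e : (Subgroup.inclusion hMT ⟨(b : G), Subgroup.mem_subgroupOf.mp hb⟩) = b :=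
      Subtype.ext rfl
    rw [e]
    have h1 := hnorm.conj_mem a ha b⁻¹
    simpa [mul_assoc] using h1
  have : Group.IsSolvable R := hR
  have : Group.IsSolvable M := hM
  have h2 : Group.IsSolvable (↥(R ⊔ M) ⧸ R.subgroupOf (R ⊔ M)) :=
    Group.isSolvable_of_surjective hsurj
  refine Group.isSolvable_of_ker_le_range (Subgroup.inclusion hRT)
    (QuotientGroup.mk' (R.subgroupOf (R ⊔ M))) ?_
  rw [QuotientGroup.ker_mk']
  intro x hx
  exact ⟨⟨(x : G), Subgroup.mem_subgroupOf.mp hx⟩, Subtype.ext rfl⟩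

/-! ### the Fitting subgroup of `H`, inside `G` -/

theorem bi_fittingOf_le (H : Subgroup G) : fittingOf H ≤ H := by
  unfold fittingOf; exact Subgroup.map_subtype_le _

theorem bi_le_normalizer_fittingOf (H : Subgroup G) :
    H ≤ Subgroup.normalizer ((fittingOf H : Subgroup G) : Set G) := by
  have := Cfsg.Agent.Lib.helper28.fittingSubgroup_characteristic H
  exact Subgroup.le_normalizer.trans
    (Cfsg.Agent.Lib.helper1.normalizer_le_normalizer_map_of_characteristic H (fittingSubgroup H))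

theorem bi_fittingOf_isNilpotent [Finite G] (H : Subgroup G) :
    Group.IsNilpotent (fittingOf H) := by
  have := Cfsg.Agent.Lib.helper28.fittingSubgroup_isNilpotent H
  exact Group.nilpotent_of_mulEquiv
    ((fittingSubgroup H).equivMapOfInjective H.subtype H.subtype_injective)

/-- The `r`-part of the center of `F(H)`, as a subgroup of `G`. -/
def biZ (H : Subgroup G) (r : ℕ) : Subgroup G :=
  piCoreOf {r} (fittingOf H ⊓ Subgroup.centralizer (fittingOf H : Set G))

theorem biZ_le (H : Subgroup G) (r : ℕ) {M : Subgroup G} (hM : M ≤ fittingOf H)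
    (hCM : fittingOf H ⊓ Subgroup.centralizer (M : Set G) ≤ M) : biZ H r ≤ M :=
  (Cfsg.Agent.Lib.helper29.piCoreOf_le _ _).trans
    ((inf_le_inf_left _ (Subgroup.centralizer_le hM)).trans hCM)

theorem biZ_isPGroup [Finite G] (H : Subgroup G) (r : ℕ) [Fact r.Prime] : IsPGroup r (biZ H r) :=
  bi_isPGroup_of_forall_prime (Cfsg.Agent.Lib.helper29.prime_mem_of_dvd_card_piCoreOf {r} _)

theorem biZ_le_normalizer (H : Subgroup G) (r : ℕ) :
    H ≤ Subgroup.normalizer ((biZ H r : Subgroup G) : Set G) := by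
  have h1 : H ≤ Subgroup.normalizer ((fittingOf H : Subgroup G) : Set G) :=
    bi_le_normalizer_fittingOf H
  have h2 : H ≤ Subgroup.normalizer
      ((Subgroup.centralizer (fittingOf H : Set G) : Subgroup G) : Set G) :=
    h1.trans (bi_normalizer_le_normalizer_centralizer _)
  exact (bi_le_normalizer_inf h1 h2).trans (bi_normalizer_le_normalizer_piCoreOf _ _)

theorem biZ_ne_bot [Finite G] (H : Subgroup G) {r : ℕ} [Fact r.Prime]
    (hr : r ∣ Nat.card (fittingOf H)) : biZ H r ≠ ⊥ := by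
  have hF : Group.IsNilpotent (fittingOf H) := bi_fittingOf_isNilpotent H
  obtain ⟨S⟩ : Nonempty (Sylow r (fittingOf H)) := inferInstance
  have hSn : (S : Subgroup (fittingOf H)).Normal := inferInstance
  have hSne : (S : Subgroup (fittingOf H)) ≠ ⊥ := S.ne_bot_of_dvd_card hr
  have h1 := Cfsg.Agent.Lib.helper28.normal_inf_center_ne_bot (S : Subgroup (fittingOf H)) hSne
  obtain ⟨⟨z, hzS, hzC⟩, hz1⟩ := (Subgroup.ne_bot_iff_exists_ne_one).mp h1
  have hzne : (z : G) ≠ 1 := by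
    intro h
    apply hz1
    apply Subtype.ext
    apply Subtype.ext
    exact h
  have hzCF : (z : G) ∈ Subgroup.centralizer ((fittingOf H : Subgroup G) : Set G) := by
    rw [Subgroup.mem_centralizer_iff]
    intro g hg
    have := (Subgroup.mem_center_iff.mp hzC) ⟨g, hg⟩
    exact congrArg Subtype.val this
  have hUZ : Subgroup.zpowers (z : G) ≤
      fittingOf H ⊓ Subgroup.centralizer (fittingOf H : Set G) :=
    Subgroup.zpowers_le.mpr ⟨z.2, hzCF⟩
  have hnorm : fittingOf H ⊓ Subgroup.centralizer (fittingOf H : Set G) ≤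
      Subgroup.normalizer ((Subgroup.zpowers (z : G) : Subgroup G) : Set G) := by
    apply Cfsg.Agent.Lib.helper29.le_normalizer_of_le_centralizer
    exact (Subgroup.zpowers_le.mpr hzCF).trans (Subgroup.centralizer_le inf_le_left)
  have hπ : ∀ p : ℕ, p.Prime → p ∣ Nat.card (Subgroup.zpowers (z : G)) → p ∈ ({r} : Set ℕ) := by
    intro p hp hd
    rw [Nat.card_zpowers] at hd
    obtain ⟨k, hk⟩ := S.2 ⟨z, hzS⟩
    have hk' : (z : G) ^ r ^ k = 1 := by
      have := congrArg Subtype.val (congrArg Subtype.val hk)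
      simpa using this
    have hd2 : p ∣ r ^ k := hd.trans (orderOf_dvd_of_pow_eq_one hk')
    exact (Nat.prime_dvd_prime_iff_eq hp Fact.out).mp (hp.dvd_of_dvd_pow hd2)
  have hle := Cfsg.Agent.Lib.helper29.le_piCoreOf hUZ hnorm hπ
  intro hbot
  have hmem : (z : G) ∈ biZ H r := hle (Subgroup.mem_zpowers _)
  rw [hbot, Subgroup.mem_bot] at hmem
  exact hzne hmem

theorem biZ_normalizer_eq [Finite G] (H : Subgroup G)
    (hHmax : ∀ L : Subgroup G, Cfsg.IsLocalSubgroup L → H ≤ L → L = H)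
    {r : ℕ} [Fact r.Prime] (hr : r ∣ Nat.card (fittingOf H)) :
    Subgroup.normalizer ((biZ H r : Subgroup G) : Set G) = H :=
  hHmax _ ⟨r, biZ H r, Fact.out, biZ_isPGroup H r, biZ_ne_bot H hr, rfl⟩ (biZ_le_normalizer H r)

theorem bi_X_inf_R_le [Finite G] (H R : Subgroup G) (hR : Group.IsSolvable R)
    (hXR : H ⊓ Subgroup.centralizer (fittingOf H : Set G) ≤ Subgroup.normalizer (R : Set G)) :
    H ⊓ Subgroup.centralizer (fittingOf H : Set G) ⊓ R ≤ fittingOf H := by
  set X := H ⊓ Subgroup.centralizer (fittingOf H : Set G) with hX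
  set Y := X ⊓ R with hY
  have hYH : Y ≤ H := inf_le_left.trans inf_le_left
  have hmemF : ∀ f : H, f ∈ fittingSubgroup H → (f : G) ∈ fittingOf H :=
    fun f hf => Subgroup.mem_map.mpr ⟨f, hf, rfl⟩
  have hN : Y.subgroupOf H ≤ Subgroup.centralizer (fittingSubgroup H : Set H) := by
    intro y hy
    rw [Subgroup.mem_subgroupOf] at hy
    rw [Subgroup.mem_centralizer_iff]
    intro f hf
    have hyC : (y : G) ∈ Subgroup.centralizer (fittingOf H : Set G) := hy.1.2
    have := (Subgroup.mem_centralizer_iff.mp hyC) (f : G) (hmemF f hf)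
    exact Subtype.ext this
  have hnorm : Subgroup.centralizer (fittingSubgroup H : Set H) ≤
      Subgroup.normalizer ((Y.subgroupOf H : Subgroup H) : Set H) := by
    intro c hc
    have hcX : (c : G) ∈ X := by
      refine ⟨c.2, ?_⟩
      show (c : G) ∈ Subgroup.centralizer ((fittingOf H : Subgroup G) : Set G)
      rw [Subgroup.mem_centralizer_iff]
      intro g hg
      obtain ⟨f, hf, rfl⟩ := Subgroup.mem_map.mp hg
      have := (Subgroup.mem_centralizer_iff.mp hc) f hf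
      exact congrArg Subtype.val this
    have hcN : (c : G) ∈ Subgroup.normalizer (Y : Set G) :=
      (bi_le_normalizer_inf (A := X) Subgroup.le_normalizer hXR) hcX
    rw [Subgroup.mem_normalizer_iff] at hcN ⊢
    intro h
    rw [Subgroup.mem_subgroupOf, Subgroup.mem_subgroupOf]
    exact hcN (h : G)
  have hsolv : Group.IsSolvable (Y.subgroupOf H) := by
    have h1 : Group.IsSolvable Y :=
      Group.isSolvable_of_isSolvable_injective
        (Subgroup.inclusion_injective (inf_le_right : Y ≤ R))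
    exact Group.isSolvable_of_isSolvable_injective
      (f := (Subgroup.subgroupOfEquivOfLe hYH).toMonoidHom)
      (Subgroup.subgroupOfEquivOfLe hYH).injective
  have key := Cfsg.Agent.Lib.helper27.solvable_le_center_fitting (Y.subgroupOf H) hN hnorm hsolv
  intro y hy
  have hy' : (⟨y, hYH hy⟩ : H) ∈ Y.subgroupOf H := Subgroup.mem_subgroupOf.mpr hy
  exact Subgroup.mem_map.mpr ⟨⟨y, hYH hy⟩, (key hy').1, rfl⟩


/-! ### invariant `π'`-subgroups have no fixed points -/

theorem bi_inv_cent_eq_bot [Finite G] (H : Subgroup G)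
    (hHmax : ∀ L : Subgroup G, Cfsg.IsLocalSubgroup L → H ≤ L → L = H)
    (M : Subgroup G) (hM : M ≤ fittingOf H)
    (hCM : fittingOf H ⊓ Subgroup.centralizer (M : Set G) ≤ M)
    (R : Subgroup G) (hR : Group.IsSolvable R)
    (hXR : H ⊓ Subgroup.centralizer (fittingOf H : Set G) ≤ Subgroup.normalizer (R : Set G))
    (K : Subgroup G) (hKR : K ≤ R) (hMK : M ≤ Subgroup.normalizer (K : Set G))
    (hKcop : (Nat.card K).Coprime (Nat.card (fittingOf H)))
    (B : Subgroup G) (hMB : M ≤ Subgroup.normalizer (B : Set G))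
    {r : ℕ} [Fact r.Prime] (hr : r ∣ Nat.card (fittingOf H)) (hZB : biZ H r ≤ B) :
    K ⊓ Subgroup.centralizer (B : Set G) = ⊥ := by
  have hFnil : Group.IsNilpotent (fittingOf H) := bi_fittingOf_isNilpotent H
  have hHF : H ≤ Subgroup.normalizer ((fittingOf H : Subgroup G) : Set G) :=
    bi_le_normalizer_fittingOf H
  set K₁ := K ⊓ Subgroup.centralizer (B : Set G) with hK₁
  have hK₁H : K₁ ≤ H := by
    have h1 : K₁ ≤ Subgroup.centralizer ((biZ H r : Subgroup G) : Set G) :=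
      inf_le_right.trans (Subgroup.centralizer_le hZB)
    have h2 := biZ_normalizer_eq H hHmax hr
    calc K₁ ≤ Subgroup.centralizer ((biZ H r : Subgroup G) : Set G) := h1
      _ ≤ Subgroup.normalizer ((biZ H r : Subgroup G) : Set G) :=
          Subgroup.centralizer_le_normalizer _
      _ = H := h2
  have hMK₁ : M ≤ Subgroup.normalizer (K₁ : Set G) :=
    bi_le_normalizer_inf hMK (hMB.trans (bi_normalizer_le_normalizer_centralizer B))
  have hK₁cop : (Nat.card K₁).Coprime (Nat.card (fittingOf H)) :=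
    Nat.Coprime.coprime_dvd_left (Subgroup.card_dvd_of_le inf_le_left) hKcop
  have hK₁F : K₁ ⊓ fittingOf H = ⊥ := (Subgroup.disjoint_of_coprime_natCard hK₁cop).eq_bot
  have hcomm : ⁅K₁, M⁆ = ⊥ := by
    have h1 : ⁅K₁, M⁆ ≤ K₁ := Cfsg.Agent.Lib.helper1.commutator_le_of_le_normalizer hMK₁
    have h2 : ⁅K₁, M⁆ ≤ fittingOf H := by
      have h3 : ⁅K₁, M⁆ ≤ ⁅H, fittingOf H⁆ := Subgroup.commutator_mono hK₁H hM
      exact h3.trans ((Subgroup.commutator_comm H (fittingOf H)).le.trans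
        (Cfsg.Agent.Lib.helper1.commutator_le_of_le_normalizer hHF))
    exact le_bot_iff.mp (hK₁F ▸ le_inf h1 h2)
  have hK₁M : K₁ ≤ Subgroup.centralizer (M : Set G) :=
    Subgroup.commutator_eq_bot_iff_le_centralizer.mp hcomm
  have hK₁CF : K₁ ≤ Subgroup.centralizer ((fittingOf H : Subgroup G) : Set G) :=
    bi_centralizes (fittingOf H) K₁ M hFnil (hK₁H.trans hHF) hK₁cop hM hCM hK₁M
  have hK₁Y : K₁ ≤ H ⊓ Subgroup.centralizer ((fittingOf H : Subgroup G) : Set G) ⊓ R :=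
    le_inf (le_inf hK₁H hK₁CF) (inf_le_left.trans hKR)
  have hK₁F' : K₁ ≤ fittingOf H := hK₁Y.trans (bi_X_inf_R_le H R hR hXR)
  exact le_bot_iff.mp (hK₁F ▸ le_inf le_rfl hK₁F')

/-! ### `p'`-elements of a nilpotent subgroup -/

theorem bi_orderOf_mul_coprime [Finite G] {F : Subgroup G} (hF : Group.IsNilpotent F) (p : ℕ)
    [Fact p.Prime] {x y : G} (hx : x ∈ F) (hy : y ∈ F) (hxo : (orderOf x).Coprime p)
    (hyo : (orderOf y).Coprime p) : (orderOf (x * y)).Coprime p := by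
  have key : ∀ z ∈ F, (orderOf z).Coprime p → z ∈ piCoreOf (primesNotDvd p) F := by
    intro z hz hzo
    have hle : Subgroup.zpowers z ≤ piCoreOf (primesNotDvd p) F := by
      apply bi_le_piCoreOf_of_nilpotent hF (Subgroup.zpowers_le.mpr hz)
      intro q hq hd
      rw [Nat.card_zpowers] at hd
      refine ⟨hq, fun hqp => ?_⟩
      exact hq.one_lt.ne' (Nat.eq_one_of_dvd_coprimes hzo hd hqp)
    exact hle (Subgroup.mem_zpowers z)
  have hxy : x * y ∈ piCoreOf (primesNotDvd p) F :=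
    Subgroup.mul_mem _ (key x hx hxo) (key y hy hyo)
  have hd : orderOf (x * y) ∣ Nat.card (piCoreOf (primesNotDvd p) F) :=
    Subgroup.orderOf_dvd_natCard _ hxy
  apply bi_coprime_of_forall_prime
  intro q hq hq1 hq2
  exact (Cfsg.Agent.Lib.helper29.prime_mem_of_dvd_card_piCoreOf _ F q hq (hq1.trans hd)).2 hq2


/-! ### the `p'`-part of `M` lies in `O_{p'}(RM)` -/

theorem bi_Bp_le [Finite G] (H : Subgroup G)
    (hHmax : ∀ L : Subgroup G, Cfsg.IsLocalSubgroup L → H ≤ L → L = H)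
    (M : Subgroup G) (hM : M ≤ fittingOf H)
    (hCM : fittingOf H ⊓ Subgroup.centralizer (M : Set G) ≤ M)
    (R : Subgroup G) (hR : Group.IsSolvable R) (hMR : M ≤ Subgroup.normalizer (R : Set G))
    {p : ℕ} [Fact p.Prime] (hp : p ∣ Nat.card (fittingOf H)) :
    piCoreOf (primesNotDvd p) M ≤ (pPrimeCore p ↥(R ⊔ M)).map (R ⊔ M).subtype := by
  have hFnil : Group.IsNilpotent (fittingOf H) := bi_fittingOf_isNilpotent H
  have hMnil : Group.IsNilpotent M := bi_isNilpotent_of_le_nilpotent hFnil hM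
  have hHF : H ≤ Subgroup.normalizer ((fittingOf H : Subgroup G) : Set G) :=
    bi_le_normalizer_fittingOf H
  have hMT : M ≤ R ⊔ M := le_sup_right
  have hTsolv : Group.IsSolvable ↥(R ⊔ M) :=
    bi_isSolvable_sup hR (bi_isSolvable_of_le_nilpotent hFnil hM) hMR
  set Bp := piCoreOf (primesNotDvd p) M with hBp
  set Pp := piCoreOf {p} M with hPp
  have hBpM : Bp ≤ M := Cfsg.Agent.Lib.helper29.piCoreOf_le _ _
  have hPpM : Pp ≤ M := Cfsg.Agent.Lib.helper29.piCoreOf_le _ _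
  have hPpp : IsPGroup p Pp :=
    bi_isPGroup_of_forall_prime (Cfsg.Agent.Lib.helper29.prime_mem_of_dvd_card_piCoreOf {p} M)
  have hBpcop : (Nat.card Bp).Coprime p := by
    apply bi_coprime_of_forall_prime
    intro q hq hq1 hq2
    exact (Cfsg.Agent.Lib.helper29.prime_mem_of_dvd_card_piCoreOf _ M q hq hq1).2 hq2
  have hMBp : M ≤ Subgroup.normalizer (Bp : Set G) :=
    Cfsg.Agent.Lib.helper29.le_normalizer_piCoreOf _ _
  have hMPp : M ≤ Subgroup.normalizer (Pp : Set G) :=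
    Cfsg.Agent.Lib.helper29.le_normalizer_piCoreOf _ _
  have hcomm : ⁅Bp, Pp⁆ = ⊥ := by
    have h1 : ⁅Bp, Pp⁆ ≤ Bp :=
      Cfsg.Agent.Lib.helper1.commutator_le_of_le_normalizer (hPpM.trans hMBp)
    have h2 : ⁅Bp, Pp⁆ ≤ Pp :=
      (Subgroup.commutator_comm Bp Pp).le.trans
        (Cfsg.Agent.Lib.helper1.commutator_le_of_le_normalizer (hBpM.trans hMPp))
    have h3 : Pp ⊓ Bp = ⊥ :=
      Cfsg.Agent.Lib.helper28.inf_eq_bot_of_isPGroup_of_coprime hPpp hBpcop
    exact le_bot_iff.mp (h3 ▸ le_inf h2 h1)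
  have hcomm' : ∀ b ∈ Bp, ∀ y ∈ Pp, y * b = b * y := by
    intro b hb y hy
    exact (Subgroup.mem_centralizer_iff.mp
      (Subgroup.commutator_eq_bot_iff_le_centralizer.mp hcomm hb)) y hy
  have hZP : biZ H p ≤ Pp := by
    apply bi_le_piCoreOf_of_nilpotent hMnil (biZ_le H p hM hCM)
    exact bi_forall_prime_of_isPGroup (biZ_isPGroup H p)
  have hNZ := biZ_normalizer_eq H hHmax hp
  have hPT : IsPGroup p (Pp.subgroupOf (R ⊔ M)) := hPpp.comap_subtype
  have hBT : (Nat.card (Bp.subgroupOf (R ⊔ M))).Coprime p := by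
    rw [Nat.card_congr (Subgroup.subgroupOfEquivOfLe (hBpM.trans hMT)).toEquiv]
    exact hBpcop
  have hBPT : ⁅Bp.subgroupOf (R ⊔ M), Pp.subgroupOf (R ⊔ M)⁆ = ⊥ := by
    rw [Subgroup.commutator_eq_bot_iff_le_centralizer]
    intro b hb
    rw [Subgroup.mem_centralizer_iff]
    intro y hy
    exact Subtype.ext (hcomm' b (Subgroup.mem_subgroupOf.mp hb) y (Subgroup.mem_subgroupOf.mp hy))
  have hkey : ∀ c ∈ Subgroup.centralizer ((Pp.subgroupOf (R ⊔ M) : Subgroup ↥(R ⊔ M)) : Set ↥(R ⊔ M)),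
      ∀ b ∈ Bp.subgroupOf (R ⊔ M), (orderOf (c * b * c⁻¹ * b⁻¹)).Coprime p := by
    intro c hc b hb
    have hbB : (b : G) ∈ Bp := Subgroup.mem_subgroupOf.mp hb
    have hcP : (c : G) ∈ Subgroup.centralizer (Pp : Set G) := by
      rw [Subgroup.mem_centralizer_iff]
      intro y hy
      have := (Subgroup.mem_centralizer_iff.mp hc) ⟨y, hMT (hPpM hy)⟩
        (Subgroup.mem_subgroupOf.mpr hy)
      exact congrArg Subtype.val this
    have hcH : (c : G) ∈ H := by
      have h1 : (c : G) ∈ Subgroup.normalizer ((biZ H p : Subgroup G) : Set G) :=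
        Subgroup.centralizer_le_normalizer _ (Subgroup.centralizer_le hZP hcP)
      rwa [hNZ] at h1
    have hbF : (b : G) ∈ fittingOf H := hM (hBpM hbB)
    have hbo : (orderOf (b : G)).Coprime p :=
      Nat.Coprime.coprime_dvd_left (Subgroup.orderOf_dvd_natCard _ hbB) hBpcop
    have hcbF : (c : G) * (b : G) * (c : G)⁻¹ ∈ fittingOf H :=
      ((Subgroup.mem_normalizer_iff.mp (hHF hcH)) (b : G)).mp hbF
    have hcbo : (orderOf ((c : G) * (b : G) * (c : G)⁻¹)).Coprime p := by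
      have e : orderOf ((c : G) * (b : G) * (c : G)⁻¹) = orderOf (b : G) := by
        have := MulEquiv.orderOf_eq (MulAut.conj (c : G)) (b : G)
        rwa [MulAut.conj_apply] at this
      rw [e]; exact hbo
    have hbinv : ((b : G))⁻¹ ∈ fittingOf H := Subgroup.inv_mem _ hbF
    have hbinvo : (orderOf ((b : G))⁻¹).Coprime p := by rw [orderOf_inv]; exact hbo
    have hfin := bi_orderOf_mul_coprime hFnil p hcbF hbinv hcbo hbinvo
    rw [← Subgroup.orderOf_coe]
    exact hfin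
  have key := bi_le_pPrimeCore hTsolv (Pp.subgroupOf (R ⊔ M)) (Bp.subgroupOf (R ⊔ M))
    hPT hBT hBPT hkey
  intro b hb
  exact Subgroup.mem_map.mpr
    ⟨⟨b, hMT (hBpM hb)⟩, key (Subgroup.mem_subgroupOf.mpr hb), rfl⟩

theorem bi_pPrimeCoreOf_le (p : ℕ) (T : Subgroup G) :
    (pPrimeCore p ↥T).map T.subtype ≤ T := Subgroup.map_subtype_le _

theorem bi_le_normalizer_pPrimeCoreOf (p : ℕ) (T : Subgroup G) :
    T ≤ Subgroup.normalizer ((((pPrimeCore p ↥T).map T.subtype : Subgroup G)) : Set G) := by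
  rw [Subgroup.le_normalizer_iff]
  intro x hx y hy
  obtain ⟨y', hy', rfl⟩ := Subgroup.mem_map.mp hy
  refine Subgroup.mem_map.mpr ⟨⟨x, hx⟩ * y' * ⟨x, hx⟩⁻¹, ?_, rfl⟩
  exact (pPrimeCore_normal p ↥T).conj_mem y' hy' ⟨x, hx⟩

theorem bi_card_pPrimeCoreOf_coprime [Finite G] (p : ℕ) (T : Subgroup G) :
    (Nat.card ((pPrimeCore p ↥T).map T.subtype : Subgroup G)).Coprime p := by
  rw [Subgroup.card_subtype]
  exact Cfsg.Agent.Lib.helper40.pPrimeCore_card_coprime p ↥T


/-! ### invariant `q`-subgroups lie in `O_{π'}(R)` -/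

theorem bi_inv_le_core [Finite G] (H : Subgroup G)
    (hHmax : ∀ L : Subgroup G, Cfsg.IsLocalSubgroup L → H ≤ L → L = H)
    (hF2 : 2 ≤ (Nat.card (fittingOf H)).primeFactors.card)
    (M : Subgroup G) (hM : M ≤ fittingOf H)
    (hCM : fittingOf H ⊓ Subgroup.centralizer (M : Set G) ≤ M)
    (R : Subgroup G) (hR : Group.IsSolvable R) (hMR : M ≤ Subgroup.normalizer (R : Set G))
    (hXR : H ⊓ Subgroup.centralizer (fittingOf H : Set G) ≤ Subgroup.normalizer (R : Set G))
    (q : ℕ) [Fact q.Prime] (hq : ¬ q ∣ Nat.card (fittingOf H))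
    (K : Subgroup G) (hK : K ∈ invSubgroups R M {q}) :
    K ≤ piCoreOf (primesNotDvd (Nat.card (fittingOf H))) R := by
  obtain ⟨hKR, hKq, hMK⟩ := hK
  have hFnil := bi_fittingOf_isNilpotent H
  have hKcop : (Nat.card K).Coprime (Nat.card (fittingOf H)) := by
    apply bi_coprime_of_forall_prime
    intro p hp hd hd2
    have hpq : p = q := hKq p hp hd
    subst hpq; exact hq hd2
  have hKsolv : Group.IsSolvable K := by
    have hKp : IsPGroup q K := bi_isPGroup_of_forall_prime hKq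
    have := hKp.isNilpotent
    infer_instance
  have hFne : Nat.card (fittingOf H) ≠ 0 := Nat.card_pos.ne'
  have hMnil : Group.IsNilpotent M := bi_isNilpotent_of_le_nilpotent hFnil hM
  have step : ∀ p : ℕ, p.Prime → p ∣ Nat.card (fittingOf H) →
      K ≤ (pPrimeCore p ↥(R ⊔ M)).map (R ⊔ M).subtype := by
    intro p hp hpF
    have : Fact p.Prime := ⟨hp⟩
    obtain ⟨r, hrmem, hrp⟩ := Finset.exists_mem_ne
      (by omega : 1 < (Nat.card (fittingOf H)).primeFactors.card) p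
    have hr : r.Prime := (Nat.mem_primeFactors.mp hrmem).1
    have hrF : r ∣ Nat.card (fittingOf H) := (Nat.mem_primeFactors.mp hrmem).2.1
    have : Fact r.Prime := ⟨hr⟩
    set Bp := piCoreOf (primesNotDvd p) M with hBp
    have hBpM : Bp ≤ M := Cfsg.Agent.Lib.helper29.piCoreOf_le _ _
    have hMBp : M ≤ Subgroup.normalizer (Bp : Set G) :=
      Cfsg.Agent.Lib.helper29.le_normalizer_piCoreOf _ _
    have hZB : biZ H r ≤ Bp := by
      apply bi_le_piCoreOf_of_nilpotent hMnil (biZ_le H r hM hCM)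
      intro s hs hd
      have hsr : s = r := bi_forall_prime_of_isPGroup (biZ_isPGroup H r) s hs hd
      subst hsr
      exact ⟨hs, fun hsp => hrp ((Nat.prime_dvd_prime_iff_eq hs hp).mp hsp)⟩
    have hfix := bi_inv_cent_eq_bot H hHmax M hM hCM R hR hXR K hKR hMK hKcop Bp hMBp hrF hZB
    have hBpcop : (Nat.card Bp).Coprime (Nat.card K) :=
      (Nat.Coprime.coprime_dvd_right (Subgroup.card_dvd_of_le (hBpM.trans hM)) hKcop).symm
    have hdec := Cfsg.Agent.Lib.helper1.commutator_sup_fixed Bp K (hBpM.trans hMK) hBpcop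
      (Or.inr hKsolv)
    rw [hfix, sup_bot_eq] at hdec
    have hBO := bi_Bp_le H hHmax M hM hCM R hR hMR hpF
    have hKT : K ≤ R ⊔ M := hKR.trans le_sup_left
    have hKO : K ≤ Subgroup.normalizer
        (((pPrimeCore p ↥(R ⊔ M)).map (R ⊔ M).subtype : Subgroup G) : Set G) :=
      hKT.trans (bi_le_normalizer_pPrimeCoreOf p (R ⊔ M))
    calc K = ⁅K, Bp⁆ := hdec.symm
      _ ≤ ⁅K, (pPrimeCore p ↥(R ⊔ M)).map (R ⊔ M).subtype⁆ :=
          Subgroup.commutator_mono le_rfl hBO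
      _ = ⁅(pPrimeCore p ↥(R ⊔ M)).map (R ⊔ M).subtype, K⁆ := Subgroup.commutator_comm _ _
      _ ≤ (pPrimeCore p ↥(R ⊔ M)).map (R ⊔ M).subtype :=
          Cfsg.Agent.Lib.helper1.commutator_le_of_le_normalizer hKO
  set N : Subgroup G := R ⊓ ⨅ p : {p : ℕ // p.Prime ∧ p ∣ Nat.card (fittingOf H)},
    (pPrimeCore (p : ℕ) ↥(R ⊔ M)).map (R ⊔ M).subtype with hN
  have hKN : K ≤ N := by
    refine le_inf hKR (le_iInf ?_)
    intro p
    exact step p p.2.1 p.2.2
  have hNR : N ≤ R := inf_le_left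
  have hRN : R ≤ Subgroup.normalizer (N : Set G) := by
    rw [Subgroup.le_normalizer_iff]
    intro x hx y hy
    obtain ⟨hy1, hy2⟩ := Subgroup.mem_inf.mp hy
    refine Subgroup.mem_inf.mpr ⟨R.mul_mem (R.mul_mem hx hy1) (R.inv_mem hx), ?_⟩
    rw [Subgroup.mem_iInf] at hy2 ⊢
    intro p
    have hxn := bi_le_normalizer_pPrimeCoreOf (p : ℕ) (R ⊔ M)
      ((le_sup_left : R ≤ R ⊔ M) hx)
    exact ((Subgroup.mem_normalizer_iff.mp hxn) y).mp (hy2 p)
  have hNπ : ∀ p : ℕ, p.Prime → p ∣ Nat.card N →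
      p ∈ primesNotDvd (Nat.card (fittingOf H)) := by
    intro p hp hd
    refine ⟨hp, fun hpF => ?_⟩
    have hle : N ≤ (pPrimeCore p ↥(R ⊔ M)).map (R ⊔ M).subtype :=
      inf_le_right.trans (iInf_le _ (⟨p, hp, hpF⟩ : {p : ℕ // p.Prime ∧ p ∣ Nat.card (fittingOf H)}))
    have hcop := bi_card_pPrimeCoreOf_coprime p (R ⊔ M)
    have hd2 : p ∣ Nat.card ((pPrimeCore p ↥(R ⊔ M)).map (R ⊔ M).subtype : Subgroup G) :=
      hd.trans (Subgroup.card_dvd_of_le hle)
    exact hp.one_lt.ne' (Nat.eq_one_of_dvd_coprimes hcop hd2 dvd_rfl)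
  exact hKN.trans (Cfsg.Agent.Lib.helper29.le_piCoreOf hNR hRN hNπ)


/-! ### the main theorem -/

theorem bi_main [Finite G] (H : Subgroup G)
    (hHmax : ∀ L : Subgroup G, Cfsg.IsLocalSubgroup L → H ≤ L → L = H)
    (hF2 : 2 ≤ (Nat.card (Cfsg.fittingOf H)).primeFactors.card)
    (M : Subgroup G) (hM : M ≤ Cfsg.fittingOf H)
    (hCM : Cfsg.fittingOf H ⊓ Subgroup.centralizer (M : Set G) ≤ M)
    (R : Subgroup G) (hR : Group.IsSolvable R) (hMR : M ≤ Subgroup.normalizer (R : Set G))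
    (hXR : H ⊓ Subgroup.centralizer (Cfsg.fittingOf H : Set G) ≤ Subgroup.normalizer (R : Set G))
    (q : ℕ) [Fact q.Prime] (hq : ¬ q ∣ Nat.card (Cfsg.fittingOf H)) :
    ∃! Q : Subgroup G, Q ∈ Cfsg.maxInvSubgroups R M {q} ∧
      (∀ Q' : Subgroup G, Q' ∈ Cfsg.maxInvSubgroups R M {q} →
        Q' ≤ Cfsg.piCoreOf (Cfsg.primesNotDvd (Nat.card (Cfsg.fittingOf H))) R ∧
        ¬ q ∣ Q'.relIndex
          (Cfsg.piCoreOf (Cfsg.primesNotDvd (Nat.card (Cfsg.fittingOf H))) R)) := by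
  have hFnil := bi_fittingOf_isNilpotent H
  have hMsolv : Group.IsSolvable M := bi_isSolvable_of_le_nilpotent hFnil hM
  set R₀ := piCoreOf (primesNotDvd (Nat.card (fittingOf H))) R with hR₀
  have hR₀R : R₀ ≤ R := Cfsg.Agent.Lib.helper29.piCoreOf_le _ _
  have hMR₀ : M ≤ Subgroup.normalizer (R₀ : Set G) :=
    hMR.trans (bi_normalizer_le_normalizer_piCoreOf _ R)
  have hR₀cop : (Nat.card R₀).Coprime (Nat.card (fittingOf H)) := by
    apply bi_coprime_of_forall_prime
    intro p hp hd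
    exact (Cfsg.Agent.Lib.helper29.prime_mem_of_dvd_card_piCoreOf _ R p hp hd).2
  have hcop₀ : (Nat.card M).Coprime (Nat.card R₀) :=
    (Nat.Coprime.coprime_dvd_right (Subgroup.card_dvd_of_le hM) hR₀cop).symm
  obtain ⟨r, hrmem⟩ : ∃ r, r ∈ (Nat.card (fittingOf H)).primeFactors := by
    apply Finset.card_pos.mp; omega
  have hr : r.Prime := (Nat.mem_primeFactors.mp hrmem).1
  have hrF : r ∣ Nat.card (fittingOf H) := (Nat.mem_primeFactors.mp hrmem).2.1
  have : Fact r.Prime := ⟨hr⟩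
  have hfix : R₀ ⊓ Subgroup.centralizer (M : Set G) = ⊥ :=
    bi_inv_cent_eq_bot H hHmax M hM hCM R hR hXR R₀ hR₀R hMR₀ hR₀cop M Subgroup.le_normalizer
      hrF (biZ_le H r hM hCM)
  obtain ⟨P₀, hP₀⟩ := Cfsg.Agent.Lib.helper1.exists_invariant_sylow (p := q) M R₀ hMR₀ hcop₀
    (Or.inl hMsolv)
  set Qs := (P₀ : Subgroup R₀).map R₀.subtype with hQs
  have hQsR₀ : Qs ≤ R₀ := Subgroup.map_subtype_le _
  have hQsq : IsPGroup q Qs := P₀.isPGroup'.map _
  have hQsinv : Qs ∈ invSubgroups R M {q} :=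
    ⟨hQsR₀.trans hR₀R, bi_forall_prime_of_isPGroup hQsq, hP₀⟩
  have hle : ∀ K ∈ invSubgroups R M {q}, K ≤ Qs := by
    intro K hK
    have hKR₀ : K ≤ R₀ := bi_inv_le_core H hHmax hF2 M hM hCM R hR hMR hXR q hq K hK
    have hKq : IsPGroup q K := bi_isPGroup_of_forall_prime hK.2.1
    obtain ⟨P', hKP', hP'⟩ := Cfsg.Agent.Lib.helper1.exists_invariant_sylow_ge M R₀ hMR₀ hcop₀
      (Or.inl hMsolv) K hKR₀ hKq hK.2.2
    obtain ⟨c, hc, hconj⟩ := Cfsg.Agent.Lib.helper1.invariant_sylow_conj M R₀ hMR₀ hcop₀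
      (Or.inl hMsolv) P' P₀ hP' hP₀
    rw [hfix, Subgroup.mem_bot] at hc
    rw [hc, map_one, one_smul] at hconj
    rw [hconj] at hKP'
    exact hKP'
  have hQsmax : Qs ∈ maxInvSubgroups R M {q} :=
    ⟨hQsinv, fun K hK hQK => le_antisymm (hle K hK) hQK⟩
  have huniq : ∀ Q' ∈ maxInvSubgroups R M {q}, Q' = Qs := by
    intro Q' hQ'
    exact (hQ'.2 Qs hQsinv (hle Q' hQ'.1)).symm
  have hidx : ¬ q ∣ Qs.relIndex R₀ := by
    have e : Qs.subgroupOf R₀ = (P₀ : Subgroup R₀) :=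
      Subgroup.comap_map_eq_self_of_injective R₀.subtype_injective _
    rw [Subgroup.relIndex, e]
    exact P₀.not_dvd_index
  refine ⟨Qs, ⟨hQsmax, ?_⟩, fun Q hQ => huniq Q hQ.1⟩
  intro Q' hQ'
  rw [huniq Q' hQ']
  exact ⟨hQsR₀, hidx⟩


end BenderInv

end Cfsg.Agent.Lib.helper31
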