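import Mathlib
import Cfsg.Prelude.Def_OddOrderLocal
import Cfsg.Prelude.Def_CaseTheorems
import Cfsg.Prelude.Def_Local
import Cfsg.Agent.Lib.helper27.Layer
import Cfsg.Agent.Lib.helper28.BenderMax
import Cfsg.Agent.Lib.helper31.BenderInv3

/-!
Minimal simple groups: a maximal subgroup `H` whose Fitting subgroup involves two primes is the only
maximal subgroup containing a subgroup `M` with `Z(F(H)) ≤ M ≤ F(H)` which normalizes no nontrivial
`π(F(H))'`-subgroup.
-/

set_option autoImplicit false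
open Cfsg

namespace Cfsg.Agent.Lib.helper31

section BenderUniq

variable {G : Type*} [Group G]

/-- Bender's trick, in a general form. -/
theorem bi_bender_trick [Finite G] (T : Subgroup G) (hT : Group.IsSolvable T) {p : ℕ}
    [Fact p.Prime] (P B : Subgroup G) (hPT : P ≤ T) (hBT : B ≤ T) (hP : IsPGroup p P)
    (hB : (Nat.card B).Coprime p) (hBP : ∀ b ∈ B, ∀ y ∈ P, y * b = b * y)
    (hc : T ⊓ Subgroup.centralizer (P : Set G) ≤ Subgroup.normalizer (B : Set G)) :
    B ≤ (pPrimeCore p ↥T).map T.subtype := by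
  have hPT' : IsPGroup p (P.subgroupOf T) := hP.comap_subtype
  have hBT' : (Nat.card (B.subgroupOf T)).Coprime p := by
    rw [Nat.card_congr (Subgroup.subgroupOfEquivOfLe hBT).toEquiv]
    exact hB
  have hBPT : ⁅B.subgroupOf T, P.subgroupOf T⁆ = ⊥ := by
    rw [Subgroup.commutator_eq_bot_iff_le_centralizer]
    intro b hb
    rw [Subgroup.mem_centralizer_iff]
    intro y hy
    exact Subtype.ext (hBP b (Subgroup.mem_subgroupOf.mp hb) y (Subgroup.mem_subgroupOf.mp hy))
  have hkey : ∀ c ∈ Subgroup.centralizer ((P.subgroupOf T : Subgroup ↥T) : Set ↥T),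
      ∀ b ∈ B.subgroupOf T, (orderOf (c * b * c⁻¹ * b⁻¹)).Coprime p := by
    intro c hc' b hb
    have hbB : (b : G) ∈ B := Subgroup.mem_subgroupOf.mp hb
    have hcP : (c : G) ∈ Subgroup.centralizer (P : Set G) := by
      rw [Subgroup.mem_centralizer_iff]
      intro y hy
      have := (Subgroup.mem_centralizer_iff.mp hc') ⟨y, hPT hy⟩ (Subgroup.mem_subgroupOf.mpr hy)
      exact congrArg Subtype.val this
    have hcN : (c : G) ∈ Subgroup.normalizer (B : Set G) := hc ⟨c.2, hcP⟩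
    have hcb : (c : G) * (b : G) * (c : G)⁻¹ ∈ B :=
      ((Subgroup.mem_normalizer_iff.mp hcN) (b : G)).mp hbB
    have hmem : (c : G) * (b : G) * (c : G)⁻¹ * (b : G)⁻¹ ∈ B :=
      B.mul_mem hcb (B.inv_mem hbB)
    rw [← Subgroup.orderOf_coe]
    exact Nat.Coprime.coprime_dvd_left (Subgroup.orderOf_dvd_natCard _ hmem) hB
  have key := bi_le_pPrimeCore hT (P.subgroupOf T) (B.subgroupOf T) hPT' hBT' hBPT hkey
  intro b hb
  exact Subgroup.mem_map.mpr ⟨⟨b, hBT hb⟩, key (Subgroup.mem_subgroupOf.mpr hb), rfl⟩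

theorem bi_le_centralizer_of_normal_coprime [Finite G] {p : ℕ} [Fact p.Prime] {T E O : Subgroup G}
    (hET : E ≤ T) (hOT : O ≤ T) (hTE : T ≤ Subgroup.normalizer (E : Set G))
    (hTO : T ≤ Subgroup.normalizer (O : Set G)) (hE : IsPGroup p E)
    (hO : (Nat.card O).Coprime p) : E ≤ Subgroup.centralizer (O : Set G) := by
  have h1 : ⁅E, O⁆ ≤ E := Cfsg.Agent.Lib.helper1.commutator_le_of_le_normalizer (hOT.trans hTE)
  have h2 : ⁅E, O⁆ ≤ O :=
    (Subgroup.commutator_comm E O).le.trans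
      (Cfsg.Agent.Lib.helper1.commutator_le_of_le_normalizer (hET.trans hTO))
  have h3 : E ⊓ O = ⊥ := Cfsg.Agent.Lib.helper28.inf_eq_bot_of_isPGroup_of_coprime hE hO
  exact Subgroup.commutator_eq_bot_iff_le_centralizer.mp (le_bot_iff.mp (h3 ▸ le_inf h1 h2))

theorem bi_normalizer_eq_of_coatom [IsSimpleGroup G] {H T : Subgroup G} (hH : IsCoatom H)
    (hT1 : T ≠ ⊥) (hTH : T ≤ H) (hHT : H ≤ Subgroup.normalizer (T : Set G)) :
    Subgroup.normalizer (T : Set G) = H := by
  by_contra hne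
  have hlt : H < Subgroup.normalizer (T : Set G) := lt_of_le_of_ne hHT (Ne.symm hne)
  have htop := hH.2 _ hlt
  have hn : T.Normal := Subgroup.normalizer_eq_top_iff.mp htop
  rcases hn.eq_bot_or_eq_top with h | h
  · exact hT1 h
  · exact hH.1 (top_le_iff.mp (h ▸ hTH))

theorem bi_fittingOf_ne_bot [Finite G] {N : Subgroup G} (hN : Group.IsSolvable N) (hne : N ≠ ⊥) :
    fittingOf N ≠ ⊥ := by
  intro hbot
  have hF : fittingSubgroup ↥N = ⊥ := by
    unfold fittingOf at hbot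
    exact (Subgroup.map_eq_bot_iff_of_injective _ N.subtype_injective).mp hbot
  have hsolv : Group.IsSolvable (⊤ : Subgroup ↥N) :=
    Group.isSolvable_of_isSolvable_injective (Subgroup.subtype_injective _)
  have key := Cfsg.Agent.Lib.helper27.solvable_le_center_fitting (⊤ : Subgroup ↥N)
    (by rw [hF]; intro x _; rw [Subgroup.mem_centralizer_iff]; intro h hh
        rw [Subgroup.coe_bot, Set.mem_singleton_iff] at hh; rw [hh]; simp)
    (by rw [Subgroup.normalizer_eq_top]; exact le_top) hsolv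
  rw [hF, bot_inf_eq] at key
  apply hne
  rw [eq_bot_iff]
  intro x hx
  have h1 : (⟨x, hx⟩ : ↥N) ∈ (⊥ : Subgroup ↥N) := key (Subgroup.mem_top _)
  rw [Subgroup.mem_bot] at h1 ⊢
  exact congrArg Subtype.val h1

theorem bi_fittingOf_le_of_forall [Finite G] (H T : Subgroup G)
    (h : ∀ p : ℕ, p.Prime → piCoreOf {p} H ≤ T) : fittingOf H ≤ T := by
  unfold fittingOf
  rw [Cfsg.Agent.Lib.helper65.fittingSubgroup_eq_primeCoreSup]
  unfold Cfsg.Agent.Lib.helper65.primeCoreSup
  rw [Subgroup.map_iSup]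
  exact iSup_le fun p => h p (Nat.prime_of_mem_primeFactors p.2)

theorem bi_piCoreOf_singleton_le_fittingOf [Finite G] (H : Subgroup G) {p : ℕ} (hp : p.Prime) :
    piCoreOf {p} H ≤ fittingOf H := by
  unfold piCoreOf fittingOf
  exact Subgroup.map_mono (Cfsg.Agent.Lib.helper65.piCore_singleton_le_fittingSubgroup hp)

theorem bi_generalizedFitting_map [Finite G] (H : Subgroup G) (hH : Group.IsSolvable H) :
    (generalizedFittingSubgroup ↥H).map H.subtype = fittingOf H := by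
  unfold generalizedFittingSubgroup fittingOf
  rw [Cfsg.Agent.Lib.helper27.layer_eq_bot_of_isSolvable, bot_sup_eq]

theorem bi_exists_normal_pgroup [Finite G] (n : ℕ) (M L : Subgroup G) (hML : M ≤ L)
    (hLsolv : Group.IsSolvable L)
    (hinv : ∀ Y ∈ Cfsg.invSubgroups ⊤ M (Cfsg.primesNotDvd n), Y = ⊥)
    (r : ℕ) (Z : Subgroup G) (hZ1 : Z ≠ ⊥) (hZL : Z ≤ L)
    (hZO : ∀ p : ℕ, p.Prime → p ∣ n → p ≠ r → Z ≤ (pPrimeCore p ↥L).map L.subtype) :
    ∃ E : Subgroup G, E ≠ ⊥ ∧ IsPGroup r E ∧ E ≤ L ∧ L ≤ Subgroup.normalizer (E : Set G) := by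
  set N : Subgroup G := L ⊓ ⨅ p : {p : ℕ // p.Prime ∧ p ∣ n ∧ p ≠ r},
    (pPrimeCore (p : ℕ) ↥L).map L.subtype with hN
  have hZN : Z ≤ N := le_inf hZL (le_iInf fun p => hZO p p.2.1 p.2.2.1 p.2.2.2)
  have hN1 : N ≠ ⊥ := fun h => hZ1 (le_bot_iff.mp (h ▸ hZN))
  have hNL : N ≤ L := inf_le_left
  have hLN : L ≤ Subgroup.normalizer (N : Set G) := by
    rw [Subgroup.le_normalizer_iff]
    intro x hx y hy
    obtain ⟨hy1, hy2⟩ := Subgroup.mem_inf.mp hy
    refine Subgroup.mem_inf.mpr ⟨L.mul_mem (L.mul_mem hx hy1) (L.inv_mem hx), ?_⟩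
    rw [Subgroup.mem_iInf] at hy2 ⊢
    intro p
    have hxn := bi_le_normalizer_pPrimeCoreOf (p : ℕ) L hx
    exact ((Subgroup.mem_normalizer_iff.mp hxn) y).mp (hy2 p)
  have hNsolv : Group.IsSolvable N :=
    Group.isSolvable_of_isSolvable_injective (Subgroup.inclusion_injective hNL)
  set E₀ := fittingOf N with hE₀
  have hE₀1 : E₀ ≠ ⊥ := bi_fittingOf_ne_bot hNsolv hN1
  have hE₀nil : Group.IsNilpotent E₀ := bi_fittingOf_isNilpotent N
  have hE₀N : E₀ ≤ N := bi_fittingOf_le N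
  have hNE₀ : Subgroup.normalizer (N : Set G) ≤ Subgroup.normalizer (E₀ : Set G) := by
    have := Cfsg.Agent.Lib.helper28.fittingSubgroup_characteristic N
    exact Cfsg.Agent.Lib.helper1.normalizer_le_normalizer_map_of_characteristic N
      (fittingSubgroup N)
  have hcard : Nat.card E₀ ≠ 1 := fun h => hE₀1 (Subgroup.card_eq_one.mp h)
  obtain ⟨s, hs, hsd⟩ := Nat.exists_prime_and_dvd hcard
  have : Fact s.Prime := ⟨hs⟩
  obtain ⟨x, hx⟩ := exists_prime_orderOf_dvd_card' s hsd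
  set E := piCoreOf {s} E₀ with hE
  have hEE₀ : E ≤ E₀ := Cfsg.Agent.Lib.helper29.piCoreOf_le _ _
  have hEs : IsPGroup s E :=
    bi_isPGroup_of_forall_prime (Cfsg.Agent.Lib.helper29.prime_mem_of_dvd_card_piCoreOf {s} E₀)
  have hxE : (x : G) ∈ E := by
    have hle : Subgroup.zpowers (x : G) ≤ E := by
      apply bi_le_piCoreOf_of_nilpotent hE₀nil (Subgroup.zpowers_le.mpr x.2)
      intro q hq hd
      rw [Nat.card_zpowers, Subgroup.orderOf_coe, hx] at hd
      exact (Nat.prime_dvd_prime_iff_eq hq hs).mp hd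
    exact hle (Subgroup.mem_zpowers _)
  have hE1 : E ≠ ⊥ := by
    intro h
    rw [h, Subgroup.mem_bot] at hxE
    have h1 : orderOf (x : G) = 1 := by rw [hxE, orderOf_one]
    rw [Subgroup.orderOf_coe, hx] at h1
    exact hs.one_lt.ne' h1
  have hEL : E ≤ L := hEE₀.trans (hE₀N.trans hNL)
  have hLE : L ≤ Subgroup.normalizer (E : Set G) :=
    hLN.trans (hNE₀.trans (bi_normalizer_le_normalizer_piCoreOf _ _))
  have hsn : s ∣ n := by
    by_contra hsn
    apply hE1
    apply hinv E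
    refine ⟨le_top, ?_, hML.trans hLE⟩
    intro q hq hd
    have hqs : q = s := bi_forall_prime_of_isPGroup hEs q hq hd
    subst hqs
    exact ⟨hq, hsn⟩
  have hsr : s = r := by
    by_contra hsr
    have hle : N ≤ (pPrimeCore s ↥L).map L.subtype :=
      inf_le_right.trans (iInf_le _ (⟨s, hs, hsn, hsr⟩ : {p : ℕ // p.Prime ∧ p ∣ n ∧ p ≠ r}))
    have hcop := bi_card_pPrimeCoreOf_coprime s L
    have hd2 : s ∣ Nat.card ((pPrimeCore s ↥L).map L.subtype : Subgroup G) :=
      (hsd.trans (Subgroup.card_dvd_of_le hE₀N)).trans (Subgroup.card_dvd_of_le hle)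
    exact hs.one_lt.ne' (Nat.eq_one_of_dvd_coprimes hcop hd2 dvd_rfl)
  subst hsr
  exact ⟨E, hE1, hEs, hEL, hLE⟩

theorem bi_uniq_main [Finite G] (hsimple : IsSimpleGroup G) (hna : ¬ IsMulCommutative G)
    (hsolv : ∀ H : Subgroup G, H ≠ ⊤ → Group.IsSolvable H)
    (H : Subgroup G) (hH : IsCoatom H)
    (hF2 : 2 ≤ (Nat.card (Cfsg.fittingOf H)).primeFactors.card)
    (M : Subgroup G) (hM : M ≤ Cfsg.fittingOf H)
    (hZM : Cfsg.fittingOf H ⊓ Subgroup.centralizer (Cfsg.fittingOf H : Set G) ≤ M)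
    (hinv : ∀ Y ∈ Cfsg.invSubgroups ⊤ M (Cfsg.primesNotDvd (Nat.card (Cfsg.fittingOf H))),
      Y = ⊥) :
    ∀ L : Subgroup G, IsCoatom L → M ≤ L → L = H := by
  intro L hL hML
  have hHsolv : Group.IsSolvable H := hsolv H hH.1
  have hLsolv : Group.IsSolvable L := hsolv L hL.1
  have hFH : fittingOf H ≤ H := bi_fittingOf_le H
  have hZle : ∀ r : ℕ, biZ H r ≤ M :=
    fun r => (Cfsg.Agent.Lib.helper29.piCoreOf_le _ _).trans hZM
  have hZF : ∀ r : ℕ, biZ H r ≤ fittingOf H := fun r => (hZle r).trans hM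
  have hZC : ∀ r : ℕ, biZ H r ≤ Subgroup.centralizer (fittingOf H : Set G) :=
    fun r => (Cfsg.Agent.Lib.helper29.piCoreOf_le _ _).trans inf_le_right
  have hNZ : ∀ r : ℕ, r.Prime → r ∣ Nat.card (fittingOf H) →
      Subgroup.normalizer ((biZ H r : Subgroup G) : Set G) = H := by
    intro r hr hrF
    have : Fact r.Prime := ⟨hr⟩
    exact bi_normalizer_eq_of_coatom hH (biZ_ne_bot H hrF) ((hZF r).trans hFH)
      (biZ_le_normalizer H r)
  have hother : ∀ p : ℕ, ∃ r : ℕ, r.Prime ∧ r ∣ Nat.card (fittingOf H) ∧ r ≠ p := by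
    intro p
    obtain ⟨r, hrmem, hrp⟩ := Finset.exists_mem_ne
      (by omega : 1 < (Nat.card (fittingOf H)).primeFactors.card) p
    exact ⟨r, (Nat.mem_primeFactors.mp hrmem).1, (Nat.mem_primeFactors.mp hrmem).2.1, hrp⟩
  have hcopr : ∀ (p r : ℕ), p.Prime → r.Prime → r ≠ p → ∀ E : Subgroup G, IsPGroup r E →
      (Nat.card E).Coprime p := by
    intro p r hp hr hrp E hE
    have : Fact r.Prime := ⟨hr⟩
    apply bi_coprime_of_forall_prime
    intro s hs hd hsp
    have hsr : s = r := bi_forall_prime_of_isPGroup hE s hs hd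
    subst hsr
    exact hrp ((Nat.prime_dvd_prime_iff_eq hs hp).mp hsp)
  have hI1 : ∀ p r : ℕ, p.Prime → r.Prime → p ∣ Nat.card (fittingOf H) →
      r ∣ Nat.card (fittingOf H) → r ≠ p →
      biZ H r ≤ (pPrimeCore p ↥L).map L.subtype := by
    intro p r hp hr hpF hrF hrp
    have : Fact p.Prime := ⟨hp⟩
    have : Fact r.Prime := ⟨hr⟩
    apply bi_bender_trick L hLsolv (biZ H p) (biZ H r) ((hZle p).trans hML)
      ((hZle r).trans hML) (biZ_isPGroup H p) (hcopr p r hp hr hrp _ (biZ_isPGroup H r))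
    · intro b hb y hy
      exact ((Subgroup.mem_centralizer_iff.mp (hZC p hy)) b (hZF r hb)).symm
    · intro x hx
      have h1 : x ∈ Subgroup.normalizer ((biZ H p : Subgroup G) : Set G) :=
        Subgroup.centralizer_le_normalizer _ hx.2
      rw [hNZ p hp hpF] at h1
      exact biZ_le_normalizer H r h1
  have hc4 : ∀ (p : ℕ), p.Prime → p ∣ Nat.card (fittingOf H) → ∀ E : Subgroup G, E ≤ L →
      L ≤ Subgroup.normalizer (E : Set G) → IsPGroup p E → E ≤ H := by
    intro p hp hpF E hEL hLE hE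
    have : Fact p.Prime := ⟨hp⟩
    obtain ⟨r, hr, hrF, hrp⟩ := hother p
    have h1 : E ≤ Subgroup.centralizer
        ((((pPrimeCore p ↥L).map L.subtype : Subgroup G)) : Set G) :=
      bi_le_centralizer_of_normal_coprime hEL (bi_pPrimeCoreOf_le p L) hLE
        (bi_le_normalizer_pPrimeCoreOf p L) hE (bi_card_pPrimeCoreOf_coprime p L)
    have h2 : E ≤ Subgroup.centralizer ((biZ H r : Subgroup G) : Set G) :=
      h1.trans (Subgroup.centralizer_le (hI1 p r hp hr hpF hrF hrp))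
    calc E ≤ Subgroup.centralizer ((biZ H r : Subgroup G) : Set G) := h2
      _ ≤ Subgroup.normalizer ((biZ H r : Subgroup G) : Set G) :=
          Subgroup.centralizer_le_normalizer _
      _ = H := hNZ r hr hrF
  have hEX : ∀ r : ℕ, r.Prime → r ∣ Nat.card (fittingOf H) →
      ∃ E : Subgroup G, E ≠ ⊥ ∧ IsPGroup r E ∧ E ≤ L ∧ L ≤ Subgroup.normalizer (E : Set G) := by
    intro r hr hrF
    have : Fact r.Prime := ⟨hr⟩
    exact bi_exists_normal_pgroup (Nat.card (fittingOf H)) M L hML hLsolv hinv r (biZ H r)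
      (biZ_ne_bot H hrF) ((hZle r).trans hML)
      (fun p hp hpF hpr => hI1 p r hp hr hpF hrF (Ne.symm hpr))
  have hI2 : ∀ p r : ℕ, p.Prime → r.Prime → p ∣ Nat.card (fittingOf H) →
      r ∣ Nat.card (fittingOf H) → r ≠ p → ∀ Ep Er : Subgroup G,
      (Ep ≠ ⊥ ∧ IsPGroup p Ep ∧ Ep ≤ L ∧ L ≤ Subgroup.normalizer (Ep : Set G)) →
      (Er ≠ ⊥ ∧ IsPGroup r Er ∧ Er ≤ L ∧ L ≤ Subgroup.normalizer (Er : Set G)) →
      Er ≤ (pPrimeCore p ↥H).map H.subtype := by
    intro p r hp hr hpF hrF hrp Ep Er ⟨hEp1, hEpp, hEpL, hLEp⟩ ⟨hEr1, hErr, hErL, hLEr⟩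
    have : Fact p.Prime := ⟨hp⟩
    have : Fact r.Prime := ⟨hr⟩
    have hEpH : Ep ≤ H := hc4 p hp hpF Ep hEpL hLEp hEpp
    have hErH : Er ≤ H := hc4 r hr hrF Er hErL hLEr hErr
    have hNEp : Subgroup.normalizer (Ep : Set G) = L :=
      bi_normalizer_eq_of_coatom hL hEp1 hEpL hLEp
    have hcomm : Ep ≤ Subgroup.centralizer (Er : Set G) :=
      bi_le_centralizer_of_normal_coprime hEpL hErL hLEp hLEr hEpp
        (hcopr p r hp hr hrp Er hErr)
    apply bi_bender_trick H hHsolv Ep Er hEpH hErH hEpp (hcopr p r hp hr hrp Er hErr)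
    · intro b hb y hy
      exact ((Subgroup.mem_centralizer_iff.mp (hcomm hy)) b hb).symm
    · intro x hx
      have h1 : x ∈ Subgroup.normalizer (Ep : Set G) :=
        Subgroup.centralizer_le_normalizer _ hx.2
      rw [hNEp] at h1
      exact hLEr h1
  have h7 : ∀ p : ℕ, p.Prime → piCoreOf {p} H ≤ L := by
    intro p hp
    have : Fact p.Prime := ⟨hp⟩
    have hHp : IsPGroup p (piCoreOf {p} H) :=
      bi_isPGroup_of_forall_prime (Cfsg.Agent.Lib.helper29.prime_mem_of_dvd_card_piCoreOf {p} H)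
    by_cases hpF : p ∣ Nat.card (fittingOf H)
    · obtain ⟨r, hr, hrF, hrp⟩ := hother p
      obtain ⟨Ep, hEp⟩ := hEX p hp hpF
      obtain ⟨Er, hEr⟩ := hEX r hr hrF
      have h1 := hI2 p r hp hr hpF hrF hrp Ep Er hEp hEr
      have h2 : piCoreOf {p} H ≤ Subgroup.centralizer
          ((((pPrimeCore p ↥H).map H.subtype : Subgroup G)) : Set G) :=
        bi_le_centralizer_of_normal_coprime (Cfsg.Agent.Lib.helper29.piCoreOf_le _ _)
          (bi_pPrimeCoreOf_le p H) (Cfsg.Agent.Lib.helper29.le_normalizer_piCoreOf _ _)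
          (bi_le_normalizer_pPrimeCoreOf p H) hHp (bi_card_pPrimeCoreOf_coprime p H)
      have hNEr : Subgroup.normalizer (Er : Set G) = L :=
        bi_normalizer_eq_of_coatom hL hEr.1 hEr.2.2.1 hEr.2.2.2
      calc piCoreOf {p} H ≤ Subgroup.centralizer (Er : Set G) :=
            h2.trans (Subgroup.centralizer_le h1)
        _ ≤ Subgroup.normalizer (Er : Set G) := Subgroup.centralizer_le_normalizer _
        _ = L := hNEr
    · have hle : piCoreOf {p} H ≤ fittingOf H := bi_piCoreOf_singleton_le_fittingOf H hp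
      have hcop : (Nat.card (piCoreOf {p} H)).Coprime (Nat.card (fittingOf H)) := by
        apply bi_coprime_of_forall_prime
        intro s hs hd hd2
        have hsp : s = p := bi_forall_prime_of_isPGroup hHp s hs hd
        subst hsp; exact hpF hd2
      have hbot : piCoreOf {p} H = ⊥ :=
        le_bot_iff.mp ((Subgroup.disjoint_of_coprime_natCard hcop).eq_bot ▸ le_inf le_rfl hle)
      rw [hbot]; exact bot_le
  have h8 : ∀ p : ℕ, p.Prime → piCoreOf {p} L ≤ H := by
    intro p hp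
    have : Fact p.Prime := ⟨hp⟩
    have hLp : IsPGroup p (piCoreOf {p} L) :=
      bi_isPGroup_of_forall_prime (Cfsg.Agent.Lib.helper29.prime_mem_of_dvd_card_piCoreOf {p} L)
    by_cases hpF : p ∣ Nat.card (fittingOf H)
    · exact hc4 p hp hpF _ (Cfsg.Agent.Lib.helper29.piCoreOf_le _ _)
        (Cfsg.Agent.Lib.helper29.le_normalizer_piCoreOf _ _) hLp
    · have hbot : piCoreOf {p} L = ⊥ := by
        apply hinv
        refine ⟨le_top, ?_, hML.trans (Cfsg.Agent.Lib.helper29.le_normalizer_piCoreOf _ _)⟩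
        intro s hs hd
        have hsp : s = p := bi_forall_prime_of_isPGroup hLp s hs hd
        subst hsp; exact ⟨hs, hpF⟩
      rw [hbot]; exact bot_le
  by_contra hLH
  have h1 : (generalizedFittingSubgroup ↥H).map H.subtype ≤ L := by
    rw [bi_generalizedFitting_map H hHsolv]; exact bi_fittingOf_le_of_forall H L h7
  have h2 : (generalizedFittingSubgroup ↥L).map L.subtype ≤ H := by
    rw [bi_generalizedFitting_map L hLsolv]; exact bi_fittingOf_le_of_forall L H h8
  obtain ⟨p, hp, hpH, -⟩ :=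
    Cfsg.Agent.Lib.helper28.bender_maximal_subgroup hna H L hH hL (Ne.symm hLH) h1 h2
  have hgf : generalizedFittingSubgroup ↥H = fittingSubgroup ↥H := by
    unfold generalizedFittingSubgroup
    rw [Cfsg.Agent.Lib.helper27.layer_eq_bot_of_isSolvable, bot_sup_eq]
  rw [hgf] at hpH
  have : Fact p.Prime := ⟨hp⟩
  obtain ⟨k, hk⟩ := IsPGroup.iff_card.mp hpH
  have hcardF : Nat.card (fittingOf H) = p ^ k := by
    unfold fittingOf; rw [Subgroup.card_subtype]; exact hk
  rw [hcardF] at hF2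
  have hsub : (p ^ k).primeFactors ⊆ {p} := by
    intro s hs
    have h3 := Nat.mem_primeFactors.mp hs
    exact Finset.mem_singleton.mpr
      ((Nat.prime_dvd_prime_iff_eq h3.1 hp).mp (h3.1.dvd_of_dvd_pow h3.2.1))
  have hle := Finset.card_le_card hsub
  rw [Finset.card_singleton] at hle
  omega


end BenderUniq

end Cfsg.Agent.Lib.helper31
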