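import Mathlib
import Cfsg.Prelude
import Cfsg.Agent.S1473
import Cfsg.Agent.S1474
import Cfsg.Agent.S1476
import Cfsg.Agent.S1477
import Cfsg.Agent.S0044
import Cfsg.Agent.S1995
import Cfsg.Agent.Lib.helper28.Fitting
import Cfsg.Agent.Lib.helper40.Cores
import Cfsg.Agent.Lib.helper55.Basic
import Cfsg.Agent.Lib.helper30.PStable
import Cfsg.Agent.Lib.helper1.GT
import Cfsg.Agent.Lib.helper14.ZJ
import Cfsg.Agent.Lib.helper14.ZJ2
import Cfsg.Agent.Lib.helper39.SecTransferC

/-!
# Feit–Hall–Thompson local analysis for minimal simple CN-groups of odd order, part 1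

* `isPStableOn_of_odd`: groups of odd order are `p`-stable on normal `p`-subgroups;
* `sylow_le_commutator_normalizer_zj`: in a minimal simple group of odd order every Sylow
  `p`-subgroup `P` lies in the derived group of `N_G(Z(J(P)))` (Glauberman ZJ + transfer);
* three-step groups: basic structure, and `no_three_step`: a minimal simple CN-group of odd
  order has no three-step subgroups.
-/

set_option autoImplicit false

namespace Cfsg.Agent.Lib.helper31

open scoped commutatorElement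
open Cfsg

universe u

/-- groups of odd order are `p`-stable on their normal `p`-subgroups (`p` odd) -/
theorem isPStableOn_of_odd {X : Type u} [Group X] [Finite X] (hodd : Odd (Nat.card X)) (p : ℕ)
    [Fact p.Prime] (hp : p ≠ 2) (V : Subgroup X) [hVn : V.Normal] (hV : IsPGroup p V) :
    Cfsg.IsPStableOn p V := by
  intro a ha
  exact Cfsg.Agent.Lib.helper30.pstable_hom hodd p hp V hV (MonoidHom.id X)
    (QuotientGroup.mk' (Subgroup.centralizer (V : Set X))) (QuotientGroup.mk'_surjective _)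
    (fun n => by
      rw [Subgroup.normalizer_eq_top_iff.mpr hVn]; exact Subgroup.mem_top _)
    (fun n hn => (QuotientGroup.eq_one_iff n).mpr hn) a
    (fun u hu => Cfsg.Agent.Lib.helper30.quad_of_commutator_eq_bot V (Subgroup.zpowers a) ha a
      (Subgroup.mem_zpowers a) u hu)

/-- `Z(J(T))` controls transfer in groups of odd order (Glauberman's ZJ-theorem together with
the reduction to constrained sections) -/
theorem exists_sylow_transfer {G : Type u} [Group G] [Finite G] (hodd : Odd (Nat.card G)) (p : ℕ)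
    [Fact p.Prime] (hp : p ≠ 2) :
    ∃ T : Sylow p G, (T : Subgroup G) ⊓ commutator G ≤
      ⁅Subgroup.normalizer (Cfsg.Agent.Lib.helper14.zjE 0 (T : Subgroup G) : Set G),
        Subgroup.normalizer (Cfsg.Agent.Lib.helper14.zjE 0 (T : Subgroup G) : Set G)⁆ := by
  have hW := Cfsg.Agent.Lib.helper1.isCharPFunctor_zjFunctor.{u} p
  have h := Cfsg.Agent.S1995.result (G := G) (p := p) {Cfsg.Agent.Lib.helper1.zjFunctor}
    (Cfsg.Agent.Lib.helper39.isCharPFunctor_singleton hW) (by
      intro K R hR hc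
      have hoddX : Odd (Nat.card (↥K ⧸ R.subgroupOf K)) := by
        refine hodd.of_dvd_nat ?_
        exact (Subgroup.card_quotient_dvd_card _).trans (Subgroup.card_subgroup_dvd_card K)
      obtain ⟨S⟩ : Nonempty (Sylow p (↥K ⧸ R.subgroupOf K)) := inferInstance
      have hn := Cfsg.Agent.Lib.helper14.zjE_normal hp 0 hc
        (fun V _ hV => isPStableOn_of_odd hoddX p hp V hV) S
      refine ⟨S, le_top, S.isPGroup', ?_, ?_⟩
      · rw [Subgroup.relIndex_top_right]; exact S.not_dvd_index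
      · rw [Set.image_singleton, iSup_singleton,
          Cfsg.Agent.Lib.helper1.inducedFunctor_zjFunctor,
          Subgroup.normalizer_eq_top_iff.mpr hn, inf_top_eq])
  obtain ⟨T, -, hTp, hTi, hT⟩ := h
  rw [Subgroup.relIndex_top_right] at hTi
  rw [Set.image_singleton, iSup_singleton, Cfsg.Agent.Lib.helper1.inducedFunctor_zjFunctor,
    top_inf_eq] at hT
  refine ⟨hTp.toSylow hTi, ?_⟩
  rw [IsPGroup.toSylow_coe, commutator_def, hT]
  exact inf_le_right

theorem map_conj_eq_of_mem_normalizer {G : Type*} [Group G] {P : Subgroup G} {x : G}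
    (hx : x ∈ Subgroup.normalizer (P : Set G)) : P.map (MulAut.conj x).toMonoidHom = P := by
  ext y
  rw [Subgroup.mem_map_equiv]
  simp only [MulAut.conj_symm_apply]
  exact ((Subgroup.mem_normalizer_iff''.mp hx) y).symm

theorem mem_normalizer_of_map_conj_eq {G : Type*} [Group G] {Z : Subgroup G} {x : G}
    (h : Z.map (MulAut.conj x).toMonoidHom = Z) : x ∈ Subgroup.normalizer (Z : Set G) := by
  rw [Subgroup.mem_normalizer_iff]
  intro y
  constructor
  · intro hy
    rw [← h]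
    exact ⟨y, hy, by simp⟩
  · intro hy
    rw [← h] at hy
    obtain ⟨z, hz, hzy⟩ := hy
    have : z = y := by
      simp only [MulEquiv.coe_toMonoidHom, MulAut.conj_apply] at hzy
      have h2 := mul_left_cancel (mul_right_cancel hzy)
      exact h2
    rw [← this]; exact hz

/-- a minimal simple group is perfect -/
theorem commutator_eq_top_of_minSimple {G : Type*} [Group G] (hG : Cfsg.IsMinimalSimple G) :
    commutator G = ⊤ := by
  obtain ⟨hs, hna, -⟩ := hG
  have hn : (commutator G).Normal := inferInstance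
  rcases hn.eq_bot_or_eq_top with h | h
  · exfalso
    apply hna
    rw [isMulCommutative_iff]
    intro a b
    have h1 : ⁅a, b⁆ ∈ commutator G := by
      rw [commutator_def]
      exact Subgroup.commutator_mem_commutator (Subgroup.mem_top a) (Subgroup.mem_top b)
    rw [h, Subgroup.mem_bot, commutatorElement_eq_one_iff_commute] at h1
    exact h1.eq
  · exact h

/-- in a group of odd order the Sylow `2`-subgroups are trivial -/
theorem sylow_two_eq_bot {G : Type*} [Group G] [Finite G] (hodd : Odd (Nat.card G))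
    (P : Sylow 2 G) : (P : Subgroup G) = ⊥ := by
  obtain ⟨k, hk⟩ := IsPGroup.exists_card_eq P.isPGroup'
  have hdvd : Nat.card (P : Subgroup G) ∣ Nat.card G := Subgroup.card_subgroup_dvd_card _
  have hk0 : k = 0 := by
    by_contra hk0
    have h2 : 2 ∣ Nat.card G := by
      refine Dvd.dvd.trans ?_ hdvd
      rw [hk]; exact dvd_pow_self 2 hk0
    exact (Nat.not_even_iff_odd.mpr hodd) (even_iff_two_dvd.mpr h2)
  rw [hk0, pow_zero] at hk
  exact Subgroup.card_eq_one.mp hk

/-- **Transfer**: in a minimal simple group of odd order, every Sylow `p`-subgroup `P` lies in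
the derived group of `N_G(Z(J(P)))`. -/
theorem sylow_le_commutator_normalizer_zj {G : Type u} [Group G] [Finite G]
    (hG : Cfsg.IsMinSimpleOddOrder G) (p : ℕ) [hpf : Fact p.Prime] (P : Sylow p G) :
    (P : Subgroup G) ≤
      ⁅Subgroup.normalizer (Cfsg.Agent.Lib.helper14.zjE 0 (P : Subgroup G) : Set G),
        Subgroup.normalizer (Cfsg.Agent.Lib.helper14.zjE 0 (P : Subgroup G) : Set G)⁆ := by
  obtain ⟨hodd, hms⟩ := hG
  by_cases hp : p = 2
  · subst hp
    rw [sylow_two_eq_bot hodd P]; exact bot_le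
  · obtain ⟨T, hT⟩ := exists_sylow_transfer hodd p hp
    rw [commutator_eq_top_of_minSimple hms, inf_top_eq] at hT
    obtain ⟨g, hg⟩ := MulAction.exists_smul_eq G T P
    have hPT : (P : Subgroup G) = (T : Subgroup G).map (MulAut.conj g).toMonoidHom := by
      rw [← hg]; rfl
    rw [hPT, Cfsg.Agent.Lib.helper14.zjE_map, ← Subgroup.map_equiv_normalizer_eq,
      ← Subgroup.map_commutator]
    exact Subgroup.map_mono hT

/-! ### Three-step groups -/

/-- `O_m(L)` is an `m`-group, for any `m` -/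
theorem pCore_isPGroup' (m : ℕ) (L : Type*) [Group L] : IsPGroup m (Cfsg.pCore m L) :=
  Sylow.sSup_of_normal _ (fun _ h => h.2) (fun _ h => h.1)

/-- if every prime divisor of `o` divides `m` then `o ∣ m ^ o` -/
theorem dvd_pow_of_primes : ∀ (o : ℕ) (m : ℕ), o ≠ 0 →
    (∀ s : ℕ, s.Prime → s ∣ o → s ∣ m) → o ∣ m ^ o := by
  intro o
  induction o using Nat.strong_induction_on with
  | _ o ih =>
  intro m ho h
  by_cases h1 : o = 1
  · rw [h1]; exact one_dvd _
  obtain ⟨s, hs, hsd⟩ := Nat.exists_prime_and_dvd h1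
  obtain ⟨o', rfl⟩ := hsd
  have ho' : o' ≠ 0 := fun h0 => ho (by rw [h0, mul_zero])
  have hlt : o' < s * o' := by
    have := hs.two_le
    nlinarith [Nat.pos_of_ne_zero ho']
  have h2 := ih o' hlt m ho' (fun t ht htd => h t ht (htd.trans (dvd_mul_left o' s)))
  have h3 : s ∣ m := h s hs (dvd_mul_right s o')
  have h4 : s * o' ∣ m ^ (o' + 1) := by
    rw [pow_succ']
    exact Nat.mul_dvd_mul h3 h2
  exact h4.trans (pow_dvd_pow m hlt)

theorem prime_eq_of_pow {X : Type*} [Group X] {p r : ℕ} (hp : p.Prime) (hr : r.Prime) {x : X}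
    (hx : x ≠ 1) {i j : ℕ} (h1 : x ^ (p ^ i) = 1) (h2 : x ^ (r ^ j) = 1) : p = r := by
  by_contra hne
  apply hx
  apply Cfsg.Agent.Lib.helper40.eq_one_of_pow_eq_one_of_coprime h1
  have h3 : orderOf x ∣ r ^ j := orderOf_dvd_of_pow_eq_one h2
  exact Nat.Coprime.coprime_dvd_left h3
    (Nat.Coprime.pow_left j ((Nat.coprime_primes hr hp).mpr (Ne.symm hne)))

/-- the quotient of a three-step group by a normal subgroup of `O_m` is not nilpotent -/
theorem ts_not_nilp_quot {L : Type*} [Group L] [Finite L] {m : ℕ}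
    (h : Cfsg.IsThreeStepGroup m L) (N : Subgroup L) [hNn : N.Normal]
    (hN : N ≤ Cfsg.pCore m L) : ¬ Group.IsNilpotent (L ⧸ N) := by
  intro hnil
  obtain ⟨hH1, A, hA1, hAc, hAodd, hAcop, hKn, hKtop, ⟨n, hKidx⟩, hfpf, hlast⟩ := h
  have hHn : (Cfsg.pCore m L).Normal := Cfsg.Agent.Lib.helper40.pCore_normal' m L
  have hnilH : Group.IsNilpotent (L ⧸ Cfsg.pCore m L) := by
    refine Group.nilpotent_of_surjective
      (QuotientGroup.map N (Cfsg.pCore m L) (MonoidHom.id L) (fun x hx => hN hx)) ?_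
    intro y
    obtain ⟨x, rfl⟩ := QuotientGroup.mk_surjective y
    exact ⟨QuotientGroup.mk x, rfl⟩
  obtain ⟨⟨a, haA⟩, ha1⟩ := (Subgroup.ne_bot_iff_exists_ne_one).mp hA1
  have ha1' : a ≠ 1 := fun h => ha1 (Subtype.ext h)
  have haH : a ∉ Cfsg.pCore m L := by
    intro haH
    have h1 : a ∈ Cfsg.pCore m L ⊓ Subgroup.centralizer ({a} : Set L) :=
      Subgroup.mem_inf.mpr ⟨haH, Subgroup.mem_centralizer_singleton_iff.mpr rfl⟩
    rw [hfpf a haA ha1', Subgroup.mem_bot] at h1
    exact ha1' h1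
  have hKbn : ((Cfsg.pCore m L ⊔ A).map (QuotientGroup.mk' (Cfsg.pCore m L))).Normal :=
    Subgroup.Normal.map hKn _ (QuotientGroup.mk'_surjective _)
  have hKb1 : (Cfsg.pCore m L ⊔ A).map (QuotientGroup.mk' (Cfsg.pCore m L)) ≠ ⊥ := by
    intro hbot
    have h1 : QuotientGroup.mk' (Cfsg.pCore m L) a ∈
        (Cfsg.pCore m L ⊔ A).map (QuotientGroup.mk' (Cfsg.pCore m L)) :=
      Subgroup.mem_map_of_mem _ ((le_sup_right : A ≤ Cfsg.pCore m L ⊔ A) haA)
    rw [hbot, Subgroup.mem_bot] at h1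
    exact haH ((QuotientGroup.eq_one_iff a).mp h1)
  have hz := Cfsg.Agent.Lib.helper28.normal_inf_center_ne_bot _ hKb1
  obtain ⟨⟨z, hz⟩, hz1⟩ := (Subgroup.ne_bot_iff_exists_ne_one).mp hz
  have hz1' : z ≠ 1 := fun h => hz1 (Subtype.ext h)
  obtain ⟨hzK, hzc⟩ := Subgroup.mem_inf.mp hz
  obtain ⟨k, hk, rfl⟩ := hzK
  obtain ⟨y, hy, a', ha', rfl⟩ := Subgroup.mem_sup_of_normal_left.mp hk
  have hya : QuotientGroup.mk' (Cfsg.pCore m L) (y * a') =
      QuotientGroup.mk' (Cfsg.pCore m L) a' := by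
    have hy1 : QuotientGroup.mk' (Cfsg.pCore m L) y = 1 := (QuotientGroup.eq_one_iff y).mpr hy
    rw [map_mul, hy1, one_mul]
  rw [hya] at hz1' hzc
  have ha'H : a' ∉ Cfsg.pCore m L := fun hh => hz1' ((QuotientGroup.eq_one_iff _).mpr hh)
  have ha'1 : a' ≠ 1 := fun h => ha'H (h ▸ one_mem _)
  obtain ⟨x, hx⟩ : ∃ x : L, x ∉ Cfsg.pCore m L ⊔ A := by
    by_contra hall
    push Not at hall
    exact hKtop (eq_top_iff.mpr (fun x _ => hall x))
  apply hlast x hx a' ha' ha'1
  have hc := Subgroup.mem_center_iff.mp hzc (QuotientGroup.mk' _ x)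
  rw [← QuotientGroup.eq_one_iff]
  have h2 : ((x * a' * x⁻¹ * a'⁻¹ : L) : L ⧸ Cfsg.pCore m L) =
      QuotientGroup.mk' _ x * QuotientGroup.mk' _ a' * (QuotientGroup.mk' _ x)⁻¹ *
        (QuotientGroup.mk' _ a')⁻¹ := by simp
  rw [h2, hc]
  group

/-- a three-step group is not nilpotent -/
theorem ts_not_nilp {L : Type*} [Group L] [Finite L] {m : ℕ} (h : Cfsg.IsThreeStepGroup m L) :
    ¬ Group.IsNilpotent L := by
  intro hn
  have := Cfsg.Agent.Lib.helper40.pCore_normal' m L
  exact ts_not_nilp_quot h (Cfsg.pCore m L) le_rfl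
    (Group.nilpotent_of_surjective (QuotientGroup.mk' _) (QuotientGroup.mk'_surjective _))

/-- a nontrivial normal Sylow `q`-subgroup of an `m`-three-step group has `q ∣ m` -/
theorem ts_normal_sylow_dvd {L : Type*} [Group L] [Finite L] {m : ℕ}
    (h : Cfsg.IsThreeStepGroup m L) (q : ℕ) [hq : Fact q.Prime] (Q : Sylow q L)
    (hQn : (Q : Subgroup L).Normal) (hQ1 : (Q : Subgroup L) ≠ ⊥) : q ∣ m := by
  by_contra hqm
  obtain ⟨hH1, A, hA1, hAc, hAodd, hAcop, hKn, hKtop, ⟨n, hKidx⟩, hfpf, hlast⟩ := h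
  have hHn : (Cfsg.pCore m L).Normal := Cfsg.Agent.Lib.helper40.pCore_normal' m L
  have hHm := pCore_isPGroup' m L
  have hqp : q.Prime := hq.out
  have hqL : q ∣ Nat.card L := by
    obtain ⟨k, hk⟩ := IsPGroup.exists_card_eq Q.isPGroup'
    have hk0 : k ≠ 0 := by
      intro h0
      rw [h0, pow_zero] at hk
      exact hQ1 (Subgroup.card_eq_one.mp hk)
    exact (dvd_pow_self q hk0).trans (hk ▸ Subgroup.card_subgroup_dvd_card _)
  have hqK : q ∣ Nat.card ↥(Cfsg.pCore m L ⊔ A) := by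
    have h1 := Subgroup.card_mul_index (Cfsg.pCore m L ⊔ A)
    rw [hKidx] at h1
    rw [← h1] at hqL
    rcases (Nat.Prime.dvd_mul hqp).mp hqL with h2 | h2
    · exact h2
    · exact absurd (hqp.dvd_of_dvd_pow h2) hqm
  have hqH : ¬ q ∣ Nat.card ↥(Cfsg.pCore m L) := by
    intro hd
    obtain ⟨x, hx⟩ := exists_prime_orderOf_dvd_card' q hd
    obtain ⟨j, hj⟩ := hHm x
    have h2 : q ∣ m ^ j := hx ▸ orderOf_dvd_of_pow_eq_one hj
    exact hqm (hqp.dvd_of_dvd_pow h2)
  have hqA : q ∣ Nat.card ↥A := by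
    have h1 := Cfsg.Agent.Lib.helper40.card_sup_dvd_mul A (Cfsg.pCore m L)
    rw [sup_comm] at h1
    rcases (Nat.Prime.dvd_mul hqp).mp (hqK.trans h1) with h2 | h2
    · exact h2
    · exact absurd h2 hqH
  obtain ⟨⟨a, haA⟩, ha⟩ := exists_prime_orderOf_dvd_card' q hqA
  have hao : orderOf a = q := by
    rw [← ha]
    exact (Subgroup.orderOf_mk a haA).symm
  have ha1 : a ≠ 1 := by
    intro h1
    rw [h1, orderOf_one] at hao
    exact hqp.ne_one hao.symm
  have haQ : a ∈ (Q : Subgroup L) := by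
    have hz : IsPGroup q (Subgroup.zpowers a) :=
      Cfsg.Agent.S1473.isPGroup_zpowers (p := q) (k := 1)
        (by rw [pow_one, ← hao]; exact pow_orderOf_eq_one a)
    obtain ⟨Q', hQ'⟩ := hz.exists_le_sylow
    have hu := Sylow.unique_of_normal Q hQn
    have h : Q' = Q := Subsingleton.elim _ _
    rw [← h]
    exact hQ' (Subgroup.mem_zpowers a)
  apply hH1
  rw [← le_bot_iff, ← hfpf a haA ha1]
  intro x hx
  refine Subgroup.mem_inf.mpr ⟨hx, Subgroup.mem_centralizer_singleton_iff.mpr ?_⟩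
  have hcQ : a * x * a⁻¹ * x⁻¹ ∈ (Q : Subgroup L) := by
    have h1 : a * x * a⁻¹ * x⁻¹ = a * (x * a⁻¹ * x⁻¹) := by group
    rw [h1]
    exact mul_mem haQ (hQn.conj_mem _ (inv_mem haQ) x)
  have hcH : a * x * a⁻¹ * x⁻¹ ∈ Cfsg.pCore m L :=
    mul_mem (hHn.conj_mem x hx a) (inv_mem hx)
  obtain ⟨i, hi⟩ := Q.isPGroup' ⟨_, hcQ⟩
  obtain ⟨j, hj⟩ := hHm ⟨_, hcH⟩
  have hi' : (a * x * a⁻¹ * x⁻¹) ^ (q ^ i) = 1 := congrArg Subtype.val hi
  have hj' : (a * x * a⁻¹ * x⁻¹) ^ (m ^ j) = 1 := congrArg Subtype.val hj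
  have h1 : a * x * a⁻¹ * x⁻¹ = 1 := by
    apply Cfsg.Agent.Lib.helper40.eq_one_of_pow_eq_one_of_coprime hi'
    have h3 : orderOf (a * x * a⁻¹ * x⁻¹) ∣ m ^ j := orderOf_dvd_of_pow_eq_one hj'
    exact Nat.Coprime.coprime_dvd_left h3
      (Nat.Coprime.pow_left j ((Nat.Prime.coprime_iff_not_dvd hqp).mpr hqm).symm)
  have h2 : a * x = x * a := by
    have h3 : a * x = (a * x * a⁻¹ * x⁻¹) * (x * a) := by group
    rw [h3, h1, one_mul]
  exact h2.symm

/-- a three-step CN-group has no nontrivial normal Sylow subgroup -/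
theorem ts_no_normal_sylow {L : Type*} [Group L] [Finite L] (hCN : Cfsg.IsCNGroup L) {m : ℕ}
    (h : Cfsg.IsThreeStepGroup m L) (q : ℕ) (hq : Fact q.Prime) (Q : Sylow q L)
    (hQn : (Q : Subgroup L).Normal) : (Q : Subgroup L) = ⊥ := by
  by_contra hQ1
  have hnn := ts_not_nilp h
  obtain ⟨-, -, -, hnilq⟩ := Cfsg.Agent.S1474.result hCN hnn q Q hQ1 hQn
  obtain ⟨hFnil, hFmax, hFhall, -⟩ := Cfsg.Agent.S1474.props hCN q Q hQ1 hQn
  apply ts_not_nilp_quot h (Cfsg.fittingHall L) ?_ hnilq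
  apply Cfsg.Agent.Lib.helper40.le_pCore _ inferInstance
  rintro ⟨g, hg⟩
  refine ⟨orderOf g, Subtype.ext ?_⟩
  show g ^ (m ^ orderOf g) = 1
  apply orderOf_dvd_iff_pow_eq_one.mp
  apply dvd_pow_of_primes _ _ (orderOf_pos g).ne'
  intro s hs hsd
  have := Fact.mk hs
  have hsF : s ∣ Nat.card (Cfsg.fittingHall L) := by
    have h1 : orderOf (⟨g, hg⟩ : Cfsg.fittingHall L) ∣ Nat.card (Cfsg.fittingHall L) :=
      orderOf_dvd_natCard _
    rw [Subgroup.orderOf_mk] at h1
    exact hsd.trans h1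
  obtain ⟨S, hSF⟩ := Cfsg.Agent.S1477.exists_sylow_le hCN (Cfsg.fittingHall L) hFnil hFmax s hs hsF
  have hSn : (S : Subgroup L).Normal := by
    constructor
    intro x hx g'
    obtain ⟨k, hk⟩ := S.isPGroup' ⟨x, hx⟩
    have hk' : x ^ (s ^ k) = 1 := congrArg Subtype.val hk
    refine Cfsg.Agent.S1477.sub_mem_sylow hFnil S hSF (a := g' * x * g'⁻¹)
      ((Cfsg.fittingHall_normal L).conj_mem x (hSF hx) g') (k := k) ?_
    rw [conj_pow, hk']
    group
  have hS1 : (S : Subgroup L) ≠ ⊥ :=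
    Sylow.ne_bot_of_dvd_card S (hsF.trans (Subgroup.card_subgroup_dvd_card _))
  exact ts_normal_sylow_dvd h s S hSn hS1

/-- a solvable CN-group that is three-step with respect to a number `m` is three-step with
respect to a prime -/
theorem ts_prime {L : Type*} [Group L] [Finite L] [Group.IsSolvable L] (hCN : Cfsg.IsCNGroup L)
    {m : ℕ} (h : Cfsg.IsThreeStepGroup m L) : ∃ r : ℕ, r.Prime ∧ Cfsg.IsThreeStepGroup r L :=
  Cfsg.Agent.S1476.case_beta hCN (ts_not_nilp h)
    (fun q hq Q hQn => ts_no_normal_sylow hCN h q hq Q hQn)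

/-- in a solvable three-step CN-group, `F(L) = O_p(L)` -/
theorem ts_fitting_le {L : Type*} [Group L] [Finite L] [Group.IsSolvable L]
    (hCN : Cfsg.IsCNGroup L) {p : ℕ} [hp : Fact p.Prime] (h : Cfsg.IsThreeStepGroup p L) :
    Cfsg.fittingSubgroup L ≤ Cfsg.pCore p L := by
  have hH1 := h.1
  have hHn := Cfsg.Agent.Lib.helper40.pCore_normal' p L
  have hHp := Cfsg.Agent.Lib.helper40.pCore_isPGroup p L
  have hHF : Cfsg.pCore p L ≤ Cfsg.fittingSubgroup L :=
    Cfsg.Agent.Lib.helper28.le_fittingSubgroup hHn hHp.isNilpotent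
  obtain ⟨⟨x, hx⟩, hx1⟩ := (Subgroup.ne_bot_iff_exists_ne_one).mp hH1
  have hx1' : x ≠ 1 := fun h => hx1 (Subtype.ext h)
  have hnt : Nontrivial L := ⟨⟨x, 1, hx1'⟩⟩
  obtain ⟨r, hr, hFr⟩ := Cfsg.Agent.S1476.fitting_pgroup hCN
    (fun q hq Q hQn => ts_no_normal_sylow hCN h q hq Q hQn)
  obtain ⟨i, hi⟩ := hHp ⟨x, hx⟩
  obtain ⟨j, hj⟩ := hFr ⟨x, hHF hx⟩
  have hpr : p = r := prime_eq_of_pow hp.out hr hx1' (congrArg Subtype.val hi)
    (congrArg Subtype.val hj)
  subst hpr
  exact Cfsg.Agent.Lib.helper40.le_pCore _ inferInstance hFr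

theorem ts_constrained {L : Type*} [Group L] [Finite L] [Group.IsSolvable L]
    (hCN : Cfsg.IsCNGroup L) {p : ℕ} [hp : Fact p.Prime] (h : Cfsg.IsThreeStepGroup p L) :
    Subgroup.centralizer (Cfsg.pCore p L : Set L) ≤ Cfsg.pCore p L := by
  have h1 := ts_fitting_le hCN h
  have h2 : Cfsg.pCore p L ≤ Cfsg.fittingSubgroup L :=
    Cfsg.Agent.Lib.helper28.le_fittingSubgroup (Cfsg.Agent.Lib.helper40.pCore_normal' p L)
      (Cfsg.Agent.Lib.helper40.pCore_isPGroup p L).isNilpotent
  have h3 : Cfsg.fittingSubgroup L = Cfsg.pCore p L := le_antisymm h1 h2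
  have h4 := Cfsg.Agent.S0044.result (G := L)
  rw [h3] at h4
  exact h4

/-- if a solvable group has a proper normal subgroup of `p`-power index, its Sylow
`p`-subgroups do not lie in the derived group -/
theorem not_sylow_le_commutator {L : Type*} [Group L] [Finite L] [Group.IsSolvable L] {p : ℕ}
    [hp : Fact p.Prime] (K : Subgroup L) [hKn : K.Normal] (hK : K ≠ ⊤) (n : ℕ)
    (hidx : K.index = p ^ n) (P : Sylow p L) : ¬ (P : Subgroup L) ≤ commutator L := by
  intro hle
  have hPK : (P : Subgroup L) ⊔ K = ⊤ := by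
    rw [← Subgroup.index_eq_one]
    have h1 : ((P : Subgroup L) ⊔ K).index ∣ (P : Subgroup L).index :=
      Subgroup.index_dvd_of_le le_sup_left
    have h2 : ((P : Subgroup L) ⊔ K).index ∣ p ^ n := hidx ▸ Subgroup.index_dvd_of_le le_sup_right
    have h3 : ((P : Subgroup L).index).Coprime (p ^ n) :=
      Nat.Coprime.pow_right n ((Nat.Prime.coprime_iff_not_dvd hp.out).mpr P.not_dvd_index).symm
    exact Nat.eq_one_of_dvd_coprimes h3 h1 h2
  have hnt : Nontrivial (L ⧸ K) := by
    by_contra hn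
    rw [not_nontrivial_iff_subsingleton] at hn
    apply hK
    rw [eq_top_iff]
    intro x _
    exact (QuotientGroup.eq_one_iff x).mp (Subsingleton.elim _ _)
  have hlt := Group.IsSolvable.commutator_lt_top_of_nontrivial (G := L ⧸ K)
  apply hlt.ne
  rw [eq_top_iff]
  intro y _
  obtain ⟨x, rfl⟩ := QuotientGroup.mk_surjective y
  have hx : x ∈ (P : Subgroup L) ⊔ K := hPK ▸ Subgroup.mem_top x
  obtain ⟨c, hc, k, hk, rfl⟩ := Subgroup.mem_sup_of_normal_right.mp hx
  have h1 : ((c * k : L) : L ⧸ K) = QuotientGroup.mk' K c := by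
    rw [QuotientGroup.mk_mul, (QuotientGroup.eq_one_iff k).mpr hk, mul_one]
    rfl
  rw [h1]
  have h2 : (commutator L).map (QuotientGroup.mk' K) ≤ commutator (L ⧸ K) := by
    rw [commutator_def, commutator_def, Subgroup.map_commutator]
    exact Subgroup.commutator_mono le_top le_top
  exact h2 (Subgroup.mem_map_of_mem _ (hle hc))

/-- enlarging a three-step subgroup inside a solvable CN-group with `O_p ≠ 1` -/
theorem ts_enlarge {G : Type u} [Group G] [Finite G] (hCN : Cfsg.IsCNGroup G) {p : ℕ}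
    [hp : Fact p.Prime] (L M : Subgroup G) (hLM : L ≤ M) (hMs : Group.IsSolvable M)
    (hL : Cfsg.IsThreeStepGroup p L) (hMp : Cfsg.pCore p M ≠ ⊥) :
    Cfsg.IsThreeStepGroup p M := by
  have hCNM := Cfsg.Agent.S1473.isCN_subgroup hCN M
  have hCNL := Cfsg.Agent.S1473.isCN_subgroup hCN L
  have hLs : Group.IsSolvable L :=
    Group.isSolvable_of_isSolvable_injective (Subgroup.inclusion_injective hLM)
  have hnnM : ¬ Group.IsNilpotent M :=
    fun hn => ts_not_nilp hL (Cfsg.Agent.S1473.nilp_of_le hLM hn)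
  have hβ : ∀ (q : ℕ) (_ : Fact q.Prime) (Q : Sylow q M),
      (Q : Subgroup M).Normal → (Q : Subgroup M) = ⊥ := by
    intro q hq Q hQn
    by_contra hQ1
    obtain ⟨-, -, -, hnilq⟩ := Cfsg.Agent.S1474.result hCNM hnnM q Q hQ1 hQn
    obtain ⟨hFnil, -, -, -⟩ := Cfsg.Agent.S1474.props hCNM q Q hQ1 hQn
    have hNn : ((Cfsg.fittingHall M).comap (Subgroup.inclusion hLM)).Normal := inferInstance
    have hNnil : Group.IsNilpotent ((Cfsg.fittingHall M).comap (Subgroup.inclusion hLM)) := by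
      refine Cfsg.Agent.S1473.nilp_of_injective
        ((Subgroup.inclusion hLM).comp (Subgroup.subtype _)) ?_ hFnil ?_
      · exact (Subgroup.inclusion_injective hLM).comp Subtype.val_injective
      · intro a; exact a.2
    have hNle : (Cfsg.fittingHall M).comap (Subgroup.inclusion hLM) ≤ Cfsg.pCore p L :=
      (Cfsg.Agent.Lib.helper28.le_fittingSubgroup hNn hNnil).trans (ts_fitting_le hCNL hL)
    apply ts_not_nilp_quot hL _ hNle
    have hinj : Function.Injective (QuotientGroup.map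
        ((Cfsg.fittingHall M).comap (Subgroup.inclusion hLM)) (Cfsg.fittingHall M)
        (Subgroup.inclusion hLM) le_rfl) := by
      rw [injective_iff_map_eq_one]
      intro y hy
      obtain ⟨x, rfl⟩ := QuotientGroup.mk_surjective y
      rw [QuotientGroup.map_mk, QuotientGroup.eq_one_iff] at hy
      exact (QuotientGroup.eq_one_iff x).mpr hy
    exact Group.nilpotent_of_mulEquiv (MonoidHom.ofInjective hinj).symm
  obtain ⟨r, hr, hM3⟩ := Cfsg.Agent.S1476.case_beta hCNM hnnM hβ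
  have hrf := Fact.mk hr
  have h1 := ts_fitting_le hCNM hM3
  have hHn := Cfsg.Agent.Lib.helper40.pCore_normal' p M
  have hHp := Cfsg.Agent.Lib.helper40.pCore_isPGroup p M
  have hHF : Cfsg.pCore p M ≤ Cfsg.fittingSubgroup M :=
    Cfsg.Agent.Lib.helper28.le_fittingSubgroup hHn hHp.isNilpotent
  obtain ⟨⟨x, hx⟩, hx1⟩ := (Subgroup.ne_bot_iff_exists_ne_one).mp hMp
  have hx1' : x ≠ 1 := fun h => hx1 (Subtype.ext h)
  obtain ⟨i, hi⟩ := hHp ⟨x, hx⟩
  obtain ⟨j, hj⟩ := Cfsg.Agent.Lib.helper40.pCore_isPGroup r M ⟨x, h1 (hHF hx)⟩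
  have hpr : p = r := prime_eq_of_pow hp.out hr hx1' (congrArg Subtype.val hi)
    (congrArg Subtype.val hj)
  rw [hpr]
  exact hM3

/-- a simple group is not three-step -/
theorem no_three_step_top {G : Type*} [Group G] [Finite G] (hs : IsSimpleGroup G) (m : ℕ) :
    ¬ Cfsg.IsThreeStepGroup m ↥(⊤ : Subgroup G) := by
  intro h
  obtain ⟨hH1, A, hA1, hAc, hAodd, hAcop, hKn, hKtop, -⟩ := h
  have hsurj : Function.Surjective (⊤ : Subgroup G).subtype := fun x => ⟨⟨x, Subgroup.mem_top x⟩, rfl⟩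
  have hn : ((Cfsg.pCore m ↥(⊤ : Subgroup G) ⊔ A).map (⊤ : Subgroup G).subtype).Normal :=
    Subgroup.Normal.map hKn _ hsurj
  rcases hn.eq_bot_or_eq_top with h | h
  · rw [Subgroup.map_eq_bot_iff_of_injective _ (Subgroup.subtype_injective _)] at h
    apply hH1
    rw [← le_bot_iff, ← h]
    exact le_sup_left
  · apply hKtop
    rw [eq_top_iff]
    intro x _
    have hx : (x : G) ∈ (Cfsg.pCore m ↥(⊤ : Subgroup G) ⊔ A).map (⊤ : Subgroup G).subtype := by
      rw [h]
      exact Subgroup.mem_top _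
    obtain ⟨y, hy, hyx⟩ := hx
    have : y = x := Subtype.ext hyx
    rw [← this]
    exact hy

/-- **No three-step subgroups** (prime case, by induction on the index). -/
theorem no_three_step_prime {G : Type u} [Group G] [Finite G]
    (hG : Cfsg.IsMinSimpleOddOrder G) (hCN : Cfsg.IsCNGroup G) (p : ℕ) [hp : Fact p.Prime] :
    ∀ (n : ℕ) (L : Subgroup G), Nat.card G - Nat.card L = n →
      ¬ Cfsg.IsThreeStepGroup p L := by
  intro n
  induction n using Nat.strong_induction_on with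
  | _ n ih =>
  intro L hn hL
  obtain ⟨hodd, hs, hna, hsolv⟩ := id hG
  have hLtop : L ≠ ⊤ := by
    rintro rfl
    exact no_three_step_top hs p hL
  have hLs : Group.IsSolvable L := hsolv L hLtop
  have hCNL := Cfsg.Agent.S1473.isCN_subgroup hCN L
  have hoddL : Odd (Nat.card L) := hodd.of_dvd_nat (Subgroup.card_subgroup_dvd_card L)
  have hH1 := hL.1
  have hp2 : p ≠ 2 := by
    rintro rfl
    obtain ⟨P⟩ : Nonempty (Sylow 2 L) := inferInstance
    have h2 := sylow_two_eq_bot hoddL P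
    have hle := Cfsg.Agent.Lib.helper55.pCore_le_sylow P
    rw [h2] at hle
    exact hH1 (le_bot_iff.mp hle)
  obtain ⟨P'⟩ : Nonempty (Sylow p L) := inferInstance
  have hP'1 : (P' : Subgroup L) ≠ ⊥ := by
    intro h
    have hle := Cfsg.Agent.Lib.helper55.pCore_le_sylow P'
    rw [h] at hle
    exact hH1 (le_bot_iff.mp hle)
  have hZn : (Cfsg.Agent.Lib.helper14.zjE 0 (P' : Subgroup L)).Normal :=
    Cfsg.Agent.Lib.helper14.zjE_normal hp2 0 (ts_constrained hCNL hL)
      (fun V _ hV => isPStableOn_of_odd hoddL p hp2 V hV) P'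
  have hZ1 : Cfsg.Agent.Lib.helper14.zjE 0 (P' : Subgroup L) ≠ ⊥ :=
    Cfsg.Agent.Lib.helper14.zjE_zero_ne_bot P'.isPGroup' hP'1
  obtain ⟨P, hPdef⟩ : ∃ P : Subgroup G, P = (P' : Subgroup L).map L.subtype := ⟨_, rfl⟩
  have hZeq : Cfsg.Agent.Lib.helper14.zjE 0 P =
      (Cfsg.Agent.Lib.helper14.zjE 0 (P' : Subgroup L)).map L.subtype := by
    rw [hPdef]
    exact Cfsg.Agent.Lib.helper14.zjE_map_of_injective L.subtype_injective 0 _
  have hPL : P ≤ L := by
    rw [hPdef]; exact Subgroup.map_subtype_le _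
  have hPp : IsPGroup p P := by
    rw [hPdef]; exact P'.isPGroup'.map _
  have hZP : Cfsg.Agent.Lib.helper14.zjE 0 P ≤ P := Cfsg.Agent.Lib.helper14.zjE_le 0 P
  have hZne : Cfsg.Agent.Lib.helper14.zjE 0 P ≠ ⊥ := by
    rw [hZeq]
    intro h
    exact hZ1 ((Subgroup.map_eq_bot_iff_of_injective _ L.subtype_injective).mp h)
  have hLN : L ≤ Subgroup.normalizer (Cfsg.Agent.Lib.helper14.zjE 0 P : Set G) := by
    have h1 := Subgroup.le_normalizer_map
      (H := Cfsg.Agent.Lib.helper14.zjE 0 (P' : Subgroup L)) L.subtype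
    rw [Subgroup.normalizer_eq_top_iff.mpr hZn, ← MonoidHom.range_eq_map, Subgroup.range_subtype,
      ← hZeq] at h1
    exact h1
  obtain ⟨M, hMdef⟩ : ∃ M : Subgroup G,
      M = Subgroup.normalizer (Cfsg.Agent.Lib.helper14.zjE 0 P : Set G) := ⟨_, rfl⟩
  have hMtop : M ≠ ⊤ := by
    intro hM
    rw [hMdef] at hM
    have hn : (Cfsg.Agent.Lib.helper14.zjE 0 P).Normal := Subgroup.normalizer_eq_top_iff.mp hM
    rcases hn.eq_bot_or_eq_top with h | h
    · exact hZne h
    · apply hLtop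
      rw [eq_top_iff, ← h]
      exact hZP.trans hPL
  have hMs : Group.IsSolvable M := hsolv M hMtop
  have hLM : L ≤ M := hMdef ▸ hLN
  have hMp : Cfsg.pCore p M ≠ ⊥ := by
    have hZM : Cfsg.Agent.Lib.helper14.zjE 0 P ≤ M := hZP.trans (hPL.trans hLM)
    have hn : ((Cfsg.Agent.Lib.helper14.zjE 0 P).subgroupOf M).Normal := by
      rw [hMdef]; exact Subgroup.normal_in_normalizer
    have hpg : IsPGroup p ((Cfsg.Agent.Lib.helper14.zjE 0 P).subgroupOf M) :=
      (hPp.to_le hZP).comap_subtype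
    have hle := Cfsg.Agent.Lib.helper40.le_pCore _ hn hpg
    intro hb
    rw [hb, le_bot_iff, Subgroup.subgroupOf_eq_bot, disjoint_iff, inf_eq_left.mpr hZM] at hle
    exact hZne hle
  have hM3 := ts_enlarge hCN L M hLM hMs hL hMp
  by_cases hne : L = M
  swap
  · have hlt : Nat.card L < Nat.card M := by
      by_contra hge
      push Not at hge
      exact hne (Subgroup.eq_of_le_of_card_ge hLM hge)
    have hMle : Nat.card M ≤ Nat.card G := Subgroup.card_le_card_group M
    exact ih (Nat.card G - Nat.card M) (by omega) M rfl hM3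
  · obtain ⟨Ps, hPs⟩ := hPp.exists_le_sylow
    have hPeq : P = (Ps : Subgroup G) := by
      by_contra hPne
      have hnilPs : Group.IsNilpotent (Ps : Subgroup G) := Ps.isPGroup'.isNilpotent
      have hlt : P.subgroupOf Ps < ⊤ := by
        rw [lt_top_iff_ne_top]
        intro h
        rw [Subgroup.subgroupOf_eq_top] at h
        exact hPne (le_antisymm hPs h)
      have hnc := Group.normalizerCondition_of_isNilpotent (G := (Ps : Subgroup G)) _ hlt
      obtain ⟨⟨x, hxPs⟩, hxN, hxP⟩ := SetLike.exists_of_lt hnc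
      have hxNP : x ∈ Subgroup.normalizer (P : Set G) := by
        rw [Subgroup.mem_normalizer_iff]
        intro g
        rw [Subgroup.mem_normalizer_iff] at hxN
        constructor
        · intro hg
          have h1 := (hxN ⟨g, hPs hg⟩).mp (Subgroup.mem_subgroupOf.mpr hg)
          exact Subgroup.mem_subgroupOf.mp h1
        · intro hg
          have hgPs : g ∈ (Ps : Subgroup G) := by
            have h1 : x⁻¹ * (x * g * x⁻¹) * x ∈ (Ps : Subgroup G) :=
              mul_mem (mul_mem (inv_mem hxPs) (hPs hg)) hxPs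
            have h2 : x⁻¹ * (x * g * x⁻¹) * x = g := by group
            rwa [h2] at h1
          have h1 := (hxN ⟨g, hgPs⟩).mpr (Subgroup.mem_subgroupOf.mpr hg)
          exact Subgroup.mem_subgroupOf.mp h1
      have hxM : x ∈ M := by
        rw [hMdef]
        apply mem_normalizer_of_map_conj_eq
        rw [← Cfsg.Agent.Lib.helper14.zjE_map, map_conj_eq_of_mem_normalizer hxNP]
      have hxL : x ∈ L := hne ▸ hxM
      have hQle : P ⊔ Subgroup.zpowers x ≤ (Ps : Subgroup G) :=
        sup_le hPs (by rw [Subgroup.zpowers_le]; exact hxPs)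
      have hQp : IsPGroup p ((P ⊔ Subgroup.zpowers x).subgroupOf L) :=
        (Ps.isPGroup'.to_le hQle).comap_subtype
      have hP'le : (P' : Subgroup L) ≤ (P ⊔ Subgroup.zpowers x).subgroupOf L := by
        intro y hy
        rw [Subgroup.mem_subgroupOf]
        apply (le_sup_left : P ≤ P ⊔ Subgroup.zpowers x)
        rw [hPdef]
        exact Subgroup.mem_map_of_mem _ hy
      have hmax := P'.is_maximal' hQp hP'le
      have hx' : (⟨x, hxL⟩ : L) ∈ (P' : Subgroup L) := by
        rw [← hmax, Subgroup.mem_subgroupOf]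
        exact (le_sup_right : Subgroup.zpowers x ≤ P ⊔ Subgroup.zpowers x) (Subgroup.mem_zpowers x)
      apply hxP
      rw [Subgroup.mem_subgroupOf]
      show x ∈ P
      rw [hPdef]
      exact ⟨⟨x, hxL⟩, hx', rfl⟩
    have htr := sylow_le_commutator_normalizer_zj hG p Ps
    rw [← hPeq, ← hMdef, ← hne] at htr
    have hP'c : (P' : Subgroup L) ≤ commutator L := by
      intro y hy
      have h1 : (y : G) ∈ ⁅L, L⁆ := htr (by rw [hPdef]; exact Subgroup.mem_map_of_mem _ hy)
      rw [← Subgroup.map_subtype_commutator] at h1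
      obtain ⟨c, hc, hcy⟩ := h1
      have h2 : c = y := Subtype.ext hcy
      rw [← h2]
      exact hc
    obtain ⟨-, A, -, -, -, -, hKn, hKtop, ⟨n', hKidx⟩, -, -⟩ := hL
    exact not_sylow_le_commutator (Cfsg.pCore p L ⊔ A) hKtop n' hKidx P' hP'c

/-- **Feit–Hall–Thompson**: a minimal simple CN-group of odd order has no three-step
subgroups. -/
theorem no_three_step {G : Type u} [Group G] [Finite G] (hG : Cfsg.IsMinSimpleOddOrder G)
    (hCN : Cfsg.IsCNGroup G) (L : Subgroup G) (m : ℕ) : ¬ Cfsg.IsThreeStepGroup m L := by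
  intro hL
  obtain ⟨hodd, hs, hna, hsolv⟩ := id hG
  have hLtop : L ≠ ⊤ := by
    rintro rfl
    exact no_three_step_top hs m hL
  have hLs : Group.IsSolvable L := hsolv L hLtop
  have hCNL := Cfsg.Agent.S1473.isCN_subgroup hCN L
  obtain ⟨r, hr, hL3⟩ := ts_prime hCNL hL
  have hrf := Fact.mk hr
  exact no_three_step_prime hG hCN r _ L rfl hL3

end Cfsg.Agent.Lib.helper31
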