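import Mathlib
import Cfsg.Prelude
import Cfsg.Agent.Lib.helper31.FHT1

/-!
# Feit–Hall–Thompson local analysis for minimal simple CN-groups of odd order, part 2

Maximal nilpotent subgroups and maximal subgroups of a minimal simple CN-group `G` of odd order:

* `normalizer_sylow_coatom`: `N_G(P)` is a maximal subgroup for every nontrivial Sylow subgroup;
* `sylow_TI`: distinct Sylow `p`-subgroups meet trivially;
* `maxnilp_TI`, `maxnilp_master`: a maximal nilpotent subgroup `H` is a TI-subgroup, `N_G(H)` is a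
  maximal subgroup, `H` is the largest normal nilpotent Hall subgroup of `N_G(H)` and has a
  complement acting fixed-point-freely;
* `coatom_master`: for a maximal subgroup `M`, `fittingHallOf M` is a maximal nilpotent subgroup
  of `G` with normalizer `M` and a fixed-point-free complement in `M`.
-/

set_option autoImplicit false

namespace Cfsg.Agent.Lib.helper31

open scoped commutatorElement
open Cfsg

universe u

/-! ### General lemmas -/

theorem pgroup_dvd_card {X : Type*} [Group X] [Finite X] {p : ℕ} {Q : Subgroup X}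
    (hQ : IsPGroup p Q) (hne : Q ≠ ⊥) [Fact p.Prime] : p ∣ Nat.card Q := by
  obtain ⟨k, hk⟩ := IsPGroup.exists_card_eq hQ
  have hk0 : k ≠ 0 := by
    intro h0
    rw [h0, pow_zero] at hk
    exact hne (Subgroup.card_eq_one.mp hk)
  rw [hk]
  exact dvd_pow_self p hk0

/-- in a finite nilpotent group, a Sylow subgroup inside the derived group is trivial -/
theorem nilp_sylow_commutator {X : Type*} [Group X] [Finite X] [hX : Group.IsNilpotent X] {p : ℕ}
    [hp : Fact p.Prime] (S : Sylow p X) (hS : (S : Subgroup X) ≤ commutator X) :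
    (S : Subgroup X) = ⊥ := by
  by_contra hS1
  have hSn : (S : Subgroup X).Normal := inferInstance
  have hcopp : (S : Subgroup X).index.Coprime p :=
    ((Nat.Prime.coprime_iff_not_dvd hp.out).mpr S.not_dvd_index).symm
  obtain ⟨k, hk⟩ := IsPGroup.exists_card_eq S.isPGroup'
  have hcop : (Nat.card (S : Subgroup X)).Coprime (S : Subgroup X).index := by
    rw [hk]
    exact Nat.Coprime.pow_left k hcopp.symm
  obtain ⟨K, hK⟩ := Subgroup.exists_right_complement'_of_coprime hcop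
  have hKcard : Nat.card K = (S : Subgroup X).index := (hK.symm.index_eq_card).symm
  have hKn : K.Normal := by
    constructor
    intro c hc g
    have hg : g ∈ (S : Subgroup X) ⊔ K := by
      rw [hK.sup_eq_top]; exact Subgroup.mem_top g
    obtain ⟨s, hs, k', hk', rfl⟩ := Subgroup.mem_sup_of_normal_left.mp hg
    have hcomm : ∀ d ∈ K, s * d = d * s := by
      intro d hd
      obtain ⟨i, hi⟩ := S.isPGroup' ⟨s, hs⟩
      have hi' : s ^ (p ^ i) = 1 := congrArg Subtype.val hi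
      apply Cfsg.Agent.S1474.commute_of_coprime hp.out hi'
      have h1 : orderOf d ∣ Nat.card K := by
        have h2 := orderOf_dvd_natCard (⟨d, hd⟩ : K)
        rwa [Subgroup.orderOf_mk] at h2
      rw [hKcard] at h1
      exact Nat.Coprime.coprime_dvd_left h1 hcopp
    have h3 := hcomm (k' * c * k'⁻¹) (mul_mem (mul_mem hk' hc) (inv_mem hk'))
    have h4 : s * k' * c * (s * k')⁻¹ = k' * c * k'⁻¹ := by
      calc s * k' * c * (s * k')⁻¹ = s * (k' * c * k'⁻¹) * s⁻¹ := by group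
        _ = (k' * c * k'⁻¹) * s * s⁻¹ := by rw [h3]
        _ = k' * c * k'⁻¹ := by group
    rw [h4]
    exact mul_mem (mul_mem hk' hc) (inv_mem hk')
  have hKtop : K ≠ ⊤ := by
    intro h
    have h1 := hK.index_eq_card
    rw [h, Subgroup.index_top] at h1
    exact hS1 (Subgroup.card_eq_one.mp h1.symm)
  have hidx : K.index = p ^ k := by rw [hK.index_eq_card, hk]
  exact not_sylow_le_commutator K hKtop k hidx S hS

theorem mem_of_normal_sylow {X : Type*} [Group X] [Finite X] {q : ℕ} [Fact q.Prime]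
    (Q : Sylow q X) (hQn : (Q : Subgroup X).Normal) {a : X} {k : ℕ} (ha : a ^ (q ^ k) = 1) :
    a ∈ (Q : Subgroup X) := by
  have hz : IsPGroup q (Subgroup.zpowers a) := Cfsg.Agent.S1473.isPGroup_zpowers ha
  obtain ⟨Q', hQ'⟩ := hz.exists_le_sylow
  have hu := Sylow.unique_of_normal Q hQn
  have h : Q' = Q := Subsingleton.elim _ _
  rw [← h]
  exact hQ' (Subgroup.mem_zpowers a)

theorem sylow_eq_of_normal {X : Type*} [Group X] [Finite X] {q : ℕ} [Fact q.Prime]
    (Q Q' : Sylow q X) (hQn : (Q : Subgroup X).Normal) : Q' = Q := by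
  have hu := Sylow.unique_of_normal Q hQn
  exact Subsingleton.elim _ _

/-- a normal maximal nilpotent subgroup of a CN-group contains a normal Sylow `s`-subgroup for
each prime `s` dividing its order -/
theorem exists_normal_sylow_le {X : Type*} [Group X] [Finite X] (hCN : Cfsg.IsCNGroup X)
    (F : Subgroup X) [hFn : F.Normal] (hF : Group.IsNilpotent F)
    (hmax : ∀ L : Subgroup X, Group.IsNilpotent L → F ≤ L → L = F) (s : ℕ) [hs : Fact s.Prime]
    (hsF : s ∣ Nat.card F) : ∃ S : Sylow s X, (S : Subgroup X) ≤ F ∧ (S : Subgroup X).Normal := by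
  obtain ⟨S, hSF⟩ := Cfsg.Agent.S1477.exists_sylow_le hCN F hF hmax s hs.out hsF
  refine ⟨S, hSF, ?_⟩
  constructor
  intro x hx g
  obtain ⟨k, hk⟩ := S.isPGroup' ⟨x, hx⟩
  have hk' : x ^ (s ^ k) = 1 := congrArg Subtype.val hk
  refine Cfsg.Agent.S1477.sub_mem_sylow hF S hSF (a := g * x * g⁻¹) (hFn.conj_mem x (hSF hx) g)
    (k := k) ?_
  rw [conj_pow, hk']
  group

/-- a solvable CN-group that is neither nilpotent nor three-step has a nontrivial normal Sylow
subgroup -/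
theorem exists_normal_sylow_of_not_ts {X : Type*} [Group X] [Finite X] [Group.IsSolvable X]
    (hCN : Cfsg.IsCNGroup X) (hts : ∀ m : ℕ, ¬ Cfsg.IsThreeStepGroup m X)
    (hnn : ¬ Group.IsNilpotent X) :
    ∃ (q : ℕ) (_ : Fact q.Prime) (Q : Sylow q X),
      (Q : Subgroup X).Normal ∧ (Q : Subgroup X) ≠ ⊥ := by
  by_contra hno
  obtain ⟨r, hr, h3⟩ := Cfsg.Agent.S1476.case_beta hCN hnn (fun p hp P hPn => by
    by_contra hP1
    exact hno ⟨p, hp, P, hPn, hP1⟩)
  exact hts r h3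

/-- in a solvable CN-group without three-step structure, a Sylow subgroup inside the derived
group is normal -/
theorem sylow_normal_of_le_commutator {X : Type*} [Group X] [Finite X] [Group.IsSolvable X]
    (hCN : Cfsg.IsCNGroup X) (hts : ∀ m : ℕ, ¬ Cfsg.IsThreeStepGroup m X) {p : ℕ}
    [hp : Fact p.Prime] (S : Sylow p X) (hS : (S : Subgroup X) ≤ commutator X) :
    (S : Subgroup X).Normal := by
  by_cases hnil : Group.IsNilpotent X
  · infer_instance
  obtain ⟨q, hq, Q, hQn, hQ1⟩ := exists_normal_sylow_of_not_ts hCN hts hnil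
  obtain ⟨-, -, -, hnilq⟩ := Cfsg.Agent.S1474.result hCN hnil q Q hQ1 hQn
  obtain ⟨hFnil, hFmax, hFhall, -⟩ := Cfsg.Agent.S1474.props hCN q Q hQ1 hQn
  by_cases hpF : p ∣ Nat.card (Cfsg.fittingHall X)
  · obtain ⟨S', hS'F, hS'n⟩ := exists_normal_sylow_le hCN (Cfsg.fittingHall X) hFnil hFmax p hpF
    rw [sylow_eq_of_normal S' S hS'n]
    exact hS'n
  · have hsurj := QuotientGroup.mk'_surjective (Cfsg.fittingHall X)
    have himg : ((S.mapSurjective hsurj : Sylow p (X ⧸ Cfsg.fittingHall X)) :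
        Subgroup (X ⧸ Cfsg.fittingHall X)) ≤ commutator (X ⧸ Cfsg.fittingHall X) := by
      rw [Sylow.coe_mapSurjective]
      have h2 : (commutator X).map (QuotientGroup.mk' (Cfsg.fittingHall X)) ≤
          commutator (X ⧸ Cfsg.fittingHall X) := by
        rw [commutator_def, commutator_def, Subgroup.map_commutator]
        exact Subgroup.commutator_mono le_top le_top
      exact (Subgroup.map_mono hS).trans h2
    have hbot := nilp_sylow_commutator (S.mapSurjective hsurj) himg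
    rw [Sylow.coe_mapSurjective] at hbot
    have hSF : (S : Subgroup X) ≤ Cfsg.fittingHall X := by
      intro x hx
      have h1 : QuotientGroup.mk' (Cfsg.fittingHall X) x ∈
          (S : Subgroup X).map (QuotientGroup.mk' _) := Subgroup.mem_map_of_mem _ hx
      rw [hbot, Subgroup.mem_bot] at h1
      exact (QuotientGroup.eq_one_iff x).mp h1
    have hS1 : (S : Subgroup X) = ⊥ := by
      by_contra hne
      exact hpF ((pgroup_dvd_card S.isPGroup' hne).trans (Subgroup.card_dvd_of_le hSF))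
    rw [hS1]
    infer_instance

/-- in a solvable CN-group without three-step structure, `O_p ≠ 1` forces a normal Sylow
`p`-subgroup -/
theorem exists_normal_sylow_of_pCore {X : Type*} [Group X] [Finite X] [Group.IsSolvable X]
    (hCN : Cfsg.IsCNGroup X) (hts : ∀ m : ℕ, ¬ Cfsg.IsThreeStepGroup m X) {p : ℕ}
    [hp : Fact p.Prime] (hOp : Cfsg.pCore p X ≠ ⊥) :
    ∃ R : Sylow p X, (R : Subgroup X).Normal := by
  by_cases hnil : Group.IsNilpotent X
  · obtain ⟨R⟩ : Nonempty (Sylow p X) := inferInstance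
    exact ⟨R, inferInstance⟩
  obtain ⟨q, hq, Q, hQn, hQ1⟩ := exists_normal_sylow_of_not_ts hCN hts hnil
  obtain ⟨hFnil, hFmax, hFhall, -⟩ := Cfsg.Agent.S1474.props hCN q Q hQ1 hQn
  have hOn := Cfsg.Agent.Lib.helper40.pCore_normal' p X
  have hOpg := Cfsg.Agent.Lib.helper40.pCore_isPGroup p X
  have hsup : Group.IsNilpotent ↥(Cfsg.fittingHall X ⊔ Cfsg.pCore p X) :=
    Cfsg.Agent.Lib.helper28.isNilpotent_sup _ _ hFnil hOpg.isNilpotent
  have heq := hFmax _ hsup le_sup_left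
  have hle : Cfsg.pCore p X ≤ Cfsg.fittingHall X := by
    rw [← heq]; exact le_sup_right
  have hpF : p ∣ Nat.card (Cfsg.fittingHall X) :=
    (pgroup_dvd_card hOpg hOp).trans (Subgroup.card_dvd_of_le hle)
  obtain ⟨S', -, hS'n⟩ := exists_normal_sylow_le hCN (Cfsg.fittingHall X) hFnil hFmax p hpF
  exact ⟨S', hS'n⟩

/-- normalizers grow in `p`-groups -/
theorem exists_mem_normalizer_not_mem {X : Type*} [Group X] [Finite X] {p : ℕ} [Fact p.Prime]
    {P D : Subgroup X} (hP : IsPGroup p P) (hDP : D ≤ P) (hne : D ≠ P) :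
    ∃ x ∈ P, x ∈ Subgroup.normalizer (D : Set X) ∧ x ∉ D := by
  have hnil : Group.IsNilpotent P := hP.isNilpotent
  have hlt : D.subgroupOf P < ⊤ := by
    rw [lt_top_iff_ne_top]
    intro h
    rw [Subgroup.subgroupOf_eq_top] at h
    exact hne (le_antisymm hDP h)
  have hnc := Group.normalizerCondition_of_isNilpotent (G := P) _ hlt
  obtain ⟨⟨x, hxP⟩, hxN, hxD⟩ := SetLike.exists_of_lt hnc
  refine ⟨x, hxP, ?_, fun h => hxD (Subgroup.mem_subgroupOf.mpr h)⟩
  rw [Subgroup.mem_normalizer_iff]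
  intro g
  rw [Subgroup.mem_normalizer_iff] at hxN
  constructor
  · intro hg
    have h1 := (hxN ⟨g, hDP hg⟩).mp (Subgroup.mem_subgroupOf.mpr hg)
    exact Subgroup.mem_subgroupOf.mp h1
  · intro hg
    have hgP : g ∈ P := by
      have h1 : x⁻¹ * (x * g * x⁻¹) * x ∈ P := mul_mem (mul_mem (inv_mem hxP) (hDP hg)) hxP
      have h2 : x⁻¹ * (x * g * x⁻¹) * x = g := by group
      rwa [h2] at h1
    have h1 := (hxN ⟨g, hgP⟩).mpr (Subgroup.mem_subgroupOf.mpr hg)
    exact Subgroup.mem_subgroupOf.mp h1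

theorem le_normalizer_of_subgroupOf_normal {X : Type*} [Group X] {P N : Subgroup X}
    (hPN : P ≤ N) (hn : (P.subgroupOf N).Normal) : N ≤ Subgroup.normalizer (P : Set X) := by
  intro x hx
  rw [Subgroup.mem_normalizer_iff]
  intro g
  constructor
  · intro hg
    have h1 := hn.conj_mem ⟨g, hPN hg⟩ (Subgroup.mem_subgroupOf.mpr hg) ⟨x, hx⟩
    exact Subgroup.mem_subgroupOf.mp h1
  · intro hg
    have h1 := hn.conj_mem ⟨x * g * x⁻¹, hPN hg⟩ (Subgroup.mem_subgroupOf.mpr hg) ⟨x, hx⟩⁻¹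
    have h2 := Subgroup.mem_subgroupOf.mp h1
    have h3 : ((⟨x, hx⟩ : N)⁻¹ * ⟨x * g * x⁻¹, hPN hg⟩ * (⟨x, hx⟩ : N)⁻¹⁻¹ : N) = (g : X) := by
      simp only [Subgroup.coe_mul, Subgroup.coe_inv]
      group
    rwa [h3] at h2

theorem subgroupOf_le_commutator {X : Type*} [Group X] {P N : Subgroup X}
    (h : P ≤ ⁅N, N⁆) : P.subgroupOf N ≤ commutator N := by
  intro y hy
  have h1 : (y : X) ∈ ⁅N, N⁆ := h (Subgroup.mem_subgroupOf.mp hy)
  rw [← Subgroup.map_subtype_commutator] at h1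
  obtain ⟨c, hc, hcy⟩ := h1
  have h2 : c = y := Subtype.ext hcy
  rw [← h2]
  exact hc

/-! ### Minimal simple CN-groups of odd order -/

section minsimple

variable {G : Type u} [Group G] [Finite G]

theorem not_nilp_of_minSimple (hG : Cfsg.IsMinSimpleOddOrder G) : ¬ Group.IsNilpotent G := by
  intro hn
  obtain ⟨hodd, hs, hna, hsolv⟩ := id hG
  have hc := commutator_eq_top_of_minSimple hG.2
  have hlt := Group.IsSolvable.commutator_lt_top_of_nontrivial (G := G)
  exact hlt.ne hc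

theorem proper_facts (hG : Cfsg.IsMinSimpleOddOrder G) (hCN : Cfsg.IsCNGroup G)
    (M : Subgroup G) (hM : M ≠ ⊤) :
    Group.IsSolvable M ∧ Cfsg.IsCNGroup M ∧ ∀ m : ℕ, ¬ Cfsg.IsThreeStepGroup m M :=
  ⟨hG.2.2.2 M hM, Cfsg.Agent.S1473.isCN_subgroup hCN M, fun m => no_three_step hG hCN M m⟩

theorem pgroup_ne_top (hG : Cfsg.IsMinSimpleOddOrder G) {p : ℕ} [Fact p.Prime]
    {D : Subgroup G} (hD : IsPGroup p D) : D ≠ ⊤ := by
  rintro rfl
  apply not_nilp_of_minSimple hG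
  have h1 : IsPGroup p G := fun g => by
    obtain ⟨k, hk⟩ := hD ⟨g, Subgroup.mem_top g⟩
    exact ⟨k, congrArg Subtype.val hk⟩
  exact h1.isNilpotent

omit [Finite G] in
theorem normalizer_ne_top (hG : Cfsg.IsMinSimpleOddOrder G) {D : Subgroup G} (hD1 : D ≠ ⊥)
    (hDtop : D ≠ ⊤) : Subgroup.normalizer (D : Set G) ≠ ⊤ := by
  intro h
  obtain ⟨hodd, hs, hna, hsolv⟩ := id hG
  have hn : D.Normal := Subgroup.normalizer_eq_top_iff.mp h
  rcases hn.eq_bot_or_eq_top with h | h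
  · exact hD1 h
  · exact hDtop h

/-- for a nontrivial Sylow subgroup `P`: `N_G(Z(J(P))) = N_G(P)` and `P ≤ N_G(P)'` -/
theorem sylow_normalizer_facts (hG : Cfsg.IsMinSimpleOddOrder G) (hCN : Cfsg.IsCNGroup G)
    (p : ℕ) [Fact p.Prime] (P : Sylow p G) (hP1 : (P : Subgroup G) ≠ ⊥) :
    (P : Subgroup G) ≤ ⁅Subgroup.normalizer ((P : Subgroup G) : Set G),
      Subgroup.normalizer ((P : Subgroup G) : Set G)⁆ := by
  have htr := sylow_le_commutator_normalizer_zj hG p P
  obtain ⟨Z, hZ⟩ : ∃ Z : Subgroup G, Z = Cfsg.Agent.Lib.helper14.zjE 0 (P : Subgroup G) :=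
    ⟨_, rfl⟩
  rw [← hZ] at htr
  have hZP : Z ≤ P := by rw [hZ]; exact Cfsg.Agent.Lib.helper14.zjE_le 0 _
  have hZ1 : Z ≠ ⊥ := by
    rw [hZ]; exact Cfsg.Agent.Lib.helper14.zjE_zero_ne_bot P.isPGroup' hP1
  have hZtop : Z ≠ ⊤ := pgroup_ne_top hG (P.isPGroup'.to_le hZP)
  have hNtop : Subgroup.normalizer (Z : Set G) ≠ ⊤ := normalizer_ne_top hG hZ1 hZtop
  obtain ⟨hNs, hNCN, hNts⟩ := proper_facts hG hCN _ hNtop
  have hle1 : Subgroup.normalizer ((P : Subgroup G) : Set G) ≤ Subgroup.normalizer (Z : Set G) := by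
    intro x hx
    apply mem_normalizer_of_map_conj_eq
    rw [hZ, ← Cfsg.Agent.Lib.helper14.zjE_map, map_conj_eq_of_mem_normalizer hx]
  have hPN : (P : Subgroup G) ≤ Subgroup.normalizer (Z : Set G) :=
    Subgroup.le_normalizer.trans hle1
  have hSn := sylow_normal_of_le_commutator hNCN hNts (P.subtype hPN)
    (subgroupOf_le_commutator htr)
  have hle2 : Subgroup.normalizer (Z : Set G) ≤ Subgroup.normalizer ((P : Subgroup G) : Set G) :=
    le_normalizer_of_subgroupOf_normal hPN hSn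
  have heq := le_antisymm hle2 hle1
  rw [heq] at htr
  exact htr

/-- `N_G(P)` is not nilpotent for a nontrivial Sylow subgroup `P` -/
theorem not_nilp_normalizer_sylow (hG : Cfsg.IsMinSimpleOddOrder G) (hCN : Cfsg.IsCNGroup G)
    (p : ℕ) [Fact p.Prime] (P : Sylow p G) (hP1 : (P : Subgroup G) ≠ ⊥) :
    ¬ Group.IsNilpotent (Subgroup.normalizer ((P : Subgroup G) : Set G)) := by
  intro hnil
  have htr := sylow_normalizer_facts hG hCN p P hP1
  have h1 := nilp_sylow_commutator (P.subtype Subgroup.le_normalizer)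
    (subgroupOf_le_commutator htr)
  rw [Sylow.coe_subtype, Subgroup.subgroupOf_eq_bot, disjoint_iff,
    inf_eq_left.mpr Subgroup.le_normalizer] at h1
  exact hP1 h1

/-- **Sylow normalizers are maximal subgroups.** -/
theorem normalizer_sylow_coatom (hG : Cfsg.IsMinSimpleOddOrder G) (hCN : Cfsg.IsCNGroup G)
    (p : ℕ) [Fact p.Prime] (P : Sylow p G) (hP1 : (P : Subgroup G) ≠ ⊥) :
    IsCoatom (Subgroup.normalizer ((P : Subgroup G) : Set G)) := by
  have htr := sylow_normalizer_facts hG hCN p P hP1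
  refine ⟨normalizer_ne_top hG hP1 (pgroup_ne_top hG P.isPGroup'), ?_⟩
  intro M hlt
  by_contra hMtop
  obtain ⟨hMs, hMCN, hMts⟩ := proper_facts hG hCN M hMtop
  have hPM : (P : Subgroup G) ≤ M := Subgroup.le_normalizer.trans hlt.le
  have hSn := sylow_normal_of_le_commutator hMCN hMts (P.subtype hPM)
    (subgroupOf_le_commutator (htr.trans (Subgroup.commutator_mono hlt.le hlt.le)))
  have hle : M ≤ Subgroup.normalizer ((P : Subgroup G) : Set G) :=
    le_normalizer_of_subgroupOf_normal hPM hSn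
  exact lt_irrefl _ (lt_of_lt_of_le hlt hle)

/-- a maximal nilpotent subgroup containing a Sylow `p`-subgroup `P` is the centralizer of any
nonidentity element of `Z(P)` -/
theorem maxnilp_eq_centralizer (hCN : Cfsg.IsCNGroup G) (H : Subgroup G)
    (hH : Group.IsNilpotent H)
    (hmax : ∀ L : Subgroup G, Group.IsNilpotent L → H ≤ L → L = H) {p : ℕ} [Fact p.Prime]
    (P : Sylow p G) (hPH : (P : Subgroup G) ≤ H) {z : G} (hzP : z ∈ (P : Subgroup G))
    (hz1 : z ≠ 1) (hzc : ∀ y ∈ (P : Subgroup G), y * z = z * y) :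
    Subgroup.centralizer ({z} : Set G) = H := by
  obtain ⟨k, hk⟩ := P.isPGroup' ⟨z, hzP⟩
  exact Cfsg.Agent.S1477.keyK hCN H hmax hz1
    (Cfsg.Agent.S1477.sub_central hH P hPH (hPH hzP) (congrArg Subtype.val hk) hzc)

theorem maxnilp_unique (hCN : Cfsg.IsCNGroup G) (H₁ H₂ : Subgroup G)
    (hH₁ : Group.IsNilpotent H₁)
    (hmax₁ : ∀ L : Subgroup G, Group.IsNilpotent L → H₁ ≤ L → L = H₁)
    (hH₂ : Group.IsNilpotent H₂)
    (hmax₂ : ∀ L : Subgroup G, Group.IsNilpotent L → H₂ ≤ L → L = H₂) {p : ℕ} [Fact p.Prime]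
    (P : Sylow p G) (hP1 : (P : Subgroup G) ≠ ⊥) (h1 : (P : Subgroup G) ≤ H₁)
    (h2 : (P : Subgroup G) ≤ H₂) : H₁ = H₂ := by
  obtain ⟨z, hzP, hz1, hzc⟩ := Cfsg.Agent.S1477.exists_central_sylow P hP1
  rw [← maxnilp_eq_centralizer hCN H₁ hH₁ hmax₁ P h1 hzP hz1 hzc,
    maxnilp_eq_centralizer hCN H₂ hH₂ hmax₂ P h2 hzP hz1 hzc]

omit [Finite G] in
theorem map_conj_inv_map_conj (L : Subgroup G) (g : G) :
    (L.map (MulAut.conj g⁻¹).toMonoidHom).map (MulAut.conj g).toMonoidHom = L := by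
  rw [Subgroup.map_map]
  have h : (MulAut.conj g).toMonoidHom.comp (MulAut.conj g⁻¹).toMonoidHom = MonoidHom.id G := by
    ext x
    simp [MulAut.conj_apply]
    group
  rw [h, Subgroup.map_id]

omit [Finite G] in
/-- conjugates of maximal nilpotent subgroups are maximal nilpotent -/
theorem maxnilp_conj {H : Subgroup G} (hH : Group.IsNilpotent H)
    (hmax : ∀ L : Subgroup G, Group.IsNilpotent L → H ≤ L → L = H) (g : G) :
    Group.IsNilpotent (H.map (MulAut.conj g).toMonoidHom) ∧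
      ∀ L : Subgroup G, Group.IsNilpotent L → H.map (MulAut.conj g).toMonoidHom ≤ L →
        L = H.map (MulAut.conj g).toMonoidHom := by
  refine ⟨Cfsg.Agent.S1473.nilp_map _ hH, ?_⟩
  intro L hL hle
  have h1 : H ≤ L.map (MulAut.conj g⁻¹).toMonoidHom := by
    intro x hx
    refine ⟨g * x * g⁻¹, hle ⟨x, hx, rfl⟩, ?_⟩
    simp
    group
  have h2 := hmax _ (Cfsg.Agent.S1473.nilp_map _ hL) h1
  rw [← h2, map_conj_inv_map_conj]

theorem exists_maxnilp_ge (K : Subgroup G) (hK : Group.IsNilpotent K) :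
    ∃ H : Subgroup G, K ≤ H ∧ Group.IsNilpotent H ∧
      ∀ L : Subgroup G, Group.IsNilpotent L → H ≤ L → L = H := by
  obtain ⟨H, hKH, hH⟩ := Finite.exists_le_maximal
    (p := fun N : Subgroup G => Group.IsNilpotent N) hK
  exact ⟨H, hKH, hH.prop, fun L hL hle => le_antisymm (hH.le_of_ge hL hle) hle⟩

/-- `N_G(H) = N_G(P)` for a maximal nilpotent `H` and a Sylow subgroup `P ≤ H` of `G` -/
theorem normalizer_maxnilp (hCN : Cfsg.IsCNGroup G) (H : Subgroup G) (hH : Group.IsNilpotent H)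
    (hmax : ∀ L : Subgroup G, Group.IsNilpotent L → H ≤ L → L = H) {p : ℕ} [Fact p.Prime]
    (P : Sylow p G) (hP1 : (P : Subgroup G) ≠ ⊥) (hPH : (P : Subgroup G) ≤ H) :
    Subgroup.normalizer (H : Set G) = Subgroup.normalizer ((P : Subgroup G) : Set G) := by
  apply le_antisymm
  · have key : ∀ g ∈ Subgroup.normalizer (H : Set G), ∀ x ∈ (P : Subgroup G),
        g * x * g⁻¹ ∈ (P : Subgroup G) := by
      intro g hg x hx
      obtain ⟨k, hk⟩ := P.isPGroup' ⟨x, hx⟩
      have hk' : x ^ (p ^ k) = 1 := congrArg Subtype.val hk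
      refine Cfsg.Agent.S1477.sub_mem_sylow hH P hPH (a := g * x * g⁻¹)
        ((Subgroup.mem_normalizer_iff.mp hg x).mp (hPH hx)) (k := k) ?_
      rw [conj_pow, hk']
      group
    intro g hg
    rw [Subgroup.mem_normalizer_iff]
    intro x
    constructor
    · exact key g hg x
    · intro hx
      have h1 := key g⁻¹ (inv_mem hg) _ hx
      have h2 : g⁻¹ * (g * x * g⁻¹) * g⁻¹⁻¹ = x := by group
      rwa [h2] at h1
  · intro g hg
    obtain ⟨hHg, hmaxg⟩ := maxnilp_conj hH hmax g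
    have hconj : H.map (MulAut.conj g).toMonoidHom = H := by
      apply maxnilp_unique hCN _ _ hHg hmaxg hH hmax P hP1 ?_ hPH
      rw [← map_conj_eq_of_mem_normalizer hg]
      exact Subgroup.map_mono hPH
    exact mem_normalizer_of_map_conj_eq hconj

end minsimple

/-! ### Frobenius data of non-nilpotent proper subgroups -/

section frob

variable {G : Type u} [Group G] [Finite G]

/-- the structure of a non-nilpotent subgroup with a nontrivial normal Sylow subgroup of a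
CN-group, in terms of subgroups of the ambient group -/
theorem frob_data (hCN : Cfsg.IsCNGroup G) (M : Subgroup G) (hnn : ¬ Group.IsNilpotent M)
    (q : ℕ) [Fact q.Prime] (Q : Sylow q M) (hQn : (Q : Subgroup M).Normal)
    (hQ1 : (Q : Subgroup M) ≠ ⊥) :
    Cfsg.fittingHallOf M ≠ ⊥ ∧ Group.IsNilpotent (Cfsg.fittingHallOf M) ∧
    (Q : Subgroup M).map M.subtype ≤ Cfsg.fittingHallOf M ∧
    (∀ L : Subgroup G, L ≤ M → Group.IsNilpotent L → Cfsg.fittingHallOf M ≤ L →
      L = Cfsg.fittingHallOf M) ∧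
    ∃ E : Subgroup G, Cfsg.IsComplIn (Cfsg.fittingHallOf M) E M ∧ E ≠ ⊥ ∧
      ∀ e ∈ E, e ≠ 1 → Cfsg.fittingHallOf M ⊓ Subgroup.centralizer ({e} : Set G) = ⊥ := by
  have hCNM := Cfsg.Agent.S1473.isCN_subgroup hCN M
  obtain ⟨hF1, hFtop, ⟨E₀, hcompl, -, hfpf⟩, -⟩ := Cfsg.Agent.S1474.result hCNM hnn q Q hQ1 hQn
  obtain ⟨hFnil, hFmax, hFhall, hQF⟩ := Cfsg.Agent.S1474.props hCNM q Q hQ1 hQn
  refine ⟨?_, Cfsg.Agent.S1473.nilp_map _ hFnil, Subgroup.map_mono hQF, ?_,
    E₀.map M.subtype, ⟨Subgroup.map_subtype_le _, Subgroup.map_subtype_le _, ?_, ?_⟩, ?_, ?_⟩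
  · unfold Cfsg.fittingHallOf
    rw [Ne, Subgroup.map_eq_bot_iff_of_injective _ M.subtype_injective]
    exact hF1
  · intro L hLM hL hle
    have h1 : Group.IsNilpotent (L.subgroupOf M) :=
      Group.nilpotent_of_mulEquiv (Subgroup.subgroupOfEquivOfLe hLM).symm
    have h2 : Cfsg.fittingHall M ≤ L.subgroupOf M := by
      intro y hy
      rw [Subgroup.mem_subgroupOf]
      exact hle ⟨y, hy, rfl⟩
    have h3 := hFmax _ h1 h2
    unfold Cfsg.fittingHallOf
    rw [← h3, Subgroup.map_subgroupOf_eq_of_le hLM]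
  · unfold Cfsg.fittingHallOf
    rw [← Subgroup.map_inf _ _ _ M.subtype_injective, hcompl.disjoint.eq_bot, Subgroup.map_bot]
  · intro m hm
    have h1 : (⟨m, hm⟩ : M) ∈ Cfsg.fittingHall M ⊔ E₀ := by
      rw [hcompl.sup_eq_top]; exact Subgroup.mem_top _
    obtain ⟨a, ha, b, hb, hab⟩ := Subgroup.mem_sup_of_normal_left.mp h1
    refine ⟨a, ⟨a, ha, rfl⟩, b, ⟨b, hb, rfl⟩, ?_⟩
    have h2 := congrArg Subtype.val hab
    exact h2.symm
  · rw [Ne, Subgroup.map_eq_bot_iff_of_injective _ M.subtype_injective]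
    intro hE
    apply hFtop
    have h1 := hcompl.sup_eq_top
    rw [hE, sup_bot_eq] at h1
    exact h1
  · rintro e ⟨e₀, he₀, rfl⟩ he1
    have he₀1 : e₀ ≠ 1 := fun h => he1 (by rw [h]; rfl)
    rw [eq_bot_iff]
    intro x hx
    obtain ⟨hxF, hxC⟩ := Subgroup.mem_inf.mp hx
    obtain ⟨x₀, hx₀, rfl⟩ := hxF
    have h1 : x₀ ∈ Cfsg.fittingHall M ⊓ Subgroup.centralizer ({e₀} : Set M) :=
      Subgroup.mem_inf.mpr ⟨hx₀, Subgroup.mem_centralizer_singleton_iff.mpr
        (Subtype.ext (Subgroup.mem_centralizer_singleton_iff.mp hxC))⟩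
    rw [hfpf e₀ he₀ he₀1, Subgroup.mem_bot] at h1
    rw [h1]
    exact one_mem _

end frob

section minsimple2

variable {G : Type u} [Group G] [Finite G]

theorem exists_prime_dvd_card (hG : Cfsg.IsMinSimpleOddOrder G) :
    ∃ p : ℕ, p.Prime ∧ p ∣ Nat.card G := by
  obtain ⟨hodd, hs, hna, hsolv⟩ := id hG
  have hcard : Nat.card G ≠ 1 := (Finite.one_lt_card (α := G)).ne'
  exact Nat.exists_prime_and_dvd hcard

/-- a maximal nilpotent subgroup is nontrivial -/
theorem maxnilp_ne_bot (hG : Cfsg.IsMinSimpleOddOrder G) (H : Subgroup G)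
    (hmax : ∀ L : Subgroup G, Group.IsNilpotent L → H ≤ L → L = H) : H ≠ ⊥ := by
  rintro rfl
  obtain ⟨p, hp, hpd⟩ := exists_prime_dvd_card hG
  have := Fact.mk hp
  obtain ⟨P⟩ : Nonempty (Sylow p G) := inferInstance
  have hP1 := Sylow.ne_bot_of_dvd_card P hpd
  exact hP1 (hmax P P.isPGroup'.isNilpotent bot_le)

/-- **Structure of the normalizer of a maximal nilpotent subgroup.** -/
theorem maxnilp_master (hG : Cfsg.IsMinSimpleOddOrder G) (hCN : Cfsg.IsCNGroup G)
    (H : Subgroup G) (hH : Group.IsNilpotent H)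
    (hmax : ∀ L : Subgroup G, Group.IsNilpotent L → H ≤ L → L = H) :
    IsCoatom (Subgroup.normalizer (H : Set G)) ∧
    Cfsg.fittingHallOf (Subgroup.normalizer (H : Set G)) = H ∧
    ∃ E : Subgroup G, Cfsg.IsComplIn H E (Subgroup.normalizer (H : Set G)) ∧ E ≠ ⊥ ∧
      ∀ e ∈ E, e ≠ 1 → H ⊓ Subgroup.centralizer ({e} : Set G) = ⊥ := by
  have hH1 := maxnilp_ne_bot hG H hmax
  have hcard : Nat.card H ≠ 1 := fun h => hH1 (Subgroup.card_eq_one.mp h)
  obtain ⟨p, hp, hpd⟩ := Nat.exists_prime_and_dvd hcard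
  have hpf := Fact.mk hp
  obtain ⟨P, hPH⟩ := Cfsg.Agent.S1477.exists_sylow_le hCN H hH hmax p hp hpd
  have hP1 : (P : Subgroup G) ≠ ⊥ :=
    Sylow.ne_bot_of_dvd_card P (hpd.trans (Subgroup.card_subgroup_dvd_card H))
  have hNeq := normalizer_maxnilp hCN H hH hmax P hP1 hPH
  have hHN : H ≤ Subgroup.normalizer ((P : Subgroup G) : Set G) := hNeq ▸ Subgroup.le_normalizer
  rw [hNeq]
  have hco := normalizer_sylow_coatom hG hCN p P hP1
  have hnn := not_nilp_normalizer_sylow hG hCN p P hP1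
  have hSn : ((P : Subgroup G).subgroupOf
      (Subgroup.normalizer ((P : Subgroup G) : Set G))).Normal :=
    Subgroup.normal_in_normalizer
  have hS1 : (P : Subgroup G).subgroupOf (Subgroup.normalizer ((P : Subgroup G) : Set G)) ≠ ⊥ := by
    rw [Ne, Subgroup.subgroupOf_eq_bot, disjoint_iff, inf_eq_left.mpr Subgroup.le_normalizer]
    exact hP1
  obtain ⟨hF1, hFnil, hQF, hFmaxM, E, hE⟩ :=
    frob_data hCN _ hnn p (P.subtype Subgroup.le_normalizer) hSn hS1
  have hPF : (P : Subgroup G) ≤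
      Cfsg.fittingHallOf (Subgroup.normalizer ((P : Subgroup G) : Set G)) := by
    refine le_trans ?_ hQF
    rw [Sylow.coe_subtype, Subgroup.map_subgroupOf_eq_of_le Subgroup.le_normalizer]
  obtain ⟨H₂, hFH₂, hH₂, hmax₂⟩ := exists_maxnilp_ge _ hFnil
  have hH₂eq : H₂ = H :=
    maxnilp_unique hCN H₂ H hH₂ hmax₂ hH hmax P hP1 (hPF.trans hFH₂) hPH
  rw [hH₂eq] at hFH₂
  have hFeq : Cfsg.fittingHallOf (Subgroup.normalizer ((P : Subgroup G) : Set G)) = H :=
    (hFmaxM H hHN hH hFH₂).symm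
  rw [hFeq] at hE
  exact ⟨hco, hFeq, E, hE⟩

/-- **Sylow subgroups are TI.** -/
theorem sylow_TI (hG : Cfsg.IsMinSimpleOddOrder G) (hCN : Cfsg.IsCNGroup G) (p : ℕ)
    [hp : Fact p.Prime] :
    ∀ (n : ℕ) (P₁ P₂ : Sylow p G),
      Nat.card (P₁ : Subgroup G) - Nat.card ↥((P₁ : Subgroup G) ⊓ (P₂ : Subgroup G)) = n →
      (P₁ : Subgroup G) ⊓ (P₂ : Subgroup G) ≠ ⊥ → P₁ = P₂ := by
  intro n
  induction n using Nat.strong_induction_on with
  | _ n ih =>
  intro P₁ P₂ hn hD1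
  by_contra hne
  obtain ⟨D, hD⟩ : ∃ D : Subgroup G, D = (P₁ : Subgroup G) ⊓ (P₂ : Subgroup G) := ⟨_, rfl⟩
  rw [← hD] at hn hD1
  have hDle1 : D ≤ (P₁ : Subgroup G) := hD ▸ inf_le_left
  have hDle2 : D ≤ (P₂ : Subgroup G) := hD ▸ inf_le_right
  have hDP1 : D ≠ (P₁ : Subgroup G) := by
    intro h
    have hle : (P₁ : Subgroup G) ≤ P₂ := h ▸ hDle2
    exact hne (Sylow.ext (P₁.is_maximal' P₂.isPGroup' hle).symm)
  have hDP2 : D ≠ (P₂ : Subgroup G) := by
    intro h
    have hle : (P₂ : Subgroup G) ≤ P₁ := h ▸ hDle1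
    exact hne (Sylow.ext (P₂.is_maximal' P₁.isPGroup' hle))
  obtain ⟨x₁, hx₁P, hx₁N, hx₁D⟩ := exists_mem_normalizer_not_mem P₁.isPGroup' hDle1 hDP1
  obtain ⟨x₂, hx₂P, hx₂N, hx₂D⟩ := exists_mem_normalizer_not_mem P₂.isPGroup' hDle2 hDP2
  have hDp : IsPGroup p D := P₁.isPGroup'.to_le hDle1
  have hNtop : Subgroup.normalizer (D : Set G) ≠ ⊤ :=
    normalizer_ne_top hG hD1 (pgroup_ne_top hG hDp)
  obtain ⟨hNs, hNCN, hNts⟩ := proper_facts hG hCN _ hNtop
  have hOp : Cfsg.pCore p (Subgroup.normalizer (D : Set G)) ≠ ⊥ := by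
    have hn : (D.subgroupOf (Subgroup.normalizer (D : Set G))).Normal :=
      Subgroup.normal_in_normalizer
    have hpg : IsPGroup p (D.subgroupOf (Subgroup.normalizer (D : Set G))) := hDp.comap_subtype
    have hle := Cfsg.Agent.Lib.helper40.le_pCore _ hn hpg
    intro hb
    rw [hb, le_bot_iff, Subgroup.subgroupOf_eq_bot, disjoint_iff,
      inf_eq_left.mpr Subgroup.le_normalizer] at hle
    exact hD1 hle
  obtain ⟨R, hRn⟩ := exists_normal_sylow_of_pCore hNCN hNts hOp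
  have hmemR : ∀ (x : G) (hx : x ∈ Subgroup.normalizer (D : Set G)) (P : Sylow p G),
      x ∈ (P : Subgroup G) →
      (⟨x, hx⟩ : Subgroup.normalizer (D : Set G)) ∈ (R : Subgroup _) := by
    intro x hx P hxP
    obtain ⟨k, hk⟩ := P.isPGroup' ⟨x, hxP⟩
    have hk' : x ^ (p ^ k) = 1 := congrArg Subtype.val hk
    exact mem_of_normal_sylow R hRn (k := k) (Subtype.ext hk')
  obtain ⟨P₃, hP₃⟩ :=
    (R.isPGroup'.map (Subgroup.normalizer (D : Set G)).subtype).exists_le_sylow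
  have hin : ∀ (x : G) (_ : x ∈ Subgroup.normalizer (D : Set G)) (P : Sylow p G),
      x ∈ (P : Subgroup G) → x ∈ (P₃ : Subgroup G) :=
    fun x hx P hxP => hP₃ ⟨⟨x, hx⟩, hmemR x hx P hxP, rfl⟩
  have hD3 : D ≤ (P₃ : Subgroup G) :=
    fun d hd => hin d (Subgroup.le_normalizer hd) P₁ (hDle1 hd)
  have hcard3 : ∀ P : Sylow p G, Nat.card (P₃ : Subgroup G) = Nat.card (P : Subgroup G) :=
    fun P => by rw [Sylow.card_eq_multiplicity, Sylow.card_eq_multiplicity]
  have step : ∀ (P : Sylow p G) (x : G), D ≤ (P : Subgroup G) → x ∈ (P : Subgroup G) →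
      x ∈ Subgroup.normalizer (D : Set G) → x ∉ D →
      Nat.card (P : Subgroup G) - Nat.card D = n → P₃ = P := by
    intro P x hDP hxP hxN hxD hn'
    have hDle : D ≤ (P₃ : Subgroup G) ⊓ (P : Subgroup G) := le_inf hD3 hDP
    have hxin : x ∈ (P₃ : Subgroup G) ⊓ (P : Subgroup G) :=
      Subgroup.mem_inf.mpr ⟨hin x hxN P hxP, hxP⟩
    have hlt : Nat.card D < Nat.card ↥((P₃ : Subgroup G) ⊓ (P : Subgroup G)) := by
      by_contra hge
      push Not at hge
      have h1 := Subgroup.eq_of_le_of_card_ge hDle hge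
      exact hxD (h1 ▸ hxin)
    have hle3 : Nat.card ↥((P₃ : Subgroup G) ⊓ (P : Subgroup G)) ≤ Nat.card (P₃ : Subgroup G) :=
      Subgroup.card_le_of_le inf_le_left
    have hc := hcard3 P
    refine ih (Nat.card (P₃ : Subgroup G) - Nat.card ↥((P₃ : Subgroup G) ⊓ (P : Subgroup G)))
      (by omega) P₃ P rfl ?_
    intro hb
    rw [hb] at hDle
    exact hD1 (le_bot_iff.mp hDle)
  have h31 := step P₁ x₁ hDle1 hx₁P hx₁N hx₁D hn
  have h32 := step P₂ x₂ hDle2 hx₂P hx₂N hx₂D (by rw [← hcard3 P₂, hcard3 P₁]; exact hn)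
  exact hne (h31.symm.trans h32)

/-- **Maximal nilpotent subgroups are TI.** -/
theorem maxnilp_TI (hG : Cfsg.IsMinSimpleOddOrder G) (hCN : Cfsg.IsCNGroup G)
    (H : Subgroup G) (hH : Group.IsNilpotent H)
    (hmax : ∀ L : Subgroup G, Group.IsNilpotent L → H ≤ L → L = H) (g : G)
    (hg : H.map (MulAut.conj g).toMonoidHom ≠ H) :
    H ⊓ H.map (MulAut.conj g).toMonoidHom = ⊥ := by
  by_contra hne
  apply hg
  obtain ⟨⟨x, hx⟩, hx1⟩ := (Subgroup.ne_bot_iff_exists_ne_one).mp hne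
  have hx1' : x ≠ 1 := fun h => hx1 (Subtype.ext h)
  obtain ⟨hxH, hxHg⟩ := Subgroup.mem_inf.mp hx
  have ho : orderOf x ≠ 1 := fun h => hx1' (orderOf_eq_one_iff.mp h)
  obtain ⟨p, hp, hpd⟩ := Nat.exists_prime_and_dvd ho
  have hpf := Fact.mk hp
  obtain ⟨y, hy⟩ : ∃ y : G, y = x ^ (orderOf x / p) := ⟨_, rfl⟩
  have hyo : orderOf y = p := by
    rw [hy]; exact orderOf_pow_orderOf_div (orderOf_pos x).ne' hpd
  have hy1 : y ≠ 1 := by
    intro h
    rw [h, orderOf_one] at hyo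
    exact hp.ne_one hyo.symm
  have hyp : y ^ (p ^ 1) = 1 := by
    rw [pow_one, ← hyo]; exact pow_orderOf_eq_one y
  have hyH : y ∈ H := by rw [hy]; exact H.pow_mem hxH _
  have hyHg : y ∈ H.map (MulAut.conj g).toMonoidHom := by
    rw [hy]; exact Subgroup.pow_mem _ hxHg _
  have hpH : p ∣ Nat.card H := by
    have h1 := orderOf_dvd_natCard (⟨y, hyH⟩ : H)
    rwa [Subgroup.orderOf_mk, hyo] at h1
  obtain ⟨P, hPH⟩ := Cfsg.Agent.S1477.exists_sylow_le hCN H hH hmax p hp hpH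
  have hyP : y ∈ (P : Subgroup G) := Cfsg.Agent.S1477.sub_mem_sylow hH P hPH hyH hyp
  obtain ⟨hHg, hmaxg⟩ := maxnilp_conj hH hmax g
  have hPg : ((g • P : Sylow p G) : Subgroup G) ≤ H.map (MulAut.conj g).toMonoidHom :=
    Subgroup.map_mono hPH
  have hyPg : y ∈ ((g • P : Sylow p G) : Subgroup G) :=
    Cfsg.Agent.S1477.sub_mem_sylow hHg (g • P) hPg hyHg hyp
  have hTI := sylow_TI hG hCN p _ P (g • P) rfl (by
    intro hb
    have h1 : y ∈ (P : Subgroup G) ⊓ ((g • P : Sylow p G) : Subgroup G) :=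
      Subgroup.mem_inf.mpr ⟨hyP, hyPg⟩
    rw [hb, Subgroup.mem_bot] at h1
    exact hy1 h1)
  have hP1 : (P : Subgroup G) ≠ ⊥ := by
    intro h
    rw [h, Subgroup.mem_bot] at hyP
    exact hy1 hyP
  have hPg' : (P : Subgroup G) ≤ H.map (MulAut.conj g).toMonoidHom := by
    have h1 : (P : Subgroup G) = ((g • P : Sylow p G) : Subgroup G) := congrArg _ hTI
    rw [h1]
    exact hPg
  exact maxnilp_unique hCN _ _ hHg hmaxg hH hmax P hP1 hPg' hPH

/-- **Structure of maximal subgroups.** -/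
theorem coatom_master (hG : Cfsg.IsMinSimpleOddOrder G) (hCN : Cfsg.IsCNGroup G)
    (M : Subgroup G) (hM : IsCoatom M) :
    Group.IsNilpotent (Cfsg.fittingHallOf M) ∧
    (∀ L : Subgroup G, Group.IsNilpotent L → Cfsg.fittingHallOf M ≤ L →
      L = Cfsg.fittingHallOf M) ∧
    Subgroup.normalizer (Cfsg.fittingHallOf M : Set G) = M ∧
    Cfsg.fittingHallOf M ≠ ⊥ ∧
    ∃ E : Subgroup G, Cfsg.IsComplIn (Cfsg.fittingHallOf M) E M ∧ E ≠ ⊥ ∧
      ∀ e ∈ E, e ≠ 1 → Cfsg.fittingHallOf M ⊓ Subgroup.centralizer ({e} : Set G) = ⊥ := by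
  have hMtop : M ≠ ⊤ := hM.1
  obtain ⟨hMs, hMCN, hMts⟩ := proper_facts hG hCN M hMtop
  have hcoeq : ∀ N : Subgroup G, M ≤ N → N ≠ ⊤ → N = M := by
    intro N hle hN
    by_contra hne
    exact hN (hM.2 N (lt_of_le_of_ne hle (Ne.symm hne)))
  have hnn : ¬ Group.IsNilpotent M := by
    intro hnil
    have hmaxM : ∀ L : Subgroup G, Group.IsNilpotent L → M ≤ L → L = M := by
      intro L hL hle
      apply hcoeq L hle
      rintro rfl
      exact not_nilp_of_minSimple hG (Group.nilpotent_of_mulEquiv Subgroup.topEquiv)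
    obtain ⟨hco, -, E, ⟨-, hEN, hdisj, -⟩, hE1, -⟩ := maxnilp_master hG hCN M hnil hmaxM
    have hNM := hcoeq _ Subgroup.le_normalizer hco.1
    rw [hNM] at hEN
    rw [inf_eq_right.mpr hEN] at hdisj
    exact hE1 hdisj
  obtain ⟨q, hq, Q, hQn, hQ1⟩ := exists_normal_sylow_of_not_ts hMCN hMts hnn
  obtain ⟨hF1, hFnil, hQF, hFmaxM, E, hE⟩ := frob_data hCN M hnn q Q hQn hQ1
  have hFM : Cfsg.fittingHallOf M ≤ M := Subgroup.map_subtype_le _
  have hMN : M ≤ Subgroup.normalizer (Cfsg.fittingHallOf M : Set G) := by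
    have h1 := Subgroup.le_normalizer_map (H := Cfsg.fittingHall M) M.subtype
    rw [Subgroup.normalizer_eq_top_iff.mpr (Cfsg.fittingHall_normal M),
      ← MonoidHom.range_eq_map, Subgroup.range_subtype] at h1
    exact h1
  have hFtop : Cfsg.fittingHallOf M ≠ ⊤ := fun h => hMtop (top_le_iff.mp (h ▸ hFM))
  have hNeq : Subgroup.normalizer (Cfsg.fittingHallOf M : Set G) = M :=
    hcoeq _ hMN (normalizer_ne_top hG hF1 hFtop)
  -- the Sylow subgroup `S` of `G` coming from `Q`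
  obtain ⟨S, hSdef⟩ : ∃ S : Subgroup G, S = (Q : Subgroup M).map M.subtype := ⟨_, rfl⟩
  have hSp : IsPGroup q S := by rw [hSdef]; exact Q.isPGroup'.map _
  have hS1 : S ≠ ⊥ := by
    rw [hSdef, Ne, Subgroup.map_eq_bot_iff_of_injective _ M.subtype_injective]
    exact hQ1
  have hSM : S ≤ M := by rw [hSdef]; exact Subgroup.map_subtype_le _
  have hMNS : M ≤ Subgroup.normalizer (S : Set G) := by
    have h1 := Subgroup.le_normalizer_map (H := (Q : Subgroup M)) M.subtype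
    rw [Subgroup.normalizer_eq_top_iff.mpr hQn, ← MonoidHom.range_eq_map,
      Subgroup.range_subtype, ← hSdef] at h1
    exact h1
  have hNS : Subgroup.normalizer (S : Set G) = M :=
    hcoeq _ hMNS (normalizer_ne_top hG hS1 (pgroup_ne_top hG hSp))
  obtain ⟨Ps, hPs⟩ := hSp.exists_le_sylow
  have hSeq : S = (Ps : Subgroup G) := by
    by_contra hne
    obtain ⟨x, hxP, hxN, hxS⟩ := exists_mem_normalizer_not_mem Ps.isPGroup' hPs hne
    rw [hNS] at hxN
    obtain ⟨k, hk⟩ := Ps.isPGroup' ⟨x, hxP⟩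
    have hk' : x ^ (q ^ k) = 1 := congrArg Subtype.val hk
    have hxQ : (⟨x, hxN⟩ : M) ∈ (Q : Subgroup M) :=
      mem_of_normal_sylow Q hQn (k := k) (Subtype.ext hk')
    apply hxS
    rw [hSdef]
    exact ⟨⟨x, hxN⟩, hxQ, rfl⟩
  have hPs1 : (Ps : Subgroup G) ≠ ⊥ := hSeq ▸ hS1
  obtain ⟨H₂, hFH₂, hH₂, hmax₂⟩ := exists_maxnilp_ge _ hFnil
  have hPsH₂ : (Ps : Subgroup G) ≤ H₂ := by
    rw [← hSeq, hSdef]; exact hQF.trans hFH₂
  obtain ⟨-, hFeq, -⟩ := maxnilp_master hG hCN H₂ hH₂ hmax₂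
  rw [normalizer_maxnilp hCN H₂ hH₂ hmax₂ Ps hPs1 hPsH₂, ← hSeq, hNS] at hFeq
  rw [← hFeq] at hH₂ hmax₂
  exact ⟨hFnil, hmax₂, hNeq, hF1, E, hE⟩

end minsimple2

end Cfsg.Agent.Lib.helper31
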