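import Mathlib

/-!
A finite nilpotent group has a normal abelian subgroup containing its own centralizer
(any maximal normal abelian subgroup).
-/

set_option autoImplicit false

namespace Cfsg.Agent.Lib.helper31

open scoped commutatorElement

/-- In a finite nilpotent group, some normal abelian subgroup `A` satisfies `C_G(A) ≤ A`. -/
theorem exists_normal_abelian_self_centralizing (G : Type*) [Group G] [Finite G]
    [hN : Group.IsNilpotent G] :
    ∃ A : Subgroup G, A.Normal ∧ IsMulCommutative A ∧ Subgroup.centralizer (A : Set G) ≤ A := by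
  classical
  let S : Set (Subgroup G) := {A | A.Normal ∧ IsMulCommutative A}
  have hSfin : S.Finite := Set.toFinite S
  have hbot : (⊥ : Subgroup G) ∈ S := ⟨inferInstance, inferInstance⟩
  obtain ⟨A, -, hA⟩ := hSfin.exists_le_maximal hbot
  obtain ⟨hAn, hAc⟩ := hA.prop
  refine ⟨A, hAn, hAc, ?_⟩
  by_contra hcon
  obtain ⟨n, hn⟩ := hN.nilpotent
  set C := Subgroup.centralizer (A : Set G) with hC
  have hex : ∃ k, ¬ (C ⊓ Subgroup.upperCentralSeries G k ≤ A) :=
    ⟨n, by rw [hn, inf_top_eq]; exact hcon⟩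
  have hk : ¬ (C ⊓ Subgroup.upperCentralSeries G (Nat.find hex) ≤ A) := Nat.find_spec hex
  have hk0 : Nat.find hex ≠ 0 := by
    intro h0; apply hk; rw [h0, Subgroup.upperCentralSeries_zero, inf_bot_eq]; exact bot_le
  obtain ⟨j, hj⟩ := Nat.exists_eq_succ_of_ne_zero hk0
  have hjle : C ⊓ Subgroup.upperCentralSeries G j ≤ A := by
    have := Nat.find_min hex (m := j) (by omega)
    exact not_not.mp this
  obtain ⟨x, hx, hxA⟩ := SetLike.not_le_iff_exists.mp hk
  rw [hj] at hx
  obtain ⟨hxC, hxZ⟩ := Subgroup.mem_inf.mp hx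
  have hCn : C.Normal := Subgroup.normal_centralizer
  have hcomm_mem : ∀ g : G, ⁅x, g⁆ ∈ A := by
    intro g
    apply hjle
    refine Subgroup.mem_inf.mpr ⟨?_, Subgroup.mem_upperCentralSeries_succ_iff.mp hxZ g⟩
    have h1 : g * x⁻¹ * g⁻¹ ∈ C := hCn.conj_mem x⁻¹ (C.inv_mem hxC) g
    have h2 : ⁅x, g⁆ = x * (g * x⁻¹ * g⁻¹) := by
      rw [commutatorElement_def]; group
    rw [h2]; exact C.mul_mem hxC h1
  let B : Subgroup G := Subgroup.closure ((A : Set G) ∪ {x})
  have hBc : IsMulCommutative B := by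
    apply Subgroup.isMulCommutative_closure
    rintro a (ha | ha) b (hb | hb)
    · exact setLike_mul_comm ha hb
    · rw [Set.mem_singleton_iff] at hb; subst hb; exact hxC a ha
    · rw [Set.mem_singleton_iff] at ha; subst ha; exact (hxC b hb).symm
    · rw [Set.mem_singleton_iff] at ha hb; rw [ha, hb]
  have hAB : A ≤ B := fun a ha => Subgroup.subset_closure (Or.inl ha)
  have hxB : x ∈ B := Subgroup.subset_closure (Or.inr rfl)
  have hBn : B.Normal := by
    refine ⟨fun b hb g => ?_⟩
    induction hb using Subgroup.closure_induction with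
    | mem b hb =>
      rcases hb with hb | hb
      · exact hAB (hAn.conj_mem b hb g)
      · rw [Set.mem_singleton_iff] at hb; subst hb
        have h2 : g * b * g⁻¹ = (⁅b, g⁆)⁻¹ * b := by
          rw [commutatorElement_def]; group
        rw [h2]
        exact B.mul_mem (B.inv_mem (hAB (hcomm_mem g))) hxB
    | one => simp
    | mul a b _ _ iha ihb =>
      have : g * (a * b) * g⁻¹ = (g * a * g⁻¹) * (g * b * g⁻¹) := by group
      rw [this]; exact B.mul_mem iha ihb
    | inv a _ iha =>
      have : g * a⁻¹ * g⁻¹ = (g * a * g⁻¹)⁻¹ := by group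
      rw [this]; exact B.inv_mem iha
  have hBA : B ≤ A := hA.le_of_ge (show B ∈ S from ⟨hBn, hBc⟩) hAB
  exact hxA (hBA hxB)

end Cfsg.Agent.Lib.helper31
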