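import Mathlib
import Cfsg.Prelude.Def_OddOrderLocal

/-!
Basic lattice facts about the Puig series (`Cfsg.puigStep`, `Cfsg.puigSeq`, `Cfsg.puigLower`,
`Cfsg.puigSubgroup`).
-/

set_option autoImplicit false

namespace Cfsg.Agent.Lib.helper31

open Cfsg

theorem puigSeq_zero (G : Type*) [Group G] : puigSeq G 0 = ⊥ := rfl

theorem puigSeq_succ (G : Type*) [Group G] (n : ℕ) :
    puigSeq G (n + 1) = puigStep (puigSeq G n) := rfl

theorem puigStep_anti {G : Type*} [Group G] {X Y : Subgroup G} (h : X ≤ Y) :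
    puigStep Y ≤ puigStep X := by
  unfold puigStep
  exact sSup_le_sSup (fun A hA => ⟨hA.1, h.trans hA.2⟩)

theorem le_puigStep {G : Type*} [Group G] {X A : Subgroup G} (hA : IsMulCommutative A)
    (hX : X ≤ Subgroup.normalizer (A : Set G)) : A ≤ puigStep X :=
  le_sSup ⟨hA, hX⟩

theorem puigStep_bot (G : Type*) [Group G] : puigStep (⊥ : Subgroup G) = ⊤ := by
  rw [eq_top_iff]
  intro g _
  have h : Subgroup.zpowers g ≤ puigStep (⊥ : Subgroup G) :=
    le_puigStep (Subgroup.zpowers_isMulCommutative g) bot_le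
  exact h (Subgroup.mem_zpowers g)

theorem puigSeq_one (G : Type*) [Group G] : puigSeq G 1 = ⊤ := by
  rw [puigSeq_succ, puigSeq_zero, puigStep_bot]

/-- Even terms increase and odd terms decrease. -/
theorem puig_even_le_odd_step (G : Type*) [Group G] (k : ℕ) :
    puigSeq G (2 * k) ≤ puigSeq G (2 * k + 2) ∧ puigSeq G (2 * k + 3) ≤ puigSeq G (2 * k + 1) := by
  induction k with
  | zero =>
    have h0 : puigSeq G (2 * 0) ≤ puigSeq G (2 * 0 + 2) := by
      show puigSeq G 0 ≤ _
      rw [puigSeq_zero]; exact bot_le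
    exact ⟨h0, puigStep_anti h0⟩
  | succ k ih =>
    have h1 : puigSeq G (2 * (k + 1)) ≤ puigSeq G (2 * (k + 1) + 2) := puigStep_anti ih.2
    exact ⟨h1, puigStep_anti h1⟩

theorem puig_even_mono (G : Type*) [Group G] : Monotone (fun n : ℕ => puigSeq G (2 * n)) :=
  monotone_nat_of_le_succ (fun n => (puig_even_le_odd_step G n).1)

theorem puig_odd_anti (G : Type*) [Group G] : Antitone (fun n : ℕ => puigSeq G (2 * n + 1)) :=
  antitone_nat_of_succ_le (fun n => (puig_even_le_odd_step G n).2)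

theorem puig_even_le_odd_same (G : Type*) [Group G] (k : ℕ) :
    puigSeq G (2 * k) ≤ puigSeq G (2 * k + 1) := by
  induction k with
  | zero =>
    show puigSeq G 0 ≤ _
    rw [puigSeq_zero]; exact bot_le
  | succ k ih =>
    have h1 : puigSeq G (2 * k + 2) ≤ puigSeq G (2 * k + 1) := puigStep_anti ih
    exact puigStep_anti h1

theorem puig_even_le_odd (G : Type*) [Group G] (n m : ℕ) :
    puigSeq G (2 * n) ≤ puigSeq G (2 * m + 1) :=
  calc puigSeq G (2 * n) ≤ puigSeq G (2 * max n m) := puig_even_mono G (le_max_left n m)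
    _ ≤ puigSeq G (2 * max n m + 1) := puig_even_le_odd_same G _
    _ ≤ puigSeq G (2 * m + 1) := puig_odd_anti G (le_max_right n m)

theorem puigLower_le_puigSubgroup (G : Type*) [Group G] : puigLower G ≤ puigSubgroup G :=
  iSup_le (fun n => le_iInf (fun m => puig_even_le_odd G n m))

/-- In a finite group both subsequences of the Puig series stabilise, at `L_*` and `L`. -/
theorem puig_stabilizes (G : Type*) [Group G] [Finite G] :
    ∃ k : ℕ, ∀ n : ℕ, k ≤ n →
      puigSeq G (2 * n) = puigLower G ∧ puigSeq G (2 * n + 1) = puigSubgroup G := by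
  obtain ⟨k1, hk1⟩ := WellFoundedGT.monotone_chain_condition
    (⟨fun n : ℕ => puigSeq G (2 * n), puig_even_mono G⟩ : ℕ →o Subgroup G)
  obtain ⟨k2, hk2⟩ := WellFoundedGT.monotone_chain_condition
    (⟨fun n : ℕ => OrderDual.toDual (puigSeq G (2 * n + 1)),
      fun a b hab => puig_odd_anti G hab⟩ : ℕ →o (Subgroup G)ᵒᵈ)
  have hk1' : ∀ m, k1 ≤ m → puigSeq G (2 * k1) = puigSeq G (2 * m) := hk1
  have hk2' : ∀ m, k2 ≤ m → puigSeq G (2 * k2 + 1) = puigSeq G (2 * m + 1) := fun m hm =>
    congrArg OrderDual.ofDual (hk2 m hm)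
  have hlow : puigLower G = puigSeq G (2 * k1) := by
    apply le_antisymm
    · refine iSup_le (fun m => ?_)
      calc puigSeq G (2 * m) ≤ puigSeq G (2 * max m k1) := puig_even_mono G (le_max_left m k1)
        _ = puigSeq G (2 * k1) := (hk1' _ (le_max_right m k1)).symm
    · exact le_iSup (fun n : ℕ => puigSeq G (2 * n)) k1
  have hup : puigSubgroup G = puigSeq G (2 * k2 + 1) := by
    apply le_antisymm
    · exact iInf_le (fun n : ℕ => puigSeq G (2 * n + 1)) k2
    · refine le_iInf (fun m => ?_)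
      calc puigSeq G (2 * k2 + 1) = puigSeq G (2 * max m k2 + 1) := hk2' _ (le_max_right m k2)
        _ ≤ puigSeq G (2 * m + 1) := puig_odd_anti G (le_max_left m k2)
  refine ⟨max k1 k2, fun n hn => ⟨?_, ?_⟩⟩
  · rw [hlow]; exact (hk1' n ((le_max_left k1 k2).trans hn)).symm
  · rw [hup]; exact (hk2' n ((le_max_right k1 k2).trans hn)).symm

theorem puigStep_puigLower (G : Type*) [Group G] [Finite G] :
    puigStep (puigLower G) = puigSubgroup G := by
  obtain ⟨k, hk⟩ := puig_stabilizes G
  rw [← (hk k le_rfl).1, ← (hk k le_rfl).2, puigSeq_succ]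

theorem puigStep_puigSubgroup (G : Type*) [Group G] [Finite G] :
    puigStep (puigSubgroup G) = puigLower G := by
  obtain ⟨k, hk⟩ := puig_stabilizes G
  rw [← (hk k le_rfl).2, ← (hk (k + 1) (Nat.le_succ k)).1]
  rfl

end Cfsg.Agent.Lib.helper31
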