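import Mathlib

/-! S4073 split (architect helper69), piece CT-B (`ct_sylow2_borel`), by helper31.
`P` a Sylow 2-subgroup of order `q = 2^n`, abelian, `C_G(u) ≤ P` for `u ∈ P ∖ 1`,
`|N_G(P)| = q (q - 1)` with `q - 1` prime: every non-abelian subgroup of `N_G(P)` is `N_G(P)`,
and `G` has no element of order `4`. -/

set_option autoImplicit false
set_option linter.unusedVariables false

namespace Cfsg.Agent.Lib.helper31.SNG

universe u v

/-- The quotient `N_G(P) / P` has order `2^n - 1`. -/
theorem h31_ct_quot_card {G : Type u} [Group G] [Finite G] {n : ℕ} (P : Sylow 2 G)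
    (hP : Nat.card P = 2 ^ n)
    (hN : Nat.card (Subgroup.normalizer ((P : Subgroup G) : Set G)) = 2 ^ n * (2 ^ n - 1))
    (hnorm : ((P : Subgroup G).subgroupOf
      (Subgroup.normalizer ((P : Subgroup G) : Set G))).Normal) :
    Nat.card (Subgroup.normalizer ((P : Subgroup G) : Set G) ⧸
      (P : Subgroup G).subgroupOf (Subgroup.normalizer ((P : Subgroup G) : Set G))) =
      2 ^ n - 1 := by
  have hPN : (P : Subgroup G) ≤ Subgroup.normalizer ((P : Subgroup G) : Set G) :=
    Subgroup.le_normalizer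
  have hP' : Nat.card (P : Subgroup G) = 2 ^ n := hP
  have hcardsub : Nat.card ((P : Subgroup G).subgroupOf
      (Subgroup.normalizer ((P : Subgroup G) : Set G))) = 2 ^ n := by
    rw [← hP']
    exact Nat.card_congr (Subgroup.subgroupOfEquivOfLe hPN).toEquiv
  have hpos : 0 < 2 ^ n := by positivity
  have h1 := Subgroup.card_eq_card_quotient_mul_card_subgroup ((P : Subgroup G).subgroupOf
      (Subgroup.normalizer ((P : Subgroup G) : Set G)))
  rw [hN, hcardsub] at h1
  have h2 : (2 ^ n - 1) * 2 ^ n = Nat.card (Subgroup.normalizer ((P : Subgroup G) : Set G) ⧸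
      (P : Subgroup G).subgroupOf (Subgroup.normalizer ((P : Subgroup G) : Set G))) * 2 ^ n := by
    rw [← h1, Nat.mul_comm]
  exact (Nat.eq_of_mul_eq_mul_right hpos h2).symm

/-- For `k ∈ N_G(P) ∖ P` and `u ∈ P ∖ 1` the conjugates `k^i u k^{-i}` exhaust `P ∖ 1`. -/
theorem h31_ct_conj_surj {G : Type u} [Group G] [Finite G]
    {n : ℕ} (hp : (2 ^ n - 1).Prime) (P : Sylow 2 G)
    (hP : Nat.card P = 2 ^ n)
    (hN : Nat.card (Subgroup.normalizer ((P : Subgroup G) : Set G)) = 2 ^ n * (2 ^ n - 1))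
    (hcent : ∀ u ∈ P, u ≠ 1 → ∀ g : G, Commute g u → g ∈ P)
    (k u : G) (hk : k ∈ Subgroup.normalizer ((P : Subgroup G) : Set G)) (hkP : k ∉ P)
    (hu : u ∈ P) (hu1 : u ≠ 1) :
    ∀ v ∈ P, v ≠ 1 → ∃ i : ℕ, v = k ^ i * u * (k ^ i)⁻¹ := by
  classical
  have hnorm : ((P : Subgroup G).subgroupOf
      (Subgroup.normalizer ((P : Subgroup G) : Set G))).Normal := Subgroup.normal_in_normalizer
  have hQ := h31_ct_quot_card P hP hN hnorm
  have hP' : Nat.card (P : Subgroup G) = 2 ^ n := hP
  have hpos : 0 < 2 ^ n := by positivity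
  -- the order of `k` modulo `P`
  have hord : ∀ m : ℕ, k ^ m ∈ P → (2 ^ n - 1) ∣ m := by
    intro m hm
    obtain ⟨kb, hkb⟩ : ∃ kb : Subgroup.normalizer ((P : Subgroup G) : Set G) ⧸
        (P : Subgroup G).subgroupOf (Subgroup.normalizer ((P : Subgroup G) : Set G)),
        kb = QuotientGroup.mk (⟨k, hk⟩ : Subgroup.normalizer ((P : Subgroup G) : Set G)) :=
      ⟨_, rfl⟩
    have hkb1 : kb ≠ 1 := by
      rw [hkb]
      intro h1
      rw [QuotientGroup.eq_one_iff, Subgroup.mem_subgroupOf] at h1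
      exact hkP h1
    have hkbm : kb ^ m = 1 := by
      rw [hkb, ← QuotientGroup.mk_pow, QuotientGroup.eq_one_iff, Subgroup.mem_subgroupOf]
      exact hm
    have h1 : orderOf kb ∣ 2 ^ n - 1 := by
      rw [← hQ]
      exact orderOf_dvd_natCard kb
    have h2 : orderOf kb ≠ 1 := by
      rw [Ne, orderOf_eq_one_iff]
      exact hkb1
    have h3 : orderOf kb = 2 ^ n - 1 := (hp.eq_one_or_self_of_dvd _ h1).resolve_left h2
    rw [← h3]
    exact orderOf_dvd_of_pow_eq_one hkbm
  have hconjP : ∀ i : ℕ, k ^ i * u * (k ^ i)⁻¹ ∈ P := by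
    intro i
    have h1 := pow_mem hk i
    rw [Subgroup.mem_normalizer_iff] at h1
    exact (h1 u).mp hu
  have hconj1 : ∀ i : ℕ, k ^ i * u * (k ^ i)⁻¹ ≠ 1 := by
    intro i h
    exact hu1 (conj_eq_one_iff.mp h)
  have key : ∀ a b w : G, a * w * a⁻¹ = (b * a) * w * (b * a)⁻¹ →
      b * (a * w * a⁻¹) = (a * w * a⁻¹) * b := by
    intro a b w h
    have h2 : (b * a) * w * (b * a)⁻¹ * b = b * (a * w * a⁻¹) := by group
    rw [← h2, ← h]
  have hinj0 : ∀ i j : ℕ, i ≤ j → j < 2 ^ n - 1 →
      k ^ i * u * (k ^ i)⁻¹ = k ^ j * u * (k ^ j)⁻¹ → i = j := by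
    intro i j hij hj h
    have hkj : k ^ j = k ^ (j - i) * k ^ i := by
      rw [← pow_add, Nat.sub_add_cancel hij]
    rw [hkj] at h
    have hb : Commute (k ^ (j - i)) (k ^ i * u * (k ^ i)⁻¹) := key _ _ _ h
    have hmem := hcent _ (hconjP i) (hconj1 i) _ hb
    have hd := hord _ hmem
    have h0 : j - i = 0 := Nat.eq_zero_of_dvd_of_lt hd (by omega)
    omega
  have hinj : ∀ i j : ℕ, i < 2 ^ n - 1 → j < 2 ^ n - 1 →
      k ^ i * u * (k ^ i)⁻¹ = k ^ j * u * (k ^ j)⁻¹ → i = j := by
    intro i j hi hj h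
    rcases le_total i j with hij | hij
    · exact hinj0 i j hij hj h
    · exact (hinj0 j i hij hi h.symm).symm
  obtain ⟨F, hF0, hFs⟩ : ∃ F : Option (Fin (2 ^ n - 1)) → (P : Subgroup G), (F none = 1) ∧
      ∀ i : Fin (2 ^ n - 1), ((F (some i) : (P : Subgroup G)) : G) =
        k ^ i.val * u * (k ^ i.val)⁻¹ :=
    ⟨fun o => o.elim 1 (fun i => ⟨k ^ i.val * u * (k ^ i.val)⁻¹, hconjP i.val⟩), rfl,
      fun i => rfl⟩
  have hFinj : Function.Injective F := by
    intro o1 o2 h
    cases o1 with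
    | none =>
      cases o2 with
      | none => rfl
      | some j =>
        exfalso
        have h2 : ((F none : (P : Subgroup G)) : G) = ((F (some j) : (P : Subgroup G)) : G) :=
          congrArg Subtype.val h
        rw [hFs j, hF0] at h2
        exact hconj1 j.val h2.symm
    | some i =>
      cases o2 with
      | none =>
        exfalso
        have h2 : ((F (some i) : (P : Subgroup G)) : G) = ((F none : (P : Subgroup G)) : G) :=
          congrArg Subtype.val h
        rw [hFs i, hF0] at h2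
        exact hconj1 i.val h2
      | some j =>
        have h2 : ((F (some i) : (P : Subgroup G)) : G) =
            ((F (some j) : (P : Subgroup G)) : G) := congrArg Subtype.val h
        rw [hFs i, hFs j] at h2
        have h3 := hinj i.val j.val i.isLt j.isLt h2
        rw [Fin.ext h3]
  have hcardOpt : Nat.card (Option (Fin (2 ^ n - 1))) = 2 ^ n := by
    rw [Nat.card_eq_fintype_card, Fintype.card_option, Fintype.card_fin]
    omega
  have hbij : Function.Bijective F :=
    (Nat.bijective_iff_injective_and_card F).mpr ⟨hFinj, by rw [hcardOpt, hP']⟩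
  intro v hv hv1
  obtain ⟨o, ho⟩ := hbij.2 ⟨v, hv⟩
  cases o with
  | none =>
    exfalso
    rw [hF0] at ho
    exact hv1 (congrArg Subtype.val ho).symm
  | some i =>
    refine ⟨i.val, ?_⟩
    have h2 := congrArg Subtype.val ho
    rw [hFs i] at h2
    exact h2.symm

/-- **[CT-B]** -/
theorem ct_sylow2_borel {G : Type u} [Group G] [Finite G]
    {n : ℕ} (hn : 2 ≤ n) (hp : (2 ^ n - 1).Prime) (P : Sylow 2 G)
    (hP : Nat.card P = 2 ^ n)
    (hN : Nat.card (Subgroup.normalizer ((P : Subgroup G) : Set G)) = 2 ^ n * (2 ^ n - 1))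
    (hPc : IsMulCommutative P)
    (hcent : ∀ u ∈ P, u ≠ 1 → ∀ g : G, Commute g u → g ∈ P) :
    (∀ K : Subgroup G, K ≤ Subgroup.normalizer ((P : Subgroup G) : Set G) →
        ¬ IsMulCommutative K → K = Subgroup.normalizer ((P : Subgroup G) : Set G)) ∧
    (∀ x : G, x ^ 4 = 1 → x ^ 2 = 1) := by
  classical
  have hpos : 0 < 2 ^ n := by positivity
  have hr2 : 2 ≤ 2 ^ n - 1 := hp.two_le
  have hcomm : ∀ a ∈ P, ∀ b ∈ P, a * b = b * a := by
    intro a ha b hb
    have := hPc.is_comm.comm (⟨a, ha⟩ : P) ⟨b, hb⟩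
    exact congrArg Subtype.val this
  have hP' : Nat.card (P : Subgroup G) = 2 ^ n := hP
  have hnorm : ((P : Subgroup G).subgroupOf
      (Subgroup.normalizer ((P : Subgroup G) : Set G))).Normal := Subgroup.normal_in_normalizer
  have hQ := h31_ct_quot_card P hP hN hnorm
  constructor
  · intro K hKN hK
    have hex : ∃ a ∈ K, ∃ b ∈ K, a * b ≠ b * a := by
      by_contra hcon
      apply hK
      refine ⟨⟨fun a b => Subtype.ext ?_⟩⟩
      by_contra hne
      exact hcon ⟨a.1, a.2, b.1, b.2, hne⟩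
    obtain ⟨a, ha, b, hb, hab⟩ := hex
    -- `N_G(P) / P` is cyclic, hence commutators of `N_G(P)` lie in `P`
    have hfact : Fact (2 ^ n - 1).Prime := ⟨hp⟩
    have hcyc : IsCyclic (Subgroup.normalizer ((P : Subgroup G) : Set G) ⧸
        (P : Subgroup G).subgroupOf (Subgroup.normalizer ((P : Subgroup G) : Set G))) :=
      isCyclic_of_prime_card hQ
    have huP : a * b * a⁻¹ * b⁻¹ ∈ P := by
      have h1 : (QuotientGroup.mk ((⟨a, hKN ha⟩ : Subgroup.normalizer ((P : Subgroup G) : Set G))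
          * ⟨b, hKN hb⟩ * (⟨a, hKN ha⟩ : Subgroup.normalizer ((P : Subgroup G) : Set G))⁻¹
          * (⟨b, hKN hb⟩ : Subgroup.normalizer ((P : Subgroup G) : Set G))⁻¹) :
          Subgroup.normalizer ((P : Subgroup G) : Set G) ⧸
            (P : Subgroup G).subgroupOf (Subgroup.normalizer ((P : Subgroup G) : Set G))) = 1 := by
        rw [QuotientGroup.mk_mul, QuotientGroup.mk_mul, QuotientGroup.mk_mul, QuotientGroup.mk_inv,
          QuotientGroup.mk_inv]
        have hcm : IsMulCommutative (Subgroup.normalizer ((P : Subgroup G) : Set G) ⧸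
          (P : Subgroup G).subgroupOf (Subgroup.normalizer ((P : Subgroup G) : Set G))) :=
          inferInstance
        have h3 := hcm.is_comm.comm
          (QuotientGroup.mk (⟨a, hKN ha⟩ : Subgroup.normalizer ((P : Subgroup G) : Set G)))
          (QuotientGroup.mk (⟨b, hKN hb⟩ : Subgroup.normalizer ((P : Subgroup G) : Set G)))
        rw [h3]
        group
      rw [QuotientGroup.eq_one_iff, Subgroup.mem_subgroupOf] at h1
      exact h1
    have huK : a * b * a⁻¹ * b⁻¹ ∈ K :=
      K.mul_mem (K.mul_mem (K.mul_mem ha hb) (K.inv_mem ha)) (K.inv_mem hb)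
    have hu1 : a * b * a⁻¹ * b⁻¹ ≠ 1 := by
      intro h
      apply hab
      have h2 := mul_inv_eq_one.mp h
      exact mul_inv_eq_iff_eq_mul.mp h2
    obtain ⟨k, hkK, hkP⟩ : ∃ k ∈ K, k ∉ P := by
      by_cases haP : a ∈ P
      · exact ⟨b, hb, fun hbP => hab (hcomm a haP b hbP)⟩
      · exact ⟨a, ha, haP⟩
    have hPK : (P : Subgroup G) ≤ K := by
      intro v hv
      by_cases hv1 : v = 1
      · rw [hv1]
        exact K.one_mem
      · obtain ⟨i, hi⟩ := h31_ct_conj_surj hp P hP hN hcent k _ (hKN hkK) hkP huP hu1 v hv hv1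
        rw [hi]
        exact K.mul_mem (K.mul_mem (K.pow_mem hkK i) huK) (K.inv_mem (K.pow_mem hkK i))
    apply Subgroup.eq_of_le_of_card_ge hKN
    have h1 : Nat.card (P : Subgroup G) ∣ Nat.card K := Subgroup.card_dvd_of_le hPK
    have h2 : Nat.card K ∣ Nat.card (Subgroup.normalizer ((P : Subgroup G) : Set G)) :=
      Subgroup.card_dvd_of_le hKN
    rw [hP'] at h1
    rw [hN] at h2 ⊢
    obtain ⟨m, hm⟩ := h1
    rw [hm] at h2 ⊢
    have h3 : m ∣ 2 ^ n - 1 := Nat.dvd_of_mul_dvd_mul_left hpos h2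
    rcases hp.eq_one_or_self_of_dvd m h3 with h4 | h4
    · exfalso
      have hKP : (P : Subgroup G) = K :=
        Subgroup.eq_of_le_of_card_ge hPK (by rw [hm, h4, hP', Nat.mul_one])
      apply hkP
      have : k ∈ (P : Subgroup G) := by
        rw [hKP]
        exact hkK
      exact this
    · rw [h4]
  · intro x hx
    have hfact2 : Fact (Nat.Prime 2) := ⟨Nat.prime_two⟩
    have hxp : IsPGroup 2 (Subgroup.zpowers x) := by
      have h1 : orderOf x ∣ 2 ^ 2 := orderOf_dvd_of_pow_eq_one (by norm_num; exact hx)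
      obtain ⟨j, -, hj⟩ := (Nat.dvd_prime_pow Nat.prime_two).mp h1
      exact IsPGroup.of_card (n := j) (by rw [Nat.card_zpowers, hj])
    obtain ⟨Q, hQ2⟩ := hxp.exists_le_sylow
    obtain ⟨g, hg⟩ := MulAction.exists_smul_eq G Q P
    have hxQ : x ∈ (Q : Subgroup G) := hQ2 (Subgroup.mem_zpowers x)
    have hv : g * x * g⁻¹ ∈ P := by
      have h1 : g * x * g⁻¹ ∈ ((g • Q : Sylow 2 G) : Subgroup G) := by
        rw [Sylow.coe_subgroup_smul]
        exact Subgroup.smul_mem_pointwise_smul x (MulAut.conj g) (Q : Subgroup G) hxQ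
      rw [hg] at h1
      exact h1
    have hv4 : (g * x * g⁻¹) ^ 2 = 1 := by
      by_cases hv1 : g * x * g⁻¹ = 1
      · rw [hv1, one_pow]
      · -- an involution of `P`
        have h2dvd : 2 ∣ Nat.card (P : Subgroup G) := by
          rw [hP']
          exact dvd_pow_self 2 (by omega)
        obtain ⟨t, ht⟩ := exists_prime_orderOf_dvd_card' 2 h2dvd
        have ht1 : (t : G) ≠ 1 := by
          intro h
          have h5 : t = 1 := Subtype.ext h
          rw [h5, orderOf_one] at ht
          omega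
        have ht2 : (t : G) ^ 2 = 1 := by
          have h5 := pow_orderOf_eq_one t
          rw [ht] at h5
          exact congrArg Subtype.val h5
        -- an element of `N_G(P)` outside `P`
        obtain ⟨k, hkN, hkP⟩ : ∃ k ∈ Subgroup.normalizer ((P : Subgroup G) : Set G), k ∉ P := by
          by_contra hcon
          have hNP : Subgroup.normalizer ((P : Subgroup G) : Set G) ≤ (P : Subgroup G) := by
            intro k hk
            by_contra hkP
            exact hcon ⟨k, hk, hkP⟩
          have h1 := Subgroup.card_le_of_le hNP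
          rw [hN, hP'] at h1
          have h5 : 2 ^ n * 2 ≤ 2 ^ n * (2 ^ n - 1) := Nat.mul_le_mul_left _ hr2
          omega
        obtain ⟨i, hi⟩ := h31_ct_conj_surj hp P hP hN hcent k (t : G) hkN hkP t.2 ht1 _ hv hv1
        rw [hi, conj_pow, ht2, mul_one, mul_inv_cancel]
    rw [conj_pow] at hv4
    exact conj_eq_one_iff.mp hv4

end Cfsg.Agent.Lib.helper31.SNG
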