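import Mathlib
import Cfsg.Prelude.Def_Characters
import Cfsg.Prelude.Def_Blocks
import Cfsg.Agent.Lib.helper84.BrDefs
import Cfsg.Agent.Lib.helper66.BrSING

/-! S0997 split (architect helper19), piece PSO (`psing_order`): if `|P| = p` and `C_G(P) = P`,
every `p`-singular element has order `p`. -/

set_option autoImplicit false

namespace Cfsg.Agent.Lib.helper31.BU

open Cfsg Cfsg.Agent.Lib.helper81 Cfsg.Agent.Lib.helper84.Br
open scoped ComplexConjugate

universe u

variable {G : Type u} [Group G] [Fintype G]

variable {p : ℕ} [Fact p.Prime] {P : Sylow p G} {e : ℕ}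

/-- PSO : `p`-singular elements have order `p`. -/
theorem psing_order (hP : Nat.card P = p)
    (hC : Subgroup.centralizer ((P : Subgroup G) : Set G) = (P : Subgroup G))
    (g : G) (hg : p ∣ orderOf g) : orderOf g = p := by
  obtain ⟨h, hh⟩ := Cfsg.Agent.Lib.helper66.Br.psing_conj hP hC g hg
  have ho : orderOf (h⁻¹ * g * h) = orderOf g := by
    have := orderOf_injective (MulAut.conj h⁻¹).toMonoidHom (MulAut.conj h⁻¹).injective g
    simpa [MulAut.conj_apply] using this
  have hdvd : orderOf (h⁻¹ * g * h) ∣ p := by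
    have := Subgroup.orderOf_dvd_natCard (P : Subgroup G) hh
    rwa [hP] at this
  rw [ho] at hdvd
  exact Nat.dvd_antisymm hdvd hg

end Cfsg.Agent.Lib.helper31.BU
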