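import Mathlib
import Cfsg.Agent.Lib.helper89.S60Defs

/-!
S6000 split (architect helper89), leaf BFC (`s60_fix_count`), by helper31.
(Model: the landed `s6_fix_count` of helper72.)
-/

set_option autoImplicit false

namespace Cfsg.Agent.Lib.helper89.S60

open Matrix Cfsg Cfsg.Geo

/-- Fixed points of conjugation by `y` on a conjugation-stable finite predicate. -/
theorem h31_s60_fix_mod {G : Type*} [Group G] [Finite G] (P : G → Prop)
    (r : ℕ) [Fact r.Prime] (y : G) (hP : ∀ s, P s → P (y * s * y⁻¹)) (hyr : y ^ r = 1) :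
    Nat.card {s : G // P s ∧ y * s = s * y} % r = Nat.card {s : G // P s} % r := by
  classical
  let _ : Fintype {s : G // P s} := Fintype.ofFinite _
  let f : Function.End {s : G // P s} := fun s => ⟨y * s.1 * y⁻¹, hP s.1 s.2⟩
  have hpow : ∀ n : ℕ, ∀ s : {s : G // P s}, ((f ^ n : Function.End {s : G // P s}) s).1 = y ^ n * s.1 * (y ^ n)⁻¹ := by
    intro n
    induction n with
    | zero =>
      intro s
      change s.1 = _
      simp
    | succ n ih =>
      intro s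
      rw [pow_succ']
      change (f ((f ^ n : Function.End {s : G // P s}) s)).1 = _
      change y * ((f ^ n : Function.End {s : G // P s}) s).1 * y⁻¹ = _
      rw [ih s, pow_succ']
      group
  have hf : f ^ r ^ 1 = 1 := by
    rw [pow_one]
    funext s
    apply Subtype.ext
    rw [hpow r s, hyr]
    change _ = s.1
    simp
  have h := Equiv.Perm.card_fixedPoints_modEq (p := r) (n := 1) hf
  have e : {s : G // P s ∧ y * s = s * y} ≃ Function.fixedPoints f :=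
    { toFun := fun s => ⟨⟨s.1, s.2.1⟩, by
        change f ⟨s.1, s.2.1⟩ = ⟨s.1, s.2.1⟩
        apply Subtype.ext
        change y * s.1 * y⁻¹ = s.1
        rw [s.2.2]; group⟩
      invFun := fun s => ⟨s.1.1, s.1.2, by
        have h1 : f s.1 = s.1 := s.2
        have h2 : y * s.1.1 * y⁻¹ = s.1.1 := congrArg Subtype.val h1
        calc y * s.1.1 = y * s.1.1 * y⁻¹ * y := by group
          _ = s.1.1 * y := by rw [h2]⟩
      left_inv := fun s => rfl
      right_inv := fun s => rfl }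
  rw [Nat.card_congr e, Nat.card_eq_fintype_card, Nat.card_eq_fintype_card]
  exact h.symm

/-- BFC (L). -/
theorem s60_fix_count {F : Type*} [Field F] [Fintype F] (h2 : (2 : F) ≠ 0) (R : Subgroup (GL (Fin 4) F)) (w : F) (hG : Good R w)
    (r : ℕ) [Fact r.Prime] (y : GL (Fin 4) F) (hy : y ∈ subgroupNormalizer R) (hyr : y ^ r = 1) :
    Nat.card {s : GL (Fin 4) F // s ∈ R ∧ y * s = s * y} ∣ 64 ∧ 4 ∣ Nat.card {s : GL (Fin 4) F // s ∈ R ∧ y * s = s * y} ∧
      Nat.card {s : GL (Fin 4) F // s ∈ R ∧ y * s = s * y} % r = 64 % r ∧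
      ∀ s₀ ∈ R, y * s₀ = s₀ * y →
        Nat.card {t : GL (Fin 4) F // t ∈ R ∧ (t : Matrix (Fin 4) (Fin 4) F) * (s₀ : Matrix (Fin 4) (Fin 4) F) = -((s₀ : Matrix (Fin 4) (Fin 4) F) * (t : Matrix (Fin 4) (Fin 4) F)) ∧ y * t = t * y} % r =
          Nat.card {t : GL (Fin 4) F // t ∈ R ∧ (t : Matrix (Fin 4) (Fin 4) F) * (s₀ : Matrix (Fin 4) (Fin 4) F) = -((s₀ : Matrix (Fin 4) (Fin 4) F) * (t : Matrix (Fin 4) (Fin 4) F))} % r := by
  classical
  have : Finite (GL (Fin 4) F) :=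
    Finite.of_injective (fun g : GL (Fin 4) F => (g : Matrix (Fin 4) (Fin 4) F)) Units.val_injective
  have hyN : y ∈ Subgroup.normalizer (R : Set (GL (Fin 4) F)) := hy
  have hconj : ∀ s, s ∈ R → y * s * y⁻¹ ∈ R := fun s hs => (Subgroup.mem_normalizer_iff.mp hyN s).mp hs
  obtain ⟨z, hzR, hz⟩ := hG.wmem
  have hzc : ∀ g : GL (Fin 4) F, g * z = z * g := by
    intro g
    apply Units.ext
    simp [hz]
  have hz2 : ((z ^ 2 : GL (Fin 4) F) : Matrix (Fin 4) (Fin 4) F) = -1 := by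
    rw [pow_two, Units.val_mul, hz, smul_mul_smul_comm, mul_one, hG.wsq, neg_smul, one_smul]
  have hz2ne : ¬ z ^ 2 ^ 1 = 1 := by
    rw [pow_one]
    intro h
    have h3 : ((z ^ 2 : GL (Fin 4) F) : Matrix (Fin 4) (Fin 4) F) = 1 := by rw [h]; rfl
    rw [hz2] at h3
    have h4 := congrFun (congrFun h3 0) 0
    simp at h4
    apply h2
    have : (2 : F) = 1 - (-1) := by ring
    rw [this, h4]; ring
  have hz4 : z ^ 2 ^ (1 + 1) = 1 := by
    apply Units.ext
    have : z ^ 2 ^ (1 + 1) = z ^ 2 * z ^ 2 := by rw [← pow_add]; norm_num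
    rw [this, Units.val_mul, hz2]
    simp
  have hord : orderOf z = 4 := by
    have := orderOf_eq_prime_pow hz2ne hz4
    simpa using this
  -- the centralizer subgroup
  let C : Subgroup (GL (Fin 4) F) := R ⊓ Subgroup.centralizer {y}
  have eC : {s : GL (Fin 4) F // s ∈ R ∧ y * s = s * y} ≃ C :=
    Equiv.subtypeEquivRight (fun s => by
      change _ ↔ s ∈ R ∧ s ∈ Subgroup.centralizer {y}
      rw [Subgroup.mem_centralizer_iff]
      constructor
      · rintro ⟨h1, h3⟩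
        refine ⟨h1, ?_⟩
        intro g hg
        rw [Set.mem_singleton_iff] at hg
        subst hg
        exact h3
      · rintro ⟨h1, h3⟩
        exact ⟨h1, h3 y rfl⟩)
  have hCR : Nat.card C ∣ 64 := by
    have := Subgroup.card_dvd_of_le (inf_le_left : C ≤ R)
    rwa [hG.card] at this
  have hzC : z ∈ C := by
    refine ⟨hzR, ?_⟩
    show z ∈ Subgroup.centralizer {y}
    rw [Subgroup.mem_centralizer_iff]
    intro g hg
    rw [Set.mem_singleton_iff] at hg
    subst hg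
    exact hzc g
  have h4C : 4 ∣ Nat.card C := by
    have h5 : orderOf (⟨z, hzC⟩ : C) = 4 := (Subgroup.orderOf_mk z hzC).trans hord
    have h6 := orderOf_dvd_natCard (⟨z, hzC⟩ : C)
    exact (dvd_of_eq h5.symm).trans h6
  refine ⟨by rw [Nat.card_congr eC]; exact hCR, by rw [Nat.card_congr eC]; exact h4C, ?_, ?_⟩
  · have h := h31_s60_fix_mod (fun s : GL (Fin 4) F => s ∈ R) r y hconj hyr
    rw [h]
    have : Nat.card {s : GL (Fin 4) F // s ∈ R} = 64 := hG.card
    rw [this]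
  · intro s₀ hs₀ hys
    let P : GL (Fin 4) F → Prop := fun t => t ∈ R ∧
      (t : Matrix (Fin 4) (Fin 4) F) * (s₀ : Matrix (Fin 4) (Fin 4) F) =
        -((s₀ : Matrix (Fin 4) (Fin 4) F) * (t : Matrix (Fin 4) (Fin 4) F))
    have hYS : (y : Matrix (Fin 4) (Fin 4) F) * (s₀ : Matrix (Fin 4) (Fin 4) F) =
        (s₀ : Matrix (Fin 4) (Fin 4) F) * (y : Matrix (Fin 4) (Fin 4) F) := by
      have := congrArg (fun g : GL (Fin 4) F => (g : Matrix (Fin 4) (Fin 4) F)) hys
      simpa only [Units.val_mul] using this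
    have hYYi : (y : Matrix (Fin 4) (Fin 4) F) * ((y⁻¹ : GL (Fin 4) F) : Matrix (Fin 4) (Fin 4) F) = 1 :=
      Units.mul_inv y
    have hYiY : ((y⁻¹ : GL (Fin 4) F) : Matrix (Fin 4) (Fin 4) F) * (y : Matrix (Fin 4) (Fin 4) F) = 1 :=
      Units.inv_mul y
    have hYiS : ((y⁻¹ : GL (Fin 4) F) : Matrix (Fin 4) (Fin 4) F) * (s₀ : Matrix (Fin 4) (Fin 4) F) =
        (s₀ : Matrix (Fin 4) (Fin 4) F) * ((y⁻¹ : GL (Fin 4) F) : Matrix (Fin 4) (Fin 4) F) := by
      calc ((y⁻¹ : GL (Fin 4) F) : Matrix (Fin 4) (Fin 4) F) * (s₀ : Matrix (Fin 4) (Fin 4) F)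
          = ((y⁻¹ : GL (Fin 4) F) : Matrix (Fin 4) (Fin 4) F) * (s₀ : Matrix (Fin 4) (Fin 4) F) *
              ((y : Matrix (Fin 4) (Fin 4) F) * ((y⁻¹ : GL (Fin 4) F) : Matrix (Fin 4) (Fin 4) F)) := by
            rw [hYYi, mul_one]
        _ = ((y⁻¹ : GL (Fin 4) F) : Matrix (Fin 4) (Fin 4) F) *
              ((s₀ : Matrix (Fin 4) (Fin 4) F) * (y : Matrix (Fin 4) (Fin 4) F)) *
              ((y⁻¹ : GL (Fin 4) F) : Matrix (Fin 4) (Fin 4) F) := by simp only [mul_assoc]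
        _ = ((y⁻¹ : GL (Fin 4) F) : Matrix (Fin 4) (Fin 4) F) * (y : Matrix (Fin 4) (Fin 4) F) *
              (s₀ : Matrix (Fin 4) (Fin 4) F) * ((y⁻¹ : GL (Fin 4) F) : Matrix (Fin 4) (Fin 4) F) := by
            rw [← hYS]; simp only [mul_assoc]
        _ = (s₀ : Matrix (Fin 4) (Fin 4) F) * ((y⁻¹ : GL (Fin 4) F) : Matrix (Fin 4) (Fin 4) F) := by
            rw [hYiY, one_mul]
    have hPconj : ∀ t, P t → P (y * t * y⁻¹) := by
      rintro t ⟨h1, h3⟩
      refine ⟨hconj t h1, ?_⟩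
      show ((y * t * y⁻¹ : GL (Fin 4) F) : Matrix (Fin 4) (Fin 4) F) * (s₀ : Matrix (Fin 4) (Fin 4) F) =
        -((s₀ : Matrix (Fin 4) (Fin 4) F) * ((y * t * y⁻¹ : GL (Fin 4) F) : Matrix (Fin 4) (Fin 4) F))
      rw [Units.val_mul, Units.val_mul]
      calc (y : Matrix (Fin 4) (Fin 4) F) * (t : Matrix (Fin 4) (Fin 4) F) *
            ((y⁻¹ : GL (Fin 4) F) : Matrix (Fin 4) (Fin 4) F) * (s₀ : Matrix (Fin 4) (Fin 4) F)
          = (y : Matrix (Fin 4) (Fin 4) F) * ((t : Matrix (Fin 4) (Fin 4) F) * (s₀ : Matrix (Fin 4) (Fin 4) F)) *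
            ((y⁻¹ : GL (Fin 4) F) : Matrix (Fin 4) (Fin 4) F) := by
            rw [mul_assoc ((y : Matrix (Fin 4) (Fin 4) F) * (t : Matrix (Fin 4) (Fin 4) F)), hYiS]
            simp only [mul_assoc]
        _ = -((y : Matrix (Fin 4) (Fin 4) F) * (s₀ : Matrix (Fin 4) (Fin 4) F) * (t : Matrix (Fin 4) (Fin 4) F) *
            ((y⁻¹ : GL (Fin 4) F) : Matrix (Fin 4) (Fin 4) F)) := by
            rw [h3]; simp only [mul_neg, neg_mul, mul_assoc]
        _ = -((s₀ : Matrix (Fin 4) (Fin 4) F) * ((y : Matrix (Fin 4) (Fin 4) F) * (t : Matrix (Fin 4) (Fin 4) F) *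
            ((y⁻¹ : GL (Fin 4) F) : Matrix (Fin 4) (Fin 4) F))) := by
            rw [hYS]; simp only [mul_assoc]
    have h := h31_s60_fix_mod P r y hPconj hyr
    have e1 : {t : GL (Fin 4) F // t ∈ R ∧ (t : Matrix (Fin 4) (Fin 4) F) * (s₀ : Matrix (Fin 4) (Fin 4) F) = -((s₀ : Matrix (Fin 4) (Fin 4) F) * (t : Matrix (Fin 4) (Fin 4) F)) ∧ y * t = t * y} ≃
        {t : GL (Fin 4) F // P t ∧ y * t = t * y} :=
      Equiv.subtypeEquivRight (fun t => by
        show _ ↔ (t ∈ R ∧ _) ∧ _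
        rw [and_assoc])
    rw [Nat.card_congr e1, h]

end Cfsg.Agent.Lib.helper89.S60
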