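import Mathlib

set_option autoImplicit false

/-!
# S0999 piece AR3 (`exc_degree_arith`) for helper21's Brauer–Reynolds split.
File owner: namespace Cfsg.Agent.Lib.helper31 (unused); the theorem is declared in the
architect's namespace, as the split requires.
-/

namespace Cfsg.Agent.Lib.helper21.BR

/-- AR3 -/
theorem exc_degree_arith (p e t f : ℕ) (hp : p.Prime) (het : e * t = p - 1) (he : 2 ≤ e)
    (ht : 2 ≤ t) (hdvd : f ∣ p * (p - 1) * (p - e)) (hlt : f ^ 2 < p * (p - 1) * (p - e))
    (s : ℤ) (hs : s = 1 ∨ s = -1) (hmod : (p : ℤ) ∣ (f : ℤ) - s * e) :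
    (s = 1 ∧ f = e) ∨ (s = -1 ∧ f = p - e) := by
  have hp2 := hp.two_le
  have hpet : p = e * t + 1 := by omega
  have he2t : e * 2 ≤ e * t := Nat.mul_le_mul_left e ht
  have he_lt : e < p := by omega
  have hpz : (0 : ℤ) < p := by exact_mod_cast hp.pos
  have hpne : (p : ℤ) ≠ 0 := ne_of_gt hpz
  have hez : (e : ℤ) < p := by exact_mod_cast he_lt
  have hez2 : (2 : ℤ) ≤ e := by exact_mod_cast he
  have hpe_nat : ¬ p ∣ e := fun h => by
    have := Nat.le_of_dvd (by omega) h
    omega
  have hpe : IsCoprime (p : ℤ) (e : ℤ) :=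
    Nat.isCoprime_iff_coprime.mpr ((Nat.Prime.coprime_iff_not_dvd hp).mpr hpe_nat)
  have hpf : ¬ p ∣ f := by
    intro h
    have h1 : (p : ℤ) ∣ (f : ℤ) := by exact_mod_cast h
    have h2 : (p : ℤ) ∣ s * e := by
      have := dvd_sub h1 hmod
      simpa using this
    have h3 : (p : ℤ) ∣ (e : ℤ) := by
      rcases hs with rfl | rfl
      · simpa using h2
      · simpa using h2
    exact hpe_nat (by exact_mod_cast h3)
  have hcop : Nat.Coprime f p :=
    Nat.Coprime.symm ((Nat.Prime.coprime_iff_not_dvd hp).mpr hpf)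
  have hdvd2 : f ∣ (p - 1) * (p - e) := by
    have : f ∣ p * ((p - 1) * (p - e)) := by rw [← mul_assoc]; exact hdvd
    exact hcop.dvd_of_dvd_mul_left this
  obtain ⟨k, hk⟩ := hdvd2
  have hpos : 0 < (p - 1) * (p - e) := Nat.mul_pos (by omega) (by omega)
  have hf0 : 0 < f := by
    rcases Nat.eq_zero_or_pos f with h | h
    · subst h; rw [zero_mul] at hk; omega
    · exact h
  have hk0 : 0 < k := by
    rcases Nat.eq_zero_or_pos k with h | h
    · subst h; rw [mul_zero] at hk; omega
    · exact h
  have hfz : (0 : ℤ) < f := by exact_mod_cast hf0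
  have hk0z : (0 : ℤ) < k := by exact_mod_cast hk0
  have hkz : ((p : ℤ) - 1) * ((p : ℤ) - e) = f * k := by
    have := congrArg (Nat.cast : ℕ → ℤ) hk
    rw [Nat.cast_mul, Nat.cast_mul, Nat.cast_sub (by omega), Nat.cast_sub (by omega)] at this
    simpa using this
  rcases hs with rfl | rfl
  · left
    refine ⟨rfl, ?_⟩
    obtain ⟨a0, ha0⟩ := hmod
    have ha0' : (f : ℤ) = p * a0 + e := by linarith
    have ha00 : 0 ≤ a0 := by
      by_contra hneg
      have h1 := mul_le_mul_of_nonneg_left (show a0 ≤ -1 by omega) hpz.le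
      linarith
    have hk1 : (p : ℤ) ∣ (k : ℤ) - 1 := by
      have h1 : (p : ℤ) ∣ (e : ℤ) * ((k : ℤ) - 1) := by
        refine ⟨p - e - 1 - a0 * k, ?_⟩
        rw [ha0'] at hkz
        linear_combination -hkz
      exact hpe.dvd_of_dvd_mul_left h1
    obtain ⟨j, hj⟩ := hk1
    have hj0 : 0 ≤ j := by
      by_contra hneg
      have h1 := mul_le_mul_of_nonneg_left (show j ≤ -1 by omega) hpz.le
      linarith
    have hkk : (k : ℤ) = p * j + 1 := by linarith
    have hid : a0 + j * a0 * p + j * e = p - e - 1 := by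
      have : (p : ℤ) * (a0 + j * a0 * p + j * e) = p * (p - e - 1) := by
        rw [ha0', hkk] at hkz
        linear_combination -hkz
      exact mul_left_cancel₀ hpne this
    rcases eq_or_lt_of_le hj0 with hj00 | hjpos
    · exfalso
      have hk1 : k = 1 := by
        have : (k : ℤ) = 1 := by rw [← hj00] at hkk; linarith
        exact_mod_cast this
      subst hk1
      rw [mul_one] at hk
      have h1 : f < p := by
        have h0 : f ^ 2 < p * f := by rw [mul_assoc, hk] at hlt; exact hlt
        by_contra hge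
        have h9 := Nat.mul_le_mul_right f (show p ≤ f by omega)
        rw [pow_two] at h0
        omega
      have h2 : 2 ≤ p - e := by omega
      have h3 : (p - 1) * 2 ≤ (p - 1) * (p - e) := Nat.mul_le_mul_left _ h2
      omega
    · have ha00' : a0 = 0 := by
        by_contra hne
        have h1 : 1 ≤ a0 := by omega
        have hja : (1 : ℤ) ≤ j * a0 := one_le_mul_of_one_le_of_one_le (by omega) h1
        have h2 : (p : ℤ) ≤ j * a0 * p := le_mul_of_one_le_left hpz.le hja
        have h3 : (0 : ℤ) ≤ j * e := mul_nonneg hjpos.le (by linarith)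
        linarith
      subst ha00'
      have : (f : ℤ) = e := by simpa using ha0'
      exact_mod_cast this
  · right
    refine ⟨rfl, ?_⟩
    obtain ⟨a0, ha0⟩ := hmod
    have ha0' : (f : ℤ) = p * a0 - e := by linarith
    have ha00 : 0 < a0 := by
      by_contra hneg
      have h1 := mul_nonpos_of_nonneg_of_nonpos hpz.le (show a0 ≤ 0 by omega)
      linarith
    have hk1 : (p : ℤ) ∣ (k : ℤ) + 1 := by
      have h1 : (p : ℤ) ∣ (e : ℤ) * ((k : ℤ) + 1) := by
        refine ⟨a0 * k - p + e + 1, ?_⟩
        rw [ha0'] at hkz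
        linear_combination hkz
      exact hpe.dvd_of_dvd_mul_left h1
    obtain ⟨j, hj⟩ := hk1
    have hj0 : 0 < j := by
      by_contra hneg
      have h1 := mul_nonpos_of_nonneg_of_nonpos hpz.le (show j ≤ 0 by omega)
      linarith
    have hkk : (k : ℤ) = p * j - 1 := by linarith
    have hid : a0 * (j * p - 1) = p - 1 + e * (j - 1) := by
      have : (p : ℤ) * (a0 * (j * p - 1)) = p * (p - 1 + e * (j - 1)) := by
        rw [ha0', hkk] at hkz
        linear_combination -hkz
      exact mul_left_cancel₀ hpne this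
    have hj1 : j = 1 := by
      by_contra hne
      have hj2 : 2 ≤ j := by omega
      have h0 : 2 * (p : ℤ) ≤ j * p := mul_le_mul_of_nonneg_right hj2 hpz.le
      have hjp : 0 < j * (p : ℤ) - 1 := by linarith
      have h1 : j * (p : ℤ) - 1 ≤ a0 * (j * p - 1) :=
        le_mul_of_one_le_left hjp.le (by omega)
      have h2 : (e : ℤ) * (j - 1) < p * (j - 1) :=
        mul_lt_mul_of_pos_right hez (by omega)
      linarith
    subst hj1
    have ha01 : a0 = 1 := by
      have hp1 : (p : ℤ) - 1 ≠ 0 := by
        have : (2 : ℤ) ≤ p := by exact_mod_cast hp2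
        linarith
      have : a0 * ((p : ℤ) - 1) = 1 * (p - 1) := by linarith
      exact mul_right_cancel₀ hp1 this
    subst ha01
    have h1 : (f : ℤ) + e = p := by linarith
    have h2 : f + e = p := by exact_mod_cast h1
    omega

end Cfsg.Agent.Lib.helper21.BR
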