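import Mathlib

set_option autoImplicit false

/-!
# S0999 piece AR1 (`degX_arith`) for helper21's Brauer–Reynolds split.
File owner: namespace Cfsg.Agent.Lib.helper31 (unused); the theorem is declared in the
architect's namespace, as the split requires.
-/

namespace Cfsg.Agent.Lib.helper21.BR

/-- AR1 -/
theorem degX_arith (p e t n x : ℕ) (hp : p.Prime) (het : e * t = p - 1) (he : 2 ≤ e) (ht : 2 ≤ t)
    (hen : e * n < p) (hx : x ∣ e * (1 + n * p)) (s : ℤ) (hs : s = 1 ∨ s = -1)
    (hmod : (p : ℤ) ∣ (x : ℤ) - s) :
    (s = 1 ∧ (x = 1 ∨ x = 1 + n * p)) ∨ (s = -1 ∧ x = p - 1 ∧ n + 1 = t) := by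
  have hp2 := hp.two_le
  have hpet : p = e * t + 1 := by omega
  have he2t : e * 2 ≤ e * t := Nat.mul_le_mul_left e ht
  have he_lt : e < p := by omega
  have hpz : (0 : ℤ) < p := by exact_mod_cast hp.pos
  have hez : (e : ℤ) < p := by exact_mod_cast he_lt
  obtain ⟨k, hk⟩ := hx
  have hprod : 0 < e * (1 + n * p) := Nat.mul_pos (by omega) (by omega)
  have hx0 : 0 < x := by
    rcases Nat.eq_zero_or_pos x with h | h
    · subst h; rw [zero_mul] at hk; omega
    · exact h
  have hk0 : 0 < k := by
    rcases Nat.eq_zero_or_pos k with h | h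
    · subst h; rw [mul_zero] at hk; omega
    · exact h
  have hxz : (0 : ℤ) < x := by exact_mod_cast hx0
  have hkz : (0 : ℤ) < k := by exact_mod_cast hk0
  have hk' : (e : ℤ) * (1 + n * p) = x * k := by exact_mod_cast hk
  rcases hs with rfl | rfl
  · left
    refine ⟨rfl, ?_⟩
    obtain ⟨a, ha⟩ := hmod
    have ha0 : 0 ≤ a := by
      by_contra hneg
      have h1 := mul_le_mul_of_nonneg_left (show a ≤ -1 by omega) hpz.le
      linarith
    lift a to ℕ using ha0
    have hxa : x = 1 + p * a := by
      have : (x : ℤ) = 1 + p * a := by linarith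
      exact_mod_cast this
    subst hxa
    rcases Nat.eq_zero_or_pos a with h | h
    · left; subst h; rfl
    · right
      have hke : (p : ℤ) ∣ (k : ℤ) - e := by
        refine ⟨(e : ℤ) * n - a * k, ?_⟩
        push_cast at hk'
        linear_combination -hk'
      obtain ⟨j, hj⟩ := hke
      have hj0 : 0 ≤ j := by
        by_contra hneg
        have h1 := mul_le_mul_of_nonneg_left (show j ≤ -1 by omega) hpz.le
        linarith
      lift j to ℕ using hj0
      have hkj : k = e + p * j := by
        have : (k : ℤ) = e + p * j := by linarith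
        exact_mod_cast this
      subst hkj
      rcases Nat.eq_zero_or_pos j with h0 | h0
      · subst h0
        rw [mul_zero, add_zero] at hk
        have he0 : 0 < e := by omega
        have h1 : 1 + n * p = 1 + p * a :=
          Nat.eq_of_mul_eq_mul_left he0 (by rw [hk]; ring)
        have h2 : p * a = n * p := by omega
        rw [h2]
      · exfalso
        have h1 : e * n * p < p * p := Nat.mul_lt_mul_of_pos_right hen hp.pos
        have h2 : (1 + p) * (e + p) ≤ (1 + p * a) * (e + p * j) :=
          Nat.mul_le_mul (by have := Nat.le_mul_of_pos_right p h; omega)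
            (by have := Nat.le_mul_of_pos_right p h0; omega)
        have h3 : (1 + p) * (e + p) = e + p + p * e + p * p := by ring
        have h4 : e * (1 + n * p) = e + e * n * p := by ring
        have h5 : 0 ≤ p * e := Nat.zero_le _
        omega
  · right
    refine ⟨rfl, ?_⟩
    obtain ⟨a, ha⟩ := hmod
    have ha0 : 0 < a := by
      by_contra hneg
      have h1 := mul_nonpos_of_nonneg_of_nonpos hpz.le (show a ≤ 0 by omega)
      linarith
    have hxa : (x : ℤ) = p * a - 1 := by linarith
    have hke : (p : ℤ) ∣ (k : ℤ) + e := by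
      refine ⟨a * k - e * n, ?_⟩
      rw [hxa] at hk'
      linear_combination hk'
    obtain ⟨j, hj⟩ := hke
    have hez0 : (0 : ℤ) ≤ e := by positivity
    have hj0 : 0 < j := by
      by_contra hneg
      have h1 := mul_nonpos_of_nonneg_of_nonpos hpz.le (show j ≤ 0 by omega)
      linarith
    have hkj : (k : ℤ) = p * j - e := by linarith
    have hmain : j * (a * p - 1) = e * (a + n) := by
      have hpne : (p : ℤ) ≠ 0 := ne_of_gt hpz
      have : (p : ℤ) * (j * (a * p - 1)) = p * (e * (a + n)) := by
        rw [hxa, hkj] at hk'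
        linear_combination -hk'
      exact mul_left_cancel₀ hpne this
    have hpetz : (p : ℤ) = e * t + 1 := by exact_mod_cast hpet
    have hez2 : (2 : ℤ) ≤ e := by exact_mod_cast he
    have htz2 : (2 : ℤ) ≤ t := by exact_mod_cast ht
    have henz : (e : ℤ) * n < p := by exact_mod_cast hen
    have hnz : (0 : ℤ) ≤ n := by positivity
    have h2 : (e : ℤ) * 2 ≤ e * t := mul_le_mul_of_nonneg_left htz2 hez0
    have ha1 : a = 1 := by
      by_contra hne
      have ha2 : 2 ≤ a := by omega
      have h0 : 2 * (p : ℤ) ≤ a * p := mul_le_mul_of_nonneg_right ha2 hpz.le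
      have hap : 0 < a * (p : ℤ) - 1 := by linarith
      have h1 : a * (p : ℤ) - 1 ≤ j * (a * p - 1) :=
        le_mul_of_one_le_left hap.le (by omega)
      have h3 : a * ((p : ℤ) - e) ≤ e * n + 1 := by linarith
      have h4 : 2 * ((p : ℤ) - e) ≤ a * (p - e) :=
        mul_le_mul_of_nonneg_right ha2 (by linarith)
      linarith
    subst ha1
    have hjt : j * t = 1 + n := by
      have hene : (e : ℤ) ≠ 0 := by linarith
      have : (e : ℤ) * (j * t) = e * (1 + n) := by
        rw [hpetz] at hmain
        linear_combination hmain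
      exact mul_left_cancel₀ hene this
    have hj1 : j = 1 := by
      by_contra hne
      have hj2 : 2 ≤ j := by omega
      have h1 : 2 * (t : ℤ) ≤ j * t := mul_le_mul_of_nonneg_right hj2 (by linarith)
      have h3 : (e : ℤ) * (2 * t - 1) ≤ e * n :=
        mul_le_mul_of_nonneg_left (by linarith) hez0
      linarith
    subst hj1
    refine ⟨?_, ?_⟩
    · have h5 : (x : ℤ) + 1 = p := by linarith
      have h6 : x + 1 = p := by exact_mod_cast h5
      omega
    · have h5 : (n : ℤ) + 1 = t := by linarith
      exact_mod_cast h5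

end Cfsg.Agent.Lib.helper21.BR
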