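import Mathlib
import Cfsg.Prelude
import Cfsg.Agent.Lib.helper31.FHT2

/-!
# Feit–Hall–Thompson local analysis for minimal simple CN-groups of odd order, part 3

Conjugacy of maximal nilpotent subgroups sharing a prime, transitivity of the commuting relation
on primes, and the partition of the order of `G` by the subgroups `fittingHallOf M`.
-/

set_option autoImplicit false

namespace Cfsg.Agent.Lib.helper31

open Cfsg

universe u

variable {G : Type u} [Group G] [Finite G]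

/-- two maximal nilpotent subgroups are conjugate or have coprime orders -/
theorem maxnilp_conj_or_coprime (hCN : Cfsg.IsCNGroup G) (H₁ H₂ : Subgroup G)
    (hH₁ : Group.IsNilpotent H₁)
    (hmax₁ : ∀ L : Subgroup G, Group.IsNilpotent L → H₁ ≤ L → L = H₁)
    (hH₂ : Group.IsNilpotent H₂)
    (hmax₂ : ∀ L : Subgroup G, Group.IsNilpotent L → H₂ ≤ L → L = H₂) :
    (∃ g : G, H₂ = H₁.map (MulAut.conj g).toMonoidHom) ∨
      (Nat.card H₁).Coprime (Nat.card H₂) := by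
  by_cases hcop : (Nat.card H₁).Coprime (Nat.card H₂)
  · exact Or.inr hcop
  left
  obtain ⟨p, hp, hpd1, hpd2⟩ := Nat.Prime.not_coprime_iff_dvd.mp hcop
  have hpf := Fact.mk hp
  obtain ⟨P₁, hP₁⟩ := Cfsg.Agent.S1477.exists_sylow_le hCN H₁ hH₁ hmax₁ p hp hpd1
  obtain ⟨P₂, hP₂⟩ := Cfsg.Agent.S1477.exists_sylow_le hCN H₂ hH₂ hmax₂ p hp hpd2
  obtain ⟨g, hg⟩ := MulAction.exists_smul_eq G P₁ P₂
  refine ⟨g, ?_⟩
  obtain ⟨hHg, hmaxg⟩ := maxnilp_conj hH₁ hmax₁ g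
  have hP₂1 : (P₂ : Subgroup G) ≠ ⊥ :=
    Sylow.ne_bot_of_dvd_card P₂ (hpd2.trans (Subgroup.card_subgroup_dvd_card H₂))
  have hle : (P₂ : Subgroup G) ≤ H₁.map (MulAut.conj g).toMonoidHom := by
    rw [← hg]
    exact Subgroup.map_mono hP₁
  exact maxnilp_unique hCN H₂ _ hH₂ hmax₂ hHg hmaxg P₂ hP₂1 hP₂ hle

omit [Finite G] in
theorem prime_dvd_card_of_mem {H : Subgroup G} {y : G} (hy : y ∈ H) (hy1 : y ≠ 1) {q : ℕ}
    (hq : q.Prime) (hyq : IsPGroup q (Subgroup.zpowers y)) : q ∣ Nat.card H := by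
  obtain ⟨k, hk⟩ := hyq ⟨y, Subgroup.mem_zpowers y⟩
  have hk' : y ^ (q ^ k) = 1 := congrArg Subtype.val hk
  have h1 : orderOf y ∣ q ^ k := orderOf_dvd_of_pow_eq_one hk'
  obtain ⟨j, -, hj⟩ := (Nat.dvd_prime_pow hq).mp h1
  have hj0 : j ≠ 0 := by
    intro h0
    rw [h0, pow_zero] at hj
    exact hy1 (orderOf_eq_one_iff.mp hj)
  have h2 : q ∣ orderOf y := by rw [hj]; exact dvd_pow_self q hj0
  have h3 := orderOf_dvd_natCard (⟨y, hy⟩ : H)
  rw [Subgroup.orderOf_mk] at h3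
  exact h2.trans h3

/-- the commuting relation on primes is transitive -/
theorem commuting_transitive (hCN : Cfsg.IsCNGroup G)
    (p q r : ℕ) (hp : p.Prime) (hq : q.Prime) (hr : r.Prime) (x y y' z : G)
    (hx1 : x ≠ 1) (hy1 : y ≠ 1) (hy'1 : y' ≠ 1) (hz1 : z ≠ 1)
    (hx : IsPGroup p (Subgroup.zpowers x)) (hy : IsPGroup q (Subgroup.zpowers y))
    (hy' : IsPGroup q (Subgroup.zpowers y')) (hz : IsPGroup r (Subgroup.zpowers z))
    (hxy : x * y = y * x) (hyz : y' * z = z * y') :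
    ∃ x' z' : G, x' ≠ 1 ∧ z' ≠ 1 ∧ IsPGroup p (Subgroup.zpowers x') ∧
      IsPGroup r (Subgroup.zpowers z') ∧ x' * z' = z' * x' := by
  obtain ⟨H₁, hK₁, hH₁, hmax₁⟩ := exists_maxnilp_ge _ (hCN x hx1)
  obtain ⟨H₂, hK₂, hH₂, hmax₂⟩ := exists_maxnilp_ge _ (hCN z hz1)
  have hxH : x ∈ H₁ := hK₁ (Subgroup.mem_centralizer_singleton_iff.mpr rfl)
  have hyH : y ∈ H₁ := hK₁ (Subgroup.mem_centralizer_singleton_iff.mpr hxy.symm)
  have hzH : z ∈ H₂ := hK₂ (Subgroup.mem_centralizer_singleton_iff.mpr rfl)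
  have hy'H : y' ∈ H₂ := hK₂ (Subgroup.mem_centralizer_singleton_iff.mpr hyz)
  have hp1 := prime_dvd_card_of_mem hxH hx1 hp hx
  have hq1 := prime_dvd_card_of_mem hyH hy1 hq hy
  have hq2 := prime_dvd_card_of_mem hy'H hy'1 hq hy'
  have hr2 := prime_dvd_card_of_mem hzH hz1 hr hz
  have hr1 : r ∣ Nat.card H₁ := by
    rcases maxnilp_conj_or_coprime hCN H₁ H₂ hH₁ hmax₁ hH₂ hmax₂ with ⟨g, hg⟩ | hcop
    · rw [hg, Subgroup.card_map_of_injective (MulAut.conj g).injective] at hr2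
      exact hr2
    · exact absurd hcop (Nat.Prime.not_coprime_iff_dvd.mpr ⟨q, hq, hq1, hq2⟩)
  have hpf := Fact.mk hp
  have hrf := Fact.mk hr
  obtain ⟨⟨x', hx'H⟩, hx'o⟩ := exists_prime_orderOf_dvd_card' p hp1
  have hx'o' : orderOf x' = p := by
    rw [← hx'o]; exact (Subgroup.orderOf_mk x' hx'H).symm
  have hx'1 : x' ≠ 1 := by
    intro h
    rw [h, orderOf_one] at hx'o'
    exact hp.ne_one hx'o'.symm
  have hx'p : x' ^ (p ^ 1) = 1 := by
    rw [pow_one, ← hx'o']; exact pow_orderOf_eq_one x'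
  by_cases hpr : p = r
  · subst hpr
    exact ⟨x', x', hx'1, hx'1, Cfsg.Agent.S1473.isPGroup_zpowers hx'p,
      Cfsg.Agent.S1473.isPGroup_zpowers hx'p, rfl⟩
  · obtain ⟨⟨z', hz'H⟩, hz'o⟩ := exists_prime_orderOf_dvd_card' r hr1
    have hz'o' : orderOf z' = r := by
      rw [← hz'o]; exact (Subgroup.orderOf_mk z' hz'H).symm
    have hz'1 : z' ≠ 1 := by
      intro h
      rw [h, orderOf_one] at hz'o'
      exact hr.ne_one hz'o'.symm
    have hz'r : z' ^ (r ^ 1) = 1 := by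
      rw [pow_one, ← hz'o']; exact pow_orderOf_eq_one z'
    exact ⟨x', z', hx'1, hz'1, Cfsg.Agent.S1473.isPGroup_zpowers hx'p,
      Cfsg.Agent.S1473.isPGroup_zpowers hz'r,
      Cfsg.Agent.S1477.sub_commute hH₁ hp hr hpr hx'H hz'H hx'p hz'r⟩

/-- a maximal nilpotent subgroup is determined by its normalizer -/
theorem maxnilp_eq_of_normalizer_eq (hG : Cfsg.IsMinSimpleOddOrder G) (hCN : Cfsg.IsCNGroup G)
    (H₁ H₂ : Subgroup G) (hH₁ : Group.IsNilpotent H₁)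
    (hmax₁ : ∀ L : Subgroup G, Group.IsNilpotent L → H₁ ≤ L → L = H₁)
    (hH₂ : Group.IsNilpotent H₂)
    (hmax₂ : ∀ L : Subgroup G, Group.IsNilpotent L → H₂ ≤ L → L = H₂)
    (h : Subgroup.normalizer (H₁ : Set G) = Subgroup.normalizer (H₂ : Set G)) : H₁ = H₂ := by
  obtain ⟨-, h1, -⟩ := maxnilp_master hG hCN H₁ hH₁ hmax₁
  obtain ⟨-, h2, -⟩ := maxnilp_master hG hCN H₂ hH₂ hmax₂
  rw [← h1, ← h2, h]

/-- **The subgroups `fittingHallOf M`, `M` running over representatives of the conjugacy classes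
of maximal subgroups, partition the order and the elements of `G`.** -/
theorem fittingHallOf_partition (hG : Cfsg.IsMinSimpleOddOrder G) (hCN : Cfsg.IsCNGroup G)
    (k : ℕ) (Mrep : Fin k → Subgroup G) (hmax : ∀ i, IsCoatom (Mrep i))
    (hnc : ∀ i j, i ≠ j → ∀ g : G, Mrep j ≠ (Mrep i).map (MulAut.conj g).toMonoidHom)
    (hall : ∀ M : Subgroup G, IsCoatom M →
      ∃ i, ∃ g : G, M = (Mrep i).map (MulAut.conj g).toMonoidHom) :
    (∀ i j, i ≠ j → (Nat.card (Cfsg.fittingHallOf (Mrep i))).Coprime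
        (Nat.card (Cfsg.fittingHallOf (Mrep j)))) ∧
      ∏ i, Nat.card (Cfsg.fittingHallOf (Mrep i)) = Nat.card G ∧
      ∀ x : G, ∃ i, ∃ g : G, g * x * g⁻¹ ∈ Cfsg.fittingHallOf (Mrep i) := by
  have hM : ∀ i, Group.IsNilpotent (Cfsg.fittingHallOf (Mrep i)) ∧
      (∀ L : Subgroup G, Group.IsNilpotent L → Cfsg.fittingHallOf (Mrep i) ≤ L →
        L = Cfsg.fittingHallOf (Mrep i)) ∧
      Subgroup.normalizer (Cfsg.fittingHallOf (Mrep i) : Set G) = Mrep i := by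
    intro i
    obtain ⟨h1, h2, h3, -⟩ := coatom_master hG hCN (Mrep i) (hmax i)
    exact ⟨h1, h2, h3⟩
  -- every maximal nilpotent subgroup is conjugate to some `fittingHallOf (Mrep i)`
  have hconj : ∀ H : Subgroup G, Group.IsNilpotent H →
      (∀ L : Subgroup G, Group.IsNilpotent L → H ≤ L → L = H) →
      ∃ i, ∃ g : G, H = (Cfsg.fittingHallOf (Mrep i)).map (MulAut.conj g).toMonoidHom := by
    intro H hH hmaxH
    obtain ⟨hco, -, -⟩ := maxnilp_master hG hCN H hH hmaxH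
    obtain ⟨i, g, hig⟩ := hall _ hco
    refine ⟨i, g, ?_⟩
    obtain ⟨hi1, hi2, hi3⟩ := hM i
    obtain ⟨hHg, hmaxg⟩ := maxnilp_conj hi1 hi2 g
    apply maxnilp_eq_of_normalizer_eq hG hCN H _ hH hmaxH hHg hmaxg
    rw [hig, ← Subgroup.map_equiv_normalizer_eq, hi3]
  have hcop : ∀ i j, i ≠ j → (Nat.card (Cfsg.fittingHallOf (Mrep i))).Coprime
      (Nat.card (Cfsg.fittingHallOf (Mrep j))) := by
    intro i j hij
    obtain ⟨hi1, hi2, hi3⟩ := hM i
    obtain ⟨hj1, hj2, hj3⟩ := hM j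
    rcases maxnilp_conj_or_coprime hCN _ _ hi1 hi2 hj1 hj2 with ⟨g, hg⟩ | hc
    · exfalso
      apply hnc i j hij g
      rw [← hj3, hg, ← Subgroup.map_equiv_normalizer_eq, hi3]
    · exact hc
  refine ⟨hcop, ?_, ?_⟩
  · have hdvd : ∏ i, Nat.card (Cfsg.fittingHallOf (Mrep i)) ∣ Nat.card G := by
      apply Fintype.prod_dvd_of_isRelPrime
      · intro i j hij
        exact Nat.coprime_iff_isRelPrime.mp (hcop i j hij)
      · intro i
        exact Subgroup.card_subgroup_dvd_card _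
    obtain ⟨c, hc⟩ := hdvd
    have hG0 : Nat.card G ≠ 0 := Nat.card_pos.ne'
    by_cases hc1 : c = 1
    · rw [hc, hc1, mul_one]
    exfalso
    obtain ⟨p, hp, hpc⟩ := Nat.exists_prime_and_dvd hc1
    have hpf := Fact.mk hp
    obtain ⟨P⟩ : Nonempty (Sylow p G) := inferInstance
    obtain ⟨H, hPH, hH, hmaxH⟩ := exists_maxnilp_ge _ P.isPGroup'.isNilpotent
    obtain ⟨i, g, hig⟩ := hconj H hH hmaxH
    have h1 : Nat.card (P : Subgroup G) ∣ Nat.card (Cfsg.fittingHallOf (Mrep i)) := by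
      have h2 := Subgroup.card_dvd_of_le hPH
      rwa [hig, Subgroup.card_map_of_injective (MulAut.conj g).injective] at h2
    have h3 : Nat.card (P : Subgroup G) ∣ ∏ i, Nat.card (Cfsg.fittingHallOf (Mrep i)) :=
      h1.trans (Finset.dvd_prod_of_mem _ (Finset.mem_univ i))
    rw [Sylow.card_eq_multiplicity] at h3
    apply Nat.pow_succ_factorization_not_dvd hG0 hp
    rw [pow_succ]
    conv_rhs => rw [hc]
    exact Nat.mul_dvd_mul h3 hpc
  · intro x
    obtain ⟨H, hxH, hH, hmaxH⟩ : ∃ H : Subgroup G, x ∈ H ∧ Group.IsNilpotent H ∧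
        ∀ L : Subgroup G, Group.IsNilpotent L → H ≤ L → L = H := by
      by_cases hx1 : x = 1
      · obtain ⟨H, -, hH, hmaxH⟩ := exists_maxnilp_ge (⊥ : Subgroup G) inferInstance
        exact ⟨H, hx1 ▸ one_mem H, hH, hmaxH⟩
      · obtain ⟨H, hK, hH, hmaxH⟩ := exists_maxnilp_ge _ (hCN x hx1)
        exact ⟨H, hK (Subgroup.mem_centralizer_singleton_iff.mpr rfl), hH, hmaxH⟩
    obtain ⟨i, g, hig⟩ := hconj H hH hmaxH
    rw [hig] at hxH
    obtain ⟨h, hh, hhx⟩ := hxH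
    refine ⟨i, g⁻¹, ?_⟩
    rw [← hhx]
    simp only [MulEquiv.coe_toMonoidHom, MulAut.conj_apply]
    have h4 : g⁻¹ * (g * h * g⁻¹) * g⁻¹⁻¹ = h := by group
    rw [h4]
    exact hh

end Cfsg.Agent.Lib.helper31
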