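import Mathlib
import Cfsg.Agent.Lib.helper95.APDefs

/-! S2276 piece CAT3 (helper31), core: all cycles of length 3; the pieces M3A, M3B, M3C, RED, SYM
enter as hypotheses. -/

set_option autoImplicit false

namespace Cfsg.Agent.Lib.helper95.AP

open Equiv

theorem helper31_cat3_core
    (hm3a : ∃ a b : Perm (Fin 5), a.cycleType = {3} ∧ b.cycleType = {3} ∧ GoodBoth 3 a b)
    (hm3b : ∃ a b : Perm (Fin 6), a.cycleType = {3, 3} ∧ b.cycleType = {3, 3} ∧ GoodBoth 3 a b)
    (hm3c : ∃ a b : Perm (Fin 6), a.cycleType = {3, 3} ∧ b.cycleType = {3} ∧ GoodBoth 3 a b)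
    (hred : ∀ {n m : ℕ} (U W : Perm (Fin n)) (a b : Perm (Fin m)),
      a.cycleType ≤ U.cycleType → m - a.support.card ≤ n - U.support.card →
      b.cycleType ≤ W.cycleType → m - b.support.card ≤ n - W.support.card →
      GoodBoth 3 a b → ∃ g : Perm (Fin n), Perm.sign g = 1 ∧ Good 3 U (g * W * g⁻¹))
    (hsym : ∀ {n : ℕ} (U W : Perm (Fin n)),
      (∃ g : Perm (Fin n), Perm.sign g = 1 ∧ Good 3 W (g * U * g⁻¹)) →
      ∃ g : Perm (Fin n), Perm.sign g = 1 ∧ Good 3 U (g * W * g⁻¹))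
    (n : ℕ) (hn : 5 ≤ n) (U W : Perm (Fin n)) (hU : U ≠ 1) (hW : W ≠ 1)
    (hU3 : ∀ c ∈ U.cycleType, c = 3) (hW3 : ∀ c ∈ W.cycleType, c = 3) :
    ∃ g : Perm (Fin n), Perm.sign g = 1 ∧ Good 3 U (g * W * g⁻¹) := by
  have key : ∀ V : Perm (Fin n), V ≠ 1 → (∀ c ∈ V.cycleType, c = 3) →
      ∃ k, 1 ≤ k ∧ V.cycleType = Multiset.replicate k 3 ∧ V.support.card = 3 * k ∧
        3 * k ≤ n := by
    intro V hV hV3
    have hrep : V.cycleType = Multiset.replicate (Multiset.card V.cycleType) 3 :=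
      Multiset.eq_replicate_card.2 hV3
    have hs : V.support.card = 3 * Multiset.card V.cycleType := by
      rw [← Equiv.Perm.sum_cycleType]
      conv_lhs => rw [hrep]
      rw [Multiset.sum_replicate, smul_eq_mul, mul_comm]
    refine ⟨Multiset.card V.cycleType, ?_, hrep, hs, ?_⟩
    · rw [Nat.one_le_iff_ne_zero, Ne, Multiset.card_eq_zero, Equiv.Perm.cycleType_eq_zero]
      exact hV
    · have h1 : V.support.card ≤ Fintype.card (Fin n) := Finset.card_le_univ _
      rw [Fintype.card_fin] at h1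
      rw [← hs]
      exact h1
  obtain ⟨k, hk1, hUc, hUs, hUn⟩ := key U hU hU3
  obtain ⟨k', hk'1, hWc, hWs, hWn⟩ := key W hW hW3
  have h1le : ∀ j, 1 ≤ j → ({3} : Multiset ℕ) ≤ Multiset.replicate j 3 := by
    intro j hj
    have h : ({3} : Multiset ℕ) = Multiset.replicate 1 3 := rfl
    rw [h]
    exact (Multiset.replicate_le_replicate 3).2 hj
  have h2le : ∀ j, 2 ≤ j → ({3, 3} : Multiset ℕ) ≤ Multiset.replicate j 3 := by
    intro j hj
    have h : ({3, 3} : Multiset ℕ) = Multiset.replicate 2 3 := rfl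
    rw [h]
    exact (Multiset.replicate_le_replicate 3).2 hj
  have hs1 : ∀ {m : ℕ} (a : Perm (Fin m)), a.cycleType = {3} → a.support.card = 3 := by
    intro m a h
    rw [← Equiv.Perm.sum_cycleType, h]
    rfl
  have hs2 : ∀ {m : ℕ} (a : Perm (Fin m)), a.cycleType = {3, 3} → a.support.card = 6 := by
    intro m a h
    rw [← Equiv.Perm.sum_cycleType, h]
    rfl
  by_cases hk2 : 2 ≤ k <;> by_cases hk'2 : 2 ≤ k'
  · obtain ⟨a, b, ha, hb, hg⟩ := hm3b
    exact hred U W a b (by rw [ha, hUc]; exact h2le k hk2) (by rw [hs2 a ha]; omega)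
      (by rw [hb, hWc]; exact h2le k' hk'2) (by rw [hs2 b hb]; omega) hg
  · obtain ⟨a, b, ha, hb, hg⟩ := hm3c
    have hk' : k' = 1 := by omega
    exact hred U W a b (by rw [ha, hUc]; exact h2le k hk2) (by rw [hs2 a ha]; omega)
      (by rw [hb, hWc]; exact h1le k' hk'1) (by rw [hs1 b hb, hWs, hk']; omega) hg
  · obtain ⟨a, b, ha, hb, hg⟩ := hm3c
    have hk : k = 1 := by omega
    apply hsym
    exact hred W U a b (by rw [ha, hWc]; exact h2le k' hk'2) (by rw [hs2 a ha]; omega)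
      (by rw [hb, hUc]; exact h1le k hk1) (by rw [hs1 b hb, hUs, hk]; omega) hg
  · obtain ⟨a, b, ha, hb, hg⟩ := hm3a
    have hk : k = 1 := by omega
    have hk' : k' = 1 := by omega
    exact hred U W a b (by rw [ha, hUc]; exact h1le k hk1) (by rw [hs1 a ha, hUs, hk]; omega)
      (by rw [hb, hWc]; exact h1le k' hk'1) (by rw [hs1 b hb, hWs, hk']; omega) hg

end Cfsg.Agent.Lib.helper95.AP
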