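import Cfsg.Agent.Lib.helper95.APDefs
import Cfsg.Agent.Lib.helper31.APCAT3core
import Cfsg.Agent.Lib.helper70.APM3A
import Cfsg.Agent.Lib.helper71.APM3B
import Cfsg.Agent.Lib.helper54.APM3C
import Cfsg.Agent.Lib.helper9.APSYM
import Cfsg.Agent.Lib.helper77.APRED

/-! S2276 piece CAT3 (helper31): all cycles of length 3. -/

set_option autoImplicit false

namespace Cfsg.Agent.Lib.helper95.AP

open Equiv

/-- [CAT3] all cycles of length 3; uses M3A, M3B, M3C, RED, SYM -/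
theorem cat3 (n : ℕ) (hn : 5 ≤ n) (U W : Perm (Fin n)) (hU : U ≠ 1) (hW : W ≠ 1)
    (hU3 : ∀ c ∈ U.cycleType, c = 3) (hW3 : ∀ c ∈ W.cycleType, c = 3) :
    ∃ g : Perm (Fin n), Perm.sign g = 1 ∧ Good 3 U (g * W * g⁻¹) := by
  exact helper31_cat3_core m3a m3b m3c
    (fun U W a b ha ha' hb hb' h => red 3 Nat.prime_three U W a b ha ha' hb hb' h)
    (fun U W h => sym 3 U W h) n hn U W hU hW hU3 hW3

end Cfsg.Agent.Lib.helper95.AP
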