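import Mathlib

set_option autoImplicit false

/-!
# S0999 piece AR5 (`fs_arith`) for helper21's Brauer–Reynolds split.
File owner: namespace Cfsg.Agent.Lib.helper31 (unused); the theorem is declared in the
architect's namespace, as the split requires.
-/

namespace Cfsg.Agent.Lib.helper21.BR

/-- AR5 -/
theorem fs_arith (p e t a O : ℕ) (het : e * t = p - 1) (hea : e = 2 + a * t) (ha : 1 ≤ a)
    (ht : 3 ≤ t)
    (hO : p * O + (1 + a * (1 + (t - 1) * p) ^ 2 + (a * (t - 1) + 1) * (p - 1) ^ 2 +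
      t * (p - e) ^ 2) ≤ p * (p - 1) * (p - e)) :
    1 + a * (1 + (t - 1) * p) + (a * (t - 1) + 1) * (p - 1) + t * (p - e) + O <
      1 + p * (p - e) := by
  obtain ⟨b, rfl⟩ : ∃ b, a = b + 1 := ⟨a - 1, by omega⟩
  obtain ⟨w, rfl⟩ : ∃ w, t = w + 3 := ⟨t - 3, by omega⟩
  have het0 : 0 < e * (w + 3) := by
    subst hea; positivity
  have hp : p = e * (w + 3) + 1 := by omega
  have h1 : w + 3 - 1 = w + 2 := rfl
  have h2 : p - 1 = e * (w + 3) := by omega
  have h3 : p - e = e * (w + 2) + 1 := by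
    have : e * (w + 3) = e * (w + 2) + e := by ring
    omega
  rw [h1, h2, h3] at hO
  rw [h1, h2, h3]
  have hid : (1 + (b + 1) * (1 + (w + 2) * p) ^ 2 +
      ((b + 1) * (w + 2) + 1) * (e * (w + 3)) ^ 2 +
      (w + 3) * (e * (w + 2) + 1) ^ 2) + (w + 2) * p * p =
      p * (e * (w + 3)) * (e * (w + 2) + 1) := by
    subst hp; subst hea; ring
  have hO2 : p * O ≤ p * ((w + 2) * p) := by
    have : p * ((w + 2) * p) = (w + 2) * p * p := by ring
    linarith
  have hO3 : O ≤ (w + 2) * p := Nat.le_of_mul_le_mul_left hO2 (by omega)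
  have key : (b + 1) * (1 + (w + 2) * p) + ((b + 1) * (w + 2) + 1) * (e * (w + 3)) +
      (w + 3) * (e * (w + 2) + 1) + (w + 2) * p +
      (b^2*w^4 + 9*b^2*w^3 + 29*b^2*w^2 + 39*b^2*w + 18*b^2 + 2*b*w^4 + 20*b*w^3 +
        71*b*w^2 + 104*b*w + 51*b + w^4 + 11*w^3 + 42*w^2 + 65*w + 33) =
      p * (e * (w + 2) + 1) := by
    subst hp; subst hea; ring
  have hpos : 0 < b^2*w^4 + 9*b^2*w^3 + 29*b^2*w^2 + 39*b^2*w + 18*b^2 + 2*b*w^4 + 20*b*w^3 +
        71*b*w^2 + 104*b*w + 51*b + w^4 + 11*w^3 + 42*w^2 + 65*w + 33 := by positivity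
  linarith

end Cfsg.Agent.Lib.helper21.BR
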