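import Mathlib
import Cfsg.Prelude.Def_Classical
import Cfsg.Prelude.Def_GeometricClasses

/-! S5977B piece KFROB (helper31, racer copy): in the field `K` of order `q^2` some `k` has
`k^(q^j) - k` invertible, `j` odd. -/

set_option autoImplicit false

namespace Cfsg.Agent.Lib.helper96.FE

open Polynomial

/-- a finite commutative domain with `q ^ 2` elements has an element with `k ^ (q ^ j) ≠ k`, `j` odd -/
theorem helper31_kfrob_aux {R : Type*} [CommRing R] [IsDomain R] [Finite R] (q j : ℕ) (hq : 2 ≤ q)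
    (hcard : Nat.card R = q ^ 2) (hj : Odd j) : ∃ k : R, k ^ (q ^ j) - k ≠ 0 := by
  classical
  haveI : Fintype R := Fintype.ofFinite R
  have hpow : ∀ k : R, k ^ (q ^ 2) = k := by
    intro k
    letI : Field R := Fintype.fieldOfDomain R
    have h := FiniteField.pow_card k
    rw [← Nat.card_eq_fintype_card, hcard] at h
    exact h
  -- some `k` with `k ^ q ≠ k`
  have hex : ∃ k : R, k ^ q - k ≠ 0 := by
    by_contra hcon
    push Not at hcon
    have hdeg : (X ^ q - X : R[X]).natDegree = q := by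
      have h1 : (X : R[X]).natDegree < (X ^ q : R[X]).natDegree := by
        rw [natDegree_X_pow, natDegree_X]; omega
      rw [natDegree_sub_eq_left_of_natDegree_lt h1, natDegree_X_pow]
    have hzero : (X ^ q - X : R[X]) = 0 := by
      apply eq_zero_of_natDegree_lt_card_of_eval_eq_zero' (X ^ q - X : R[X]) Finset.univ
      · intro i _
        rw [eval_sub, eval_pow, eval_X]
        exact hcon i
      · rw [hdeg, Finset.card_univ, ← Nat.card_eq_fintype_card, hcard]
        nlinarith
    rw [hzero, natDegree_zero] at hdeg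
    omega
  obtain ⟨k, hk⟩ := hex
  refine ⟨k, ?_⟩
  obtain ⟨i, rfl⟩ := hj
  have hev : ∀ i : ℕ, k ^ (q ^ (2 * i)) = k := by
    intro i
    induction i with
    | zero => simp
    | succ i ih =>
      have : q ^ (2 * (i + 1)) = q ^ (2 * i) * q ^ 2 := by ring
      rw [this, pow_mul, ih, hpow]
  have : q ^ (2 * i + 1) = q ^ (2 * i) * q := by ring
  rw [this, pow_mul, hev]
  exact hk

/-- KFROB (M), racer copy -/
theorem helper31_fe_Kfrob {F : Type*} [Field F] [Fintype F] {ι : Type} [Fintype ι] [DecidableEq ι]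
    (K : Subalgebra F (Matrix ι ι F)) (hK : Cfsg.Geo.IsFieldSubalgebra 2 K) (j : ℕ) (hj : Odd j) :
    ∃ k ∈ K, ∃ k' ∈ K, (k ^ (Fintype.card F ^ j) - k) * k' = 1 := by
  classical
  let instCR : CommRing ↥K :=
    { (inferInstance : Ring ↥K) with
      mul_comm := fun a b => Subtype.ext (hK.comm a.1 a.2 b.1 b.2) }
  have hfin : Finite ↥K := Finite.of_injective (fun k : ↥K => (k : Matrix ι ι F)) Subtype.val_injective
  have hnt : Nontrivial ↥K := by
    apply Module.nontrivial_of_finrank_pos (R := F)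
    rw [hK.finrank_eq]; norm_num
  have hnzd : ∀ a b : ↥K, a * b = 0 → a = 0 ∨ b = 0 := by
    intro a b hab
    by_cases ha : a = 0
    · exact Or.inl ha
    · right
      have ha' : (a : Matrix ι ι F) ≠ 0 := fun h => ha (Subtype.ext h)
      obtain ⟨y, hyK, hy⟩ := hK.inv a.1 a.2 ha'
      have hya : y * (a : Matrix ι ι F) = 1 := by rw [← hK.comm a.1 a.2 y hyK]; exact hy
      have hab' : (a : Matrix ι ι F) * (b : Matrix ι ι F) = 0 := congrArg Subtype.val hab
      apply Subtype.ext
      show (b : Matrix ι ι F) = 0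
      calc (b : Matrix ι ι F) = (y * (a : Matrix ι ι F)) * (b : Matrix ι ι F) := by
            rw [hya, one_mul]
        _ = y * ((a : Matrix ι ι F) * (b : Matrix ι ι F)) := by rw [mul_assoc]
        _ = 0 := by rw [hab', mul_zero]
  have hdom : @IsDomain ↥K instCR.toSemiring :=
    @NoZeroDivisors.to_isDomain ↥K instCR.toRing hnt ⟨fun {a b} h => hnzd a b h⟩
  have hcard : Nat.card ↥K = Fintype.card F ^ 2 := by
    haveI : Module.Finite F ↥K := Module.Finite.of_finite
    rw [Module.natCard_eq_pow_finrank (K := F) (V := ↥K), hK.finrank_eq, Nat.card_eq_fintype_card]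
  have hq : 2 ≤ Fintype.card F := Fintype.one_lt_card
  obtain ⟨k, hk⟩ := @helper31_kfrob_aux ↥K instCR hdom hfin (Fintype.card F) j hq hcard hj
  have hk' : (k : Matrix ι ι F) ^ (Fintype.card F ^ j) - (k : Matrix ι ι F) ≠ 0 := by
    intro h
    apply hk
    apply Subtype.ext
    exact h
  have hmem : (k : Matrix ι ι F) ^ (Fintype.card F ^ j) - (k : Matrix ι ι F) ∈ K :=
    K.sub_mem (K.pow_mem k.2 _) k.2
  obtain ⟨k', hk'K, hk'1⟩ := hK.inv _ hmem hk'
  exact ⟨k.1, k.2, k', hk'K, hk'1⟩

end Cfsg.Agent.Lib.helper96.FE
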