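import Mathlib
import Cfsg.Prelude.Def_LieTypeChar
import Cfsg.Agent.Lib.helper44.LODefs
import Cfsg.Agent.Lib.helper6.LOARITH

/-!
S2363 split (architect helper44): generic core for the untwisted exceptional families, by helper31.
`|G| * c = q ^ N * ∏_{d ∈ ds} (q ^ d - 1)` with `c ∣ q - 1`-type cofactor.
-/

set_option autoImplicit false

namespace Cfsg.Agent.Lib.helper44.LO

open Cfsg

/-- `∏ (q ^ d - 1) ≤ q ^ (∑ d)`. -/
theorem h31_lo_prod_le (q : ℕ) (ds : List ℕ) :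
    (ds.map (fun d => q ^ d - 1)).prod ≤ q ^ ds.sum := by
  induction ds with
  | nil => simp
  | cons a l ih =>
    rw [List.map_cons, List.prod_cons, List.sum_cons, pow_add]
    exact Nat.mul_le_mul (Nat.sub_le _ _) ih

/-- `∏ (q ^ d - 1) < q ^ (∑ d)` for a nonempty list. -/
theorem h31_lo_prod_lt (q : ℕ) (hq : 1 ≤ q) (a : ℕ) (l : List ℕ) :
    ((a :: l).map (fun d => q ^ d - 1)).prod < q ^ (a :: l).sum := by
  rw [List.map_cons, List.prod_cons, List.sum_cons, pow_add]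
  have h1 : q ^ a - 1 < q ^ a := Nat.sub_lt (pow_pos hq _) Nat.one_pos
  exact Nat.mul_lt_mul_of_lt_of_le h1 (h31_lo_prod_le q l) (pow_pos hq _)

/-- `p ∣ q` does not divide `∏ (q ^ d - 1)`, all `d ≥ 1`. -/
theorem h31_lo_prod_not_dvd {p : ℕ} (hp : p.Prime) (q : ℕ) (hq : 1 ≤ q) (hpq : p ∣ q) (ds : List ℕ)
    (hds : ∀ d ∈ ds, 1 ≤ d) : ¬ p ∣ (ds.map (fun d => q ^ d - 1)).prod := by
  induction ds with
  | nil => simpa using hp.one_lt.ne'
  | cons a l ih =>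
    rw [List.map_cons, List.prod_cons]
    intro h
    rcases (Nat.Prime.dvd_mul hp).mp h with h1 | h1
    · have ha : 1 ≤ a := hds a List.mem_cons_self
      have h2 : p ∣ q ^ a := dvd_trans hpq (dvd_pow_self q (by omega))
      have h3 : p ∣ q ^ a - (q ^ a - 1) := Nat.dvd_sub h2 h1
      have h4 : q ^ a - (q ^ a - 1) = 1 := by
        have hqa : 0 < q ^ a := pow_pos (by omega) a
        omega
      rw [h4] at h3
      exact hp.one_lt.ne' (Nat.dvd_one.mp h3)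
    · exact ih (fun d hd => hds d (List.mem_cons_of_mem _ hd)) h1

/-- generic core: `c * n = q ^ N * ∏_{d ∈ a :: l} (q ^ d - 1)`, `q = p ^ f`, `c ≥ 1` prime to `p`. -/
theorem h31_lo_chev_core {p : ℕ} (hp : p.Prime) (f : ℕ) (hf : 1 ≤ f) (c n N : ℕ) (a : ℕ) (l : List ℕ)
    (hds : ∀ d ∈ a :: l, 1 ≤ d)
    (hc : c * n = (p ^ f) ^ N * ((a :: l).map (fun d => (p ^ f) ^ d - 1)).prod)
    (hc1 : 1 ≤ c) (hcp : ¬ p ∣ c)
    (h1 : (a :: l).sum ≤ 2 * N) (h2 : 3 * (a :: l).sum ≤ 5 * N) : LOGood p n := by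
  have hq : 1 ≤ p ^ f := pow_pos hp.pos _
  have hpq : p ∣ p ^ f := dvd_pow_self p (by omega)
  refine lo_good hp f hf c n N _ ((a :: l).sum) hc hcp
    (h31_lo_prod_not_dvd hp (p ^ f) hq hpq (a :: l) hds) ?_ h1 h2
  calc ((a :: l).map (fun d => (p ^ f) ^ d - 1)).prod < (p ^ f) ^ (a :: l).sum :=
        h31_lo_prod_lt (p ^ f) hq a l
    _ = 1 * (p ^ f) ^ (a :: l).sum := (one_mul _).symm
    _ ≤ c * (p ^ f) ^ (a :: l).sum := Nat.mul_le_mul_right _ hc1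

/-- E8 core: the order formula as a hypothesis. -/
theorem h31_lo_e8_core {p : ℕ} (hp : p.Prime) (f : ℕ) (hf : 1 ≤ f) (n : ℕ)
    (h : n = (p ^ f) ^ 120 * ((p ^ f) ^ 2 - 1) * ((p ^ f) ^ 8 - 1) * ((p ^ f) ^ 12 - 1) *
      ((p ^ f) ^ 14 - 1) * ((p ^ f) ^ 18 - 1) * ((p ^ f) ^ 20 - 1) * ((p ^ f) ^ 24 - 1) *
      ((p ^ f) ^ 30 - 1)) : LOGood p n := by
  refine h31_lo_chev_core hp f hf 1 n 120 2 [8, 12, 14, 18, 20, 24, 30] ?_ ?_ le_rfl
    (by simpa using hp.one_lt.ne') (by norm_num) (by norm_num)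
  · intro d hd
    simp only [List.mem_cons, List.not_mem_nil, or_false] at hd
    omega
  · rw [one_mul, h]
    simp only [List.map_cons, List.map_nil, List.prod_cons, List.prod_nil, mul_one]
    ring

/-- E7 core. -/
theorem h31_lo_e7_core {p : ℕ} (hp : p.Prime) (f : ℕ) (hf : 1 ≤ f) (n : ℕ)
    (h : Nat.gcd 2 (p ^ f - 1) * n = (p ^ f) ^ 63 * ((p ^ f) ^ 2 - 1) * ((p ^ f) ^ 6 - 1) *
      ((p ^ f) ^ 8 - 1) * ((p ^ f) ^ 10 - 1) * ((p ^ f) ^ 12 - 1) * ((p ^ f) ^ 14 - 1) *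
      ((p ^ f) ^ 18 - 1)) : LOGood p n := by
  have hq : 1 ≤ p ^ f := pow_pos hp.pos _
  have hpq : p ∣ p ^ f := dvd_pow_self p (by omega)
  refine h31_lo_chev_core hp f hf (Nat.gcd 2 (p ^ f - 1)) n 63 2 [6, 8, 10, 12, 14, 18] ?_ ?_
    (Nat.gcd_pos_of_pos_left _ (by norm_num)) ?_ (by norm_num) (by norm_num)
  · intro d hd
    simp only [List.mem_cons, List.not_mem_nil, or_false] at hd
    omega
  · rw [h]
    simp only [List.map_cons, List.map_nil, List.prod_cons, List.prod_nil, mul_one]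
    ring
  · intro hd
    have h3 : p ∣ p ^ f - 1 := dvd_trans hd (Nat.gcd_dvd_right _ _)
    have h4 : p ∣ p ^ f - (p ^ f - 1) := Nat.dvd_sub hpq h3
    have h5 : p ^ f - (p ^ f - 1) = 1 := by omega
    rw [h5] at h4
    exact hp.one_lt.ne' (Nat.dvd_one.mp h4)

/-- E6 core. -/
theorem h31_lo_e6_core {p : ℕ} (hp : p.Prime) (f : ℕ) (hf : 1 ≤ f) (n : ℕ)
    (h : Nat.gcd 3 (p ^ f - 1) * n = (p ^ f) ^ 36 * ((p ^ f) ^ 2 - 1) * ((p ^ f) ^ 5 - 1) *
      ((p ^ f) ^ 6 - 1) * ((p ^ f) ^ 8 - 1) * ((p ^ f) ^ 9 - 1) * ((p ^ f) ^ 12 - 1)) :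
    LOGood p n := by
  have hq : 1 ≤ p ^ f := pow_pos hp.pos _
  have hpq : p ∣ p ^ f := dvd_pow_self p (by omega)
  refine h31_lo_chev_core hp f hf (Nat.gcd 3 (p ^ f - 1)) n 36 2 [5, 6, 8, 9, 12] ?_ ?_
    (Nat.gcd_pos_of_pos_left _ (by norm_num)) ?_ (by norm_num) (by norm_num)
  · intro d hd
    simp only [List.mem_cons, List.not_mem_nil, or_false] at hd
    omega
  · rw [h]
    simp only [List.map_cons, List.map_nil, List.prod_cons, List.prod_nil, mul_one]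
    ring
  · intro hd
    have h3 : p ∣ p ^ f - 1 := dvd_trans hd (Nat.gcd_dvd_right _ _)
    have h4 : p ∣ p ^ f - (p ^ f - 1) := Nat.dvd_sub hpq h3
    have h5 : p ^ f - (p ^ f - 1) = 1 := by omega
    rw [h5] at h4
    exact hp.one_lt.ne' (Nat.dvd_one.mp h4)

/-- F4 core. -/
theorem h31_lo_f4_core {p : ℕ} (hp : p.Prime) (f : ℕ) (hf : 1 ≤ f) (n : ℕ)
    (h : n = (p ^ f) ^ 24 * ((p ^ f) ^ 2 - 1) * ((p ^ f) ^ 6 - 1) * ((p ^ f) ^ 8 - 1) *
      ((p ^ f) ^ 12 - 1)) : LOGood p n := by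
  refine h31_lo_chev_core hp f hf 1 n 24 2 [6, 8, 12] ?_ ?_ le_rfl
    (by simpa using hp.one_lt.ne') (by norm_num) (by norm_num)
  · intro d hd
    simp only [List.mem_cons, List.not_mem_nil, or_false] at hd
    omega
  · rw [one_mul, h]
    simp only [List.map_cons, List.map_nil, List.prod_cons, List.prod_nil, mul_one]
    ring

/-- G2 core. -/
theorem h31_lo_g2_core {p : ℕ} (hp : p.Prime) (f : ℕ) (hf : 1 ≤ f) (n : ℕ)
    (h : n = (p ^ f) ^ 6 * ((p ^ f) ^ 2 - 1) * ((p ^ f) ^ 6 - 1)) : LOGood p n := by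
  refine h31_lo_chev_core hp f hf 1 n 6 2 [6] ?_ ?_ le_rfl
    (by simpa using hp.one_lt.ne') (by norm_num) (by norm_num)
  · intro d hd
    simp only [List.mem_cons, List.not_mem_nil, or_false] at hd
    omega
  · rw [one_mul, h]
    simp only [List.map_cons, List.map_nil, List.prod_cons, List.prod_nil, mul_one]
    ring

end Cfsg.Agent.Lib.helper44.LO
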