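import Mathlib
import Cfsg.Prelude.Def_GeometricClasses

/-!
S5977 / S5978 block C (helper2's split), piece KAPPA, racer copy by helper31.
-/

set_option autoImplicit false

namespace Cfsg.Agent.Lib.helper2

open Cfsg.Geo Matrix

/-- matrix-level core: a 2-dimensional field subalgebra is `F·1 + F·k` for some `k ∈ K` outside `F·1`. -/
theorem h31_kappa_pair {F : Type*} [Field F] {ι : Type} [Fintype ι] [DecidableEq ι]
    (K : Subalgebra F (Matrix ι ι F)) (hfr : Module.finrank F K = 2) :
    ∃ k ∈ K, (∀ c : F, c • (1 : Matrix ι ι F) ≠ k) ∧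
      ∀ x ∈ K, ∃ a b : F, x = a • (1 : Matrix ι ι F) + b • k := by
  classical
  haveI : Nontrivial K := Module.nontrivial_of_finrank_pos (R := F) (by omega)
  have h1K : (1 : K) ≠ 0 := one_ne_zero
  have hex : ∃ k0 : K, ∀ c : F, c • (1 : K) ≠ k0 := by
    by_contra hcon
    push_neg at hcon
    have := (finrank_eq_one_iff_of_nonzero' (1 : K) h1K).mpr hcon
    omega
  obtain ⟨k0, hk0⟩ := hex
  have hli : LinearIndependent F ![(1 : K), k0] := by
    rw [LinearIndependent.pair_iff]
    intro s t hst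
    have ht : t = 0 := by
      by_contra ht
      apply hk0 (-(s / t))
      have h3 : t • k0 = -(s • (1 : K)) := by
        rw [eq_neg_iff_add_eq_zero, add_comm]; exact hst
      have h4 : k0 = t⁻¹ • (t • k0) := by rw [smul_smul, inv_mul_cancel₀ ht, one_smul]
      rw [h4, h3, smul_neg, smul_smul, neg_smul, div_eq_inv_mul]
    subst ht
    rw [zero_smul, add_zero] at hst
    refine ⟨?_, rfl⟩
    by_contra hs
    apply h1K
    have h5 : (1 : K) = s⁻¹ • (s • (1 : K)) := by rw [smul_smul, inv_mul_cancel₀ hs, one_smul]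
    rw [h5, hst, smul_zero]
  have hspan : Submodule.span F (Set.range ![(1 : K), k0]) = ⊤ :=
    hli.span_eq_top_of_card_eq_finrank' (by simp [hfr])
  refine ⟨(k0 : Matrix ι ι F), k0.2, ?_, ?_⟩
  · intro c hc
    apply hk0 c
    apply Subtype.ext
    rw [Subalgebra.coe_smul, Subalgebra.coe_one]
    exact hc
  · intro x hx
    have hmem : (⟨x, hx⟩ : K) ∈ Submodule.span F (Set.range ![(1 : K), k0]) := by
      rw [hspan]; exact Submodule.mem_top
    rw [Matrix.range_cons_cons_empty, Submodule.mem_span_pair] at hmem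
    obtain ⟨a, b, hab⟩ := hmem
    refine ⟨a, b, ?_⟩
    have := congrArg (Subtype.val) hab
    simp only [Subalgebra.coe_add, Subalgebra.coe_smul, Subalgebra.coe_one] at this
    exact this.symm

/-- KAPPA (racer copy, helper31) -/
theorem h31_qfc_kappa {F : Type*} [Field F] {ι : Type} [Fintype ι] [DecidableEq ι]
    (h2 : (2 : F) ≠ 0) (K : Subalgebra F (Matrix ι ι F)) (hK : IsFieldSubalgebra 2 K) :
    ∃ κ ∈ K, ∃ δ : F, (∀ r : F, r ^ 2 ≠ δ + 0 * r) ∧ κ * κ = δ • (1 : Matrix ι ι F) ∧
      ∀ k ∈ K, ∃ a b : F, k = a • (1 : Matrix ι ι F) + b • κ := by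
  classical
  obtain ⟨k, hkK, hnot, hrep⟩ := h31_kappa_pair K hK.finrank_eq
  obtain ⟨t, s, hkk⟩ := hrep (k * k) (K.mul_mem hkK hkK)
  obtain ⟨h, hs⟩ : ∃ h : F, s = 2 * h := ⟨s / 2, by field_simp⟩
  subst hs
  have h1K : (1 : Matrix ι ι F) ∈ K := K.one_mem
  have hκK : k - h • (1 : Matrix ι ι F) ∈ K := K.sub_mem hkK (K.smul_mem h1K h)
  have hκκ : (k - h • (1 : Matrix ι ι F)) * (k - h • (1 : Matrix ι ι F)) =
      (t + h * h) • (1 : Matrix ι ι F) := by
    rw [sub_mul, mul_sub, mul_sub]
    simp only [smul_mul_assoc, mul_smul_comm, one_mul, mul_one, smul_smul]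
    rw [hkk]
    module
  refine ⟨k - h • (1 : Matrix ι ι F), hκK, t + h * h, ?_, hκκ, ?_⟩
  · intro r hr
    rw [zero_mul, add_zero] at hr
    have hprod : (k - h • (1 : Matrix ι ι F) - r • (1 : Matrix ι ι F)) *
        (k - h • (1 : Matrix ι ι F) + r • (1 : Matrix ι ι F)) = 0 := by
      have : (k - h • (1 : Matrix ι ι F) - r • (1 : Matrix ι ι F)) *
        (k - h • (1 : Matrix ι ι F) + r • (1 : Matrix ι ι F)) =
          (k - h • (1 : Matrix ι ι F)) * (k - h • (1 : Matrix ι ι F)) -
            (r ^ 2) • (1 : Matrix ι ι F) := by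
        rw [sub_mul, mul_add, mul_add]
        simp only [smul_mul_assoc, mul_smul_comm, one_mul, mul_one, smul_smul]
        module
      rw [this, hκκ, hr, sub_self]
    by_cases hz : k - h • (1 : Matrix ι ι F) - r • (1 : Matrix ι ι F) = 0
    · apply hnot (h + r)
      have : k = h • (1 : Matrix ι ι F) + r • (1 : Matrix ι ι F) := by
        rw [sub_sub, sub_eq_zero] at hz; exact hz
      rw [this, add_smul]
    · have hmK : k - h • (1 : Matrix ι ι F) - r • (1 : Matrix ι ι F) ∈ K :=
        K.sub_mem hκK (K.smul_mem h1K r)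
      obtain ⟨y, hyK, hy⟩ := hK.inv _ hmK hz
      have hy' : y * (k - h • (1 : Matrix ι ι F) - r • (1 : Matrix ι ι F)) = 1 := by
        rw [hK.comm y hyK _ hmK]; exact hy
      have hzero : k - h • (1 : Matrix ι ι F) + r • (1 : Matrix ι ι F) = 0 := by
        calc k - h • (1 : Matrix ι ι F) + r • (1 : Matrix ι ι F)
            = (y * (k - h • (1 : Matrix ι ι F) - r • (1 : Matrix ι ι F))) *
                (k - h • (1 : Matrix ι ι F) + r • (1 : Matrix ι ι F)) := by rw [hy', one_mul]
          _ = 0 := by rw [mul_assoc, hprod, mul_zero]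
      apply hnot (h - r)
      have : k = h • (1 : Matrix ι ι F) - r • (1 : Matrix ι ι F) := by
        have h6 := eq_neg_of_add_eq_zero_left hzero
        rw [sub_eq_iff_eq_add] at h6
        rw [h6]; abel
      rw [this, sub_smul]
  · intro x hx
    obtain ⟨a, b, hab⟩ := hrep x hx
    refine ⟨a + b * h, b, ?_⟩
    rw [hab]
    module

end Cfsg.Agent.Lib.helper2
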