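import Mathlib
import Cfsg.Agent.Lib.helper45.RUDefs

/-! S2279 split (architect helper45), piece A1 (`three_comm`), written by helper31 (the
architect's namespace `Cfsg.Agent.Lib.helper45.RU` is mandated; nothing is declared in
`namespace Cfsg.Agent.Lib.helper31`; auxiliaries carry the prefix `h31_`).
Abstract 3x3 nilpotent computation: `[[D1, D2], D1] = 1 - c^3 E_31`. -/

set_option autoImplicit false
set_option linter.unusedSimpArgs false
set_option linter.unusedVariables false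

namespace Cfsg.Agent.Lib.helper45.RU

open Matrix Cfsg.Agent.Lib.helper44

variable {n : ℕ} {F : Type*} [Field F] {S : Set (Matrix (Fin n) (Fin n) F)}

/-- First commutator identity: `D1 * D2 = C * (D2 * D1)`. -/
theorem h31_comm_one (A B K E : Matrix (Fin n) (Fin n) F) (c : F)
    (hAB : A * B = 0) (hBA : B * A = K) (hKA : K * A = E) (hKB : K * B = 0) (hKK : K * K = 0)
    (hEA : E * A = 0) (hEB : E * B = 0) (hEK : E * K = 0) :
    (1 + c • A) * (1 + c • B) =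
      (1 - c ^ 2 • K + c ^ 3 • E) * ((1 + c • B) * (1 + c • A)) := by
  have h1 : (1 + c • A) * (1 + c • B) = 1 + c • A + c • B := by
    simp only [mul_add, add_mul, one_mul, mul_one, smul_mul_assoc, mul_smul_comm, hAB, smul_zero,
      add_zero]
  have h2 : (1 + c • B) * (1 + c • A) = 1 + c • A + c • B + c ^ 2 • K := by
    simp only [mul_add, add_mul, one_mul, mul_one, smul_mul_assoc, mul_smul_comm, hBA, smul_smul]
    module
  rw [h1, h2]
  simp only [mul_add, add_mul, sub_mul, one_mul, mul_one, smul_mul_assoc, mul_smul_comm, hKA, hKB,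
    hKK, hEA, hEB, hEK, smul_zero, smul_smul]
  module

/-- Second commutator identity: `C * D1 = T * (D1 * C)`. -/
theorem h31_comm_two (A K E : Matrix (Fin n) (Fin n) F) (c : F)
    (hKA : K * A = E) (hEA : E * A = 0) (hAK : A * K = 0) (hAE : A * E = 0) (hEK : E * K = 0)
    (hEE : E * E = 0) :
    (1 - c ^ 2 • K + c ^ 3 • E) * (1 + c • A) =
      (1 - c ^ 3 • E) * ((1 + c • A) * (1 - c ^ 2 • K + c ^ 3 • E)) := by
  have h1 : (1 + c • A) * (1 - c ^ 2 • K + c ^ 3 • E) = 1 + c • A - c ^ 2 • K + c ^ 3 • E := by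
    simp only [mul_add, add_mul, mul_sub, one_mul, mul_one, smul_mul_assoc, mul_smul_comm, hAK,
      hAE, smul_zero]
    module
  rw [h1]
  simp only [mul_add, add_mul, sub_mul, mul_sub, one_mul, mul_one, smul_mul_assoc, mul_smul_comm,
    hKA, hEA, hEK, hEE, smul_zero, smul_smul]
  module

/-- A1 -/
theorem three_comm (hS : MatGrp S) (a₁ a₂ a₃ φ₁ φ₂ φ₃ : Fin n → F) (ε ν c : F) (hε : ε * ε = 1)
    (h11 : φ₁ ⬝ᵥ a₁ = 0) (h12 : φ₁ ⬝ᵥ a₂ = 0) (h13 : φ₁ ⬝ᵥ a₃ = 0)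
    (h21 : φ₂ ⬝ᵥ a₁ = ε) (h22 : φ₂ ⬝ᵥ a₂ = 0) (h23 : φ₂ ⬝ᵥ a₃ = 0)
    (h31 : φ₃ ⬝ᵥ a₁ = ν) (h32 : φ₃ ⬝ᵥ a₂ = ε) (h33 : φ₃ ⬝ᵥ a₃ = 0)
    (hD1 : 1 + vecMulVec a₁ (c • φ₁) - vecMulVec a₂ (c • φ₂) ∈ S)
    (hD2 : 1 + vecMulVec a₂ (c • φ₂) - vecMulVec a₃ (c • φ₃) ∈ S) :
    1 + vecMulVec a₃ ((-(c ^ 3)) • φ₁) ∈ S := by
  have hmul : ∀ u v w x : Fin n → F,
      vecMulVec u v * vecMulVec w x = (v ⬝ᵥ w) • vecMulVec u x := by
    intro u v w x
    rw [vecMulVec_mul_vecMulVec, vecMulVec_smul]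
  obtain ⟨A, hA⟩ : ∃ A : Matrix (Fin n) (Fin n) F, A = vecMulVec a₁ φ₁ - vecMulVec a₂ φ₂ :=
    ⟨_, rfl⟩
  obtain ⟨B, hB⟩ : ∃ B : Matrix (Fin n) (Fin n) F, B = vecMulVec a₂ φ₂ - vecMulVec a₃ φ₃ :=
    ⟨_, rfl⟩
  obtain ⟨K, hK⟩ : ∃ K : Matrix (Fin n) (Fin n) F,
      K = ε • vecMulVec a₂ φ₁ - ν • vecMulVec a₃ φ₁ + ε • vecMulVec a₃ φ₂ := ⟨_, rfl⟩
  obtain ⟨E, hE⟩ : ∃ E : Matrix (Fin n) (Fin n) F, E = vecMulVec a₃ φ₁ := ⟨_, rfl⟩
  have hAB : A * B = 0 := by
    rw [hA, hB]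
    simp only [sub_mul, mul_sub, hmul, h12, h13, h22, h23, zero_smul, sub_zero]
  have hBA : B * A = K := by
    rw [hA, hB, hK]
    simp only [sub_mul, mul_sub, hmul, h21, h22, h31, h32, zero_smul, sub_zero]
    abel
  have hKA : K * A = E := by
    rw [hA, hK, hE]
    simp only [sub_mul, add_mul, mul_sub, smul_mul_assoc, hmul, h11, h12, h21, h22, zero_smul,
      smul_zero, sub_zero, add_zero, zero_add, smul_smul, hε, one_smul]
  have hKB : K * B = 0 := by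
    rw [hB, hK]
    simp only [sub_mul, add_mul, mul_sub, smul_mul_assoc, hmul, h12, h13, h22, h23, zero_smul,
      smul_zero, sub_zero, add_zero]
  have hKK : K * K = 0 := by
    rw [hK]
    simp only [sub_mul, add_mul, mul_sub, mul_add, smul_mul_assoc, mul_smul_comm, hmul, h12, h13,
      h22, h23, zero_smul, smul_zero, sub_zero, add_zero]
  have hEA : E * A = 0 := by
    rw [hA, hE]
    simp only [mul_sub, hmul, h11, h12, zero_smul, sub_zero]
  have hEB : E * B = 0 := by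
    rw [hB, hE]
    simp only [mul_sub, hmul, h12, h13, zero_smul, sub_zero]
  have hEK : E * K = 0 := by
    rw [hK, hE]
    simp only [mul_sub, mul_add, mul_smul_comm, hmul, h12, h13, zero_smul, smul_zero, sub_zero,
      add_zero]
  have hAK : A * K = 0 := by
    rw [hA, hK]
    simp only [sub_mul, mul_sub, mul_add, mul_smul_comm, hmul, h12, h13, h22, h23, zero_smul,
      smul_zero, sub_zero, add_zero]
  have hAE : A * E = 0 := by
    rw [hA, hE]
    simp only [sub_mul, hmul, h13, h23, zero_smul, sub_zero]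
  have hEE : E * E = 0 := by
    rw [hE]
    simp only [hmul, h13, zero_smul]
  have hD1' : 1 + c • A ∈ S := by
    have e : 1 + c • A = 1 + vecMulVec a₁ (c • φ₁) - vecMulVec a₂ (c • φ₂) := by
      rw [hA, vecMulVec_smul, vecMulVec_smul, smul_sub, add_sub_assoc]
    rw [e]
    exact hD1
  have hD2' : 1 + c • B ∈ S := by
    have e : 1 + c • B = 1 + vecMulVec a₂ (c • φ₂) - vecMulVec a₃ (c • φ₃) := by
      rw [hB, vecMulVec_smul, vecMulVec_smul, smul_sub, add_sub_assoc]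
    rw [e]
    exact hD2
  have hC : 1 - c ^ 2 • K + c ^ 3 • E ∈ S :=
    MatGrp_comm_mem hS hD1' hD2' (h31_comm_one A B K E c hAB hBA hKA hKB hKK hEA hEB hEK)
  have hT : 1 - c ^ 3 • E ∈ S :=
    MatGrp_comm_mem hS hC hD1' (h31_comm_two A K E c hKA hEA hAK hAE hEK hEE)
  have e : 1 + vecMulVec a₃ ((-(c ^ 3)) • φ₁) = 1 - c ^ 3 • E := by
    rw [hE, vecMulVec_smul, neg_smul, sub_eq_add_neg]
  rw [e]
  exact hT

end Cfsg.Agent.Lib.helper45.RU
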