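import Mathlib
import Cfsg.Agent.Lib.helper26.SylowGen
import Cfsg.Agent.Lib.helper37.S1238Defs

/-!
# S1238 piece E4 (`wreathed_of_cfg`) for helper37's split

In the configuration `Cfg S T z u y s` with `T ≅ Z_{2^n} × Z_{2^n}`, `n ≥ 2`, the Sylow 2-subgroup
`S = T⟨s⟩` is wreathed.
-/

set_option autoImplicit false

namespace Cfsg.Agent.Lib.helper31.S1238

open Cfsg Cfsg.Agent.Lib.helper37.S1238

/-- The 2-torsion of `ZMod (2 ^ n)`. -/
theorem h31_zmod_two_tors (n : ℕ) (hn : 1 ≤ n) (a : ZMod (2 ^ n)) (ha : a + a = 0) :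
    a = 0 ∨ a = ((2 ^ (n - 1) : ℕ) : ZMod (2 ^ n)) := by
  have : NeZero (2 ^ n) := ⟨by positivity⟩
  have hval : ((a.val : ℕ) : ZMod (2 ^ n)) = a := ZMod.natCast_zmod_val a
  have h1 : (((a.val + a.val : ℕ)) : ZMod (2 ^ n)) = 0 := by
    rw [Nat.cast_add, hval]; exact ha
  rw [ZMod.natCast_eq_zero_iff] at h1
  have hlt : a.val < 2 ^ n := ZMod.val_lt a
  have hpow : 2 ^ n = 2 * 2 ^ (n - 1) := by
    rw [← pow_succ']; congr 1; omega
  obtain ⟨c, hc⟩ := h1
  have hc' : a.val = 2 ^ (n - 1) * c := by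
    have h2 : 2 * a.val = 2 * (2 ^ (n - 1) * c) := by
      rw [two_mul, hc, hpow]; ring
    exact Nat.eq_of_mul_eq_mul_left (by norm_num) h2
  have hc2 : c < 2 := by
    by_contra hge
    have h3 : 2 ^ (n - 1) * 2 ≤ 2 ^ (n - 1) * c := Nat.mul_le_mul_left _ (by omega)
    omega
  interval_cases c
  · left; rw [← hval, hc']; simp
  · right; rw [← hval, hc']; simp

/-- An involution of a cyclic group of order `2 ^ n`. -/
theorem h31_invol_zpowers {G : Type*} [Group G] (x : G) (n : ℕ) (hn : 1 ≤ n)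
    (hx : orderOf x = 2 ^ n) (v : G) (hv : v ∈ Subgroup.zpowers x) (hvv : v * v = 1) :
    v = 1 ∨ v = x ^ (2 ^ (n - 1)) := by
  obtain ⟨k, rfl⟩ := Subgroup.mem_zpowers_iff.mp hv
  have h1 : x ^ (k + k) = 1 := by rw [zpow_add]; exact hvv
  have h2 : ((orderOf x : ℕ) : ℤ) ∣ k + k := orderOf_dvd_iff_zpow_eq_one.mpr h1
  rw [hx] at h2
  have hpow : (2 : ℤ) ^ n = 2 * 2 ^ (n - 1) := by
    rw [← pow_succ']; congr 1; omega
  push_cast at h2
  rw [hpow] at h2
  obtain ⟨c, hc⟩ := h2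
  have hk : k = 2 ^ (n - 1) * c := by linarith
  have hww : x ^ (2 ^ (n - 1)) * x ^ (2 ^ (n - 1)) = 1 := by
    rw [← pow_add, ← two_mul, ← pow_succ', show n - 1 + 1 = n by omega, ← hx, pow_orderOf_eq_one]
  have hxk : x ^ k = (x ^ (2 ^ (n - 1))) ^ c := by
    rw [hk, zpow_mul]
    congr 1
    exact_mod_cast zpow_natCast x (2 ^ (n - 1))
  rw [hxk]
  rcases Int.even_or_odd' c with ⟨d, rfl | rfl⟩
  · left
    rw [zpow_mul, zpow_two, hww, one_zpow]
  · right
    rw [zpow_add, zpow_mul, zpow_two, hww, one_zpow, one_mul, zpow_one]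

/-- Every involution of `Z_{2^n} × Z_{2^n}` is a `2^(n-1)`-th power. -/
theorem h31_root {T : Type*} [Group T] (n : ℕ) (hn : 1 ≤ n)
    (e : T ≃* Multiplicative (ZMod (2 ^ n) × ZMod (2 ^ n))) (v : T) (hv : v * v = 1) :
    ∃ x : T, x ^ (2 ^ (n - 1)) = v := by
  have : NeZero (2 ^ n) := ⟨by positivity⟩
  have h1 : Multiplicative.toAdd (e v) + Multiplicative.toAdd (e v) = 0 := by
    rw [← toAdd_mul, ← map_mul, hv, map_one, toAdd_one]
  have h1a : (Multiplicative.toAdd (e v)).1 + (Multiplicative.toAdd (e v)).1 = 0 :=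
    congrArg Prod.fst h1
  have h1b : (Multiplicative.toAdd (e v)).2 + (Multiplicative.toAdd (e v)).2 = 0 :=
    congrArg Prod.snd h1
  have key : ∀ a : ZMod (2 ^ n), a + a = 0 → ∃ a' : ZMod (2 ^ n), (2 ^ (n - 1)) • a' = a := by
    intro a ha
    rcases h31_zmod_two_tors n hn a ha with h | h
    · exact ⟨0, by rw [h, smul_zero]⟩
    · exact ⟨1, by rw [h, nsmul_one]⟩
  obtain ⟨a', ha'⟩ := key _ h1a
  obtain ⟨b', hb'⟩ := key _ h1b
  refine ⟨e.symm (Multiplicative.ofAdd (a', b')), ?_⟩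
  apply e.injective
  rw [map_pow, MulEquiv.apply_symm_apply, ← ofAdd_nsmul, Prod.smul_mk, ha', hb']
  rfl

/-- `Z_{2^n} × Z_{2^n}` has exactly three involutions. -/
theorem h31_invol {T : Type*} [Group T] (n : ℕ) (hn : 1 ≤ n)
    (e : T ≃* Multiplicative (ZMod (2 ^ n) × ZMod (2 ^ n))) (z u : T)
    (hzz : z * z = 1) (huu : u * u = 1) (hz1 : z ≠ 1) (hu1 : u ≠ 1) (huz : u ≠ z)
    (t : T) (ht : t * t = 1) : t = 1 ∨ t = z ∨ t = u ∨ t = z * u := by
  classical
  have : NeZero (2 ^ n) := ⟨by positivity⟩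
  have : Finite T := Finite.of_equiv _ e.symm.toEquiv
  have : Fintype T := Fintype.ofFinite T
  have hcomm : ∀ a b : T, a * b = b * a := fun a b =>
    e.injective (by rw [map_mul, map_mul, mul_comm])
  let φ : T → ZMod (2 ^ n) × ZMod (2 ^ n) := fun t => Multiplicative.toAdd (e t)
  have hφ : Function.Injective φ := fun a b hab =>
    e.injective (Multiplicative.toAdd.injective hab)
  let Q : Finset (ZMod (2 ^ n) × ZMod (2 ^ n)) :=
    ({0, ((2 ^ (n - 1) : ℕ) : ZMod (2 ^ n))} : Finset (ZMod (2 ^ n))) ×ˢ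
      ({0, ((2 ^ (n - 1) : ℕ) : ZMod (2 ^ n))} : Finset (ZMod (2 ^ n)))
  have hQ : Q.card ≤ 4 := by
    rw [Finset.card_product]
    have h2 := Finset.card_le_two (a := (0 : ZMod (2 ^ n)))
      (b := ((2 ^ (n - 1) : ℕ) : ZMod (2 ^ n)))
    nlinarith
  let Ω : Finset T := Finset.univ.filter (fun t : T => t * t = 1)
  have hΩQ : Ω.card ≤ Q.card := by
    apply Finset.card_le_card_of_injOn φ _ hφ.injOn
    intro t ht
    have htt : t * t = 1 := (Finset.mem_filter.mp (Finset.mem_coe.mp ht)).2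
    have h1 : φ t + φ t = 0 := by
      show Multiplicative.toAdd (e t) + Multiplicative.toAdd (e t) = 0
      rw [← toAdd_mul, ← map_mul, htt, map_one, toAdd_one]
    have h1a : (φ t).1 + (φ t).1 = 0 := congrArg Prod.fst h1
    have h1b : (φ t).2 + (φ t).2 = 0 := congrArg Prod.snd h1
    rw [Finset.mem_coe, Finset.mem_product]
    simp only [Finset.mem_insert, Finset.mem_singleton]
    exact ⟨h31_zmod_two_tors n hn _ h1a, h31_zmod_two_tors n hn _ h1b⟩
  let I : Finset T := {1, z, u, z * u}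
  have hI : I.card = 4 := by
    have h1 : (1 : T) ∉ ({z, u, z * u} : Finset T) := by
      simp only [Finset.mem_insert, Finset.mem_singleton, not_or]
      refine ⟨fun h => hz1 h.symm, fun h => hu1 h.symm, fun h => ?_⟩
      apply huz
      calc u = z * (z * u) := by rw [← mul_assoc, hzz, one_mul]
        _ = z := by rw [← h, mul_one]
    have h2 : z ∉ ({u, z * u} : Finset T) := by
      simp only [Finset.mem_insert, Finset.mem_singleton, not_or]
      exact ⟨fun h => huz h.symm, fun h => hu1 (mul_eq_left.mp h.symm)⟩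
    have h3 : u ∉ ({z * u} : Finset T) := by
      simp only [Finset.mem_singleton]
      intro h
      exact hz1 (mul_eq_right.mp h.symm)
    rw [Finset.card_insert_of_notMem h1, Finset.card_insert_of_notMem h2,
      Finset.card_insert_of_notMem h3, Finset.card_singleton]
  have hIΩ : I ⊆ Ω := by
    intro a ha
    simp only [I, Finset.mem_insert, Finset.mem_singleton] at ha
    apply Finset.mem_filter.mpr
    refine ⟨Finset.mem_univ _, ?_⟩
    rcases ha with ha | ha | ha | ha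
    · rw [ha, mul_one]
    · rw [ha]; exact hzz
    · rw [ha]; exact huu
    · rw [ha]
      calc z * u * (z * u) = z * (u * z) * u := by group
        _ = z * (z * u) * u := by rw [hcomm u z]
        _ = (z * z) * (u * u) := by group
        _ = 1 := by rw [hzz, huu, mul_one]
  have hEq : I = Ω :=
    Finset.eq_of_subset_of_card_le hIΩ (by rw [hI]; exact le_trans hΩQ hQ)
  have htΩ : t ∈ Ω := Finset.mem_filter.mpr ⟨Finset.mem_univ _, ht⟩
  rw [← hEq] at htΩ
  simpa [I] using htΩ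

/-- The stabilizer in `S` of the set `{u, z * u}` under conjugation (`z` a central involution). -/
def h31_stab {G : Type*} [Group G] (S : Subgroup G) (z u : G) (hzz : z * z = 1)
    (hzc : ∀ g ∈ S, g * z = z * g) : Subgroup G where
  carrier := {g | g ∈ S ∧ (g * u * g⁻¹ = u ∨ g * u * g⁻¹ = z * u)}
  one_mem' := ⟨Subgroup.one_mem _, Or.inl (by group)⟩
  mul_mem' := by
    rintro a b ⟨haS, ha⟩ ⟨hbS, hb⟩
    refine ⟨Subgroup.mul_mem _ haS hbS, ?_⟩
    have e1 : a * b * u * (a * b)⁻¹ = a * (b * u * b⁻¹) * a⁻¹ := by group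
    have hza : a * (z * u) * a⁻¹ = z * (a * u * a⁻¹) := by
      have h0 := hzc a haS
      calc a * (z * u) * a⁻¹ = (a * z) * u * a⁻¹ := by group
        _ = z * (a * u * a⁻¹) := by rw [h0]; group
    rw [e1]
    rcases hb with hb | hb
    · rw [hb]; exact ha
    · rw [hb, hza]
      rcases ha with ha | ha
      · right; rw [ha]
      · left; rw [ha, ← mul_assoc, hzz, one_mul]
  inv_mem' := by
    rintro a ⟨haS, ha⟩
    refine ⟨Subgroup.inv_mem _ haS, ?_⟩
    rw [inv_inv]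
    rcases ha with ha | ha
    · left
      calc a⁻¹ * u * a = a⁻¹ * (a * u * a⁻¹) * a := by rw [ha]
        _ = u := by group
    · right
      have hz' : a⁻¹ * z * a = z := by
        have h0 := hzc a haS
        calc a⁻¹ * z * a = a⁻¹ * (z * a) := by group
          _ = a⁻¹ * (a * z) := by rw [h0]
          _ = z := by group
      have h1 : a⁻¹ * (z * u) * a = u := by
        calc a⁻¹ * (z * u) * a = a⁻¹ * (a * u * a⁻¹) * a := by rw [ha]
          _ = u := by group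
      have h2 : a⁻¹ * (z * u) * a = z * (a⁻¹ * u * a) := by
        calc a⁻¹ * (z * u) * a = (a⁻¹ * z * a) * (a⁻¹ * u * a) := by group
          _ = z * (a⁻¹ * u * a) := by rw [hz']
      have h3 : z * (a⁻¹ * u * a) = u := by rw [← h2, h1]
      calc a⁻¹ * u * a = z * (z * (a⁻¹ * u * a)) := by rw [← mul_assoc, hzz, one_mul]
        _ = z * u := by rw [h3]

theorem h31_mem_stab {G : Type*} [Group G] (S : Subgroup G) (z u : G) (hzz : z * z = 1)
    (hzc : ∀ g ∈ S, g * z = z * g) (g : G) :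
    g ∈ h31_stab S z u hzz hzc ↔ g ∈ S ∧ (g * u * g⁻¹ = u ∨ g * u * g⁻¹ = z * u) := Iff.rfl

/-- PIECE E4. `T ≅ Z_{2^n}²`, `n ≥ 2`: `S = T⟨s⟩` is wreathed. -/
theorem wreathed_of_cfg {G : Type*} [Group G] [Finite G] (h2 : Cfsg.PRankLE 2 2 G) (S : Sylow 2 G)
    (T : Subgroup G) (z u y s : G) (h : Cfg (S : Subgroup G) T z u y s) (n : ℕ) (hn : 2 ≤ n)
    (e : ↥T ≃* Multiplicative (ZMod (2 ^ n) × ZMod (2 ^ n))) :
    Cfsg.IsWreathed (S : Subgroup G) := by
  classical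
  have : NeZero (2 ^ n) := ⟨by positivity⟩
  have : Fact (Nat.Prime 2) := ⟨Nat.prime_two⟩
  -- `T` is commutative
  have hTc : ∀ a ∈ T, ∀ b ∈ T, a * b = b * a := by
    intro a ha b hb
    have h0 := e.injective (show e (⟨a, ha⟩ * ⟨b, hb⟩) = e (⟨b, hb⟩ * ⟨a, ha⟩) by
      rw [map_mul, map_mul, mul_comm])
    exact congrArg Subtype.val h0
  -- the involutions of `T`
  have hinv : ∀ t ∈ T, t * t = 1 → t = 1 ∨ t = z ∨ t = u ∨ t = z * u := by
    intro t ht htt
    have h0 := h31_invol n (by omega) e ⟨z, h.zT⟩ ⟨u, h.uT⟩ (Subtype.ext h.zz) (Subtype.ext h.uu)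
      (fun hc => h.z1 (congrArg Subtype.val hc)) (fun hc => h.u1 (congrArg Subtype.val hc))
      (fun hc => h.uz (congrArg Subtype.val hc)) ⟨t, ht⟩ (Subtype.ext htt)
    rcases h0 with h0 | h0 | h0 | h0
    · exact Or.inl (congrArg Subtype.val h0)
    · exact Or.inr (Or.inl (congrArg Subtype.val h0))
    · exact Or.inr (Or.inr (Or.inl (congrArg Subtype.val h0)))
    · exact Or.inr (Or.inr (Or.inr (congrArg Subtype.val h0)))
  -- a root of `u`
  obtain ⟨x, hxT, hxu⟩ : ∃ x ∈ T, x ^ (2 ^ (n - 1)) = u := by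
    obtain ⟨x, hx⟩ := h31_root n (by omega) e ⟨u, h.uT⟩ (Subtype.ext h.uu)
    exact ⟨x, x.2, by simpa using congrArg Subtype.val hx⟩
  have hsS := h.sS
  have hsu' : s⁻¹ * u * s = z * u := by
    have h0 := h.szu
    calc s⁻¹ * u * s = s⁻¹ * (s * (z * u) * s⁻¹) * s := by rw [h0]
      _ = z * u := by group
  have hconj_zu : ∀ g ∈ (S : Subgroup G), g * (z * u) * g⁻¹ = z * (g * u * g⁻¹) := by
    intro g hg
    have h0 := h.zc g hg
    calc g * (z * u) * g⁻¹ = (g * z) * u * g⁻¹ := by group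
      _ = z * (g * u * g⁻¹) := by rw [h0]; group
  -- conjugation by `s` preserves `T`
  have hsT : ∀ t ∈ T, s * t * s⁻¹ ∈ T := by
    intro t ht
    apply h.cent _ ((S : Subgroup G).mul_mem ((S : Subgroup G).mul_mem hsS (h.TS ht))
      ((S : Subgroup G).inv_mem hsS))
    have h1 : t * (z * u) = (z * u) * t := by
      have hz := h.zc t (h.TS ht)
      have hu := h.uc t ht
      calc t * (z * u) = (t * z) * u := by group
        _ = z * (t * u) := by rw [hz]; group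
        _ = z * u * t := by rw [hu]; group
    calc s * t * s⁻¹ * u = s * (t * (s⁻¹ * u * s)) * s⁻¹ := by group
      _ = s * ((z * u) * t) * s⁻¹ := by rw [hsu', h1]
      _ = (s * (z * u) * s⁻¹) * (s * t * s⁻¹) := by group
      _ = u * (s * t * s⁻¹) := by rw [h.szu]
  have hy'T : s * x * s⁻¹ ∈ T := hsT x hxT
  have hy'u : (s * x * s⁻¹) ^ (2 ^ (n - 1)) = z * u := by
    rw [conj_pow, hxu, h.su]
  have hxy' : x * (s * x * s⁻¹) = (s * x * s⁻¹) * x := hTc x hxT _ hy'T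
  have hzu1 : z * u ≠ 1 := by
    intro hc
    apply h.uz
    calc u = z * (z * u) := by rw [← mul_assoc, h.zz, one_mul]
      _ = z := by rw [hc, mul_one]
  have hzuzu : (z * u) * (z * u) = 1 := by
    calc z * u * (z * u) = z * (u * z) * u := by group
      _ = z * (z * u) * u := by rw [h.zu_comm]
      _ = (z * z) * (u * u) := by group
      _ = 1 := by rw [h.zz, h.uu, mul_one]
  have hnn : n - 1 + 1 = n := by omega
  have hxo : orderOf x = 2 ^ n := by
    have h1 : x ^ (2 ^ (n - 1 + 1)) = 1 := by rw [pow_succ, pow_mul, hxu, pow_two, h.uu]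
    have h0 : ¬ x ^ (2 ^ (n - 1)) = 1 := by rw [hxu]; exact h.u1
    have h3 := orderOf_eq_prime_pow h0 h1
    rw [h3, hnn]
  have hy'o : orderOf (s * x * s⁻¹) = 2 ^ n := by
    have h1 : (s * x * s⁻¹) ^ (2 ^ (n - 1 + 1)) = 1 := by
      rw [pow_succ, pow_mul, hy'u, pow_two, hzuzu]
    have h0 : ¬ (s * x * s⁻¹) ^ (2 ^ (n - 1)) = 1 := by rw [hy'u]; exact hzu1
    have h3 := orderOf_eq_prime_pow h0 h1
    rw [h3, hnn]
  -- `⟨x⟩ ∩ ⟨y'⟩ = 1`
  have hdisj : Subgroup.zpowers x ⊓ Subgroup.zpowers (s * x * s⁻¹) = ⊥ := by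
    rw [eq_bot_iff]
    intro g hg
    rw [Subgroup.mem_bot]
    by_contra hg1
    obtain ⟨hgx, hgy⟩ := Subgroup.mem_inf.mp hg
    have hdvd : orderOf g ∣ 2 ^ n := by rw [← hxo]; exact orderOf_dvd_of_mem_zpowers hgx
    obtain ⟨k, hk, hgo⟩ := (Nat.dvd_prime_pow Nat.prime_two).mp hdvd
    have hk1 : 1 ≤ k := by
      rcases Nat.eq_zero_or_pos k with h0 | h0
      · subst h0
        rw [pow_zero, orderOf_eq_one_iff] at hgo
        exact absurd hgo hg1
      · exact h0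
    have hkk : k - 1 + 1 = k := by omega
    have hvv : g ^ (2 ^ (k - 1)) * g ^ (2 ^ (k - 1)) = 1 := by
      rw [← pow_add, ← two_mul, ← pow_succ', hkk, ← hgo, pow_orderOf_eq_one]
    have hv1 : g ^ (2 ^ (k - 1)) ≠ 1 := by
      intro h1
      have h3 := orderOf_dvd_of_pow_eq_one h1
      rw [hgo] at h3
      have h4 := Nat.le_of_dvd (by positivity) h3
      have h5 : 2 ^ k = 2 ^ (k - 1) * 2 := by rw [← pow_succ, hkk]
      have h6 : 0 < 2 ^ (k - 1) := by positivity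
      omega
    have hvx : g ^ (2 ^ (k - 1)) ∈ Subgroup.zpowers x := Subgroup.pow_mem _ hgx _
    have hvy : g ^ (2 ^ (k - 1)) ∈ Subgroup.zpowers (s * x * s⁻¹) := Subgroup.pow_mem _ hgy _
    rcases h31_invol_zpowers x n (by omega) hxo _ hvx hvv with h1 | h1
    · exact hv1 h1
    rcases h31_invol_zpowers (s * x * s⁻¹) n (by omega) hy'o _ hvy hvv with h3 | h3
    · exact hv1 h3
    · rw [hxu] at h1
      rw [hy'u] at h3
      apply h.z1
      have h4 : z * u = u := by rw [← h3, h1]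
      exact mul_eq_right.mp h4
  -- the stabilizer of `{u, z u}` in `S`
  have hR_T : ∀ g ∈ (S : Subgroup G), g * u * g⁻¹ = u → g ∈ T := by
    intro g hg hgu
    apply h.cent g hg
    calc g * u = (g * u * g⁻¹) * g := by group
      _ = u * g := by rw [hgu]
  have hTR : T ≤ h31_stab (S : Subgroup G) z u h.zz h.zc := by
    intro t ht
    exact ⟨h.TS ht, Or.inl (by rw [h.uc t ht, mul_assoc, mul_inv_cancel, mul_one])⟩
  have hsR : s ∈ h31_stab (S : Subgroup G) z u h.zz h.zc := ⟨h.sS, Or.inr h.su⟩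
  have hsq : ∀ g ∈ h31_stab (S : Subgroup G) z u h.zz h.zc, g * g ∈ T := by
    intro g hg
    apply hR_T _ (Subgroup.mul_mem _ hg.1 hg.1)
    have e1 : (g * g) * u * (g * g)⁻¹ = g * (g * u * g⁻¹) * g⁻¹ := by group
    rw [e1]
    rcases hg.2 with hgu | hgu
    · rw [hgu, hgu]
    · rw [hgu, hconj_zu g hg.1, hgu, ← mul_assoc, h.zz, one_mul]
  -- the stabilizer is all of `S`
  have hRS_eq : h31_stab (S : Subgroup G) z u h.zz h.zc = (S : Subgroup G) := by
    by_contra hne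
    have hRS : h31_stab (S : Subgroup G) z u h.zz h.zc ≤ (S : Subgroup G) := fun g hg => hg.1
    have hnil : Group.IsNilpotent ↥(S : Subgroup G) := S.isPGroup'.isNilpotent
    have hnc := @Group.normalizerCondition_of_isNilpotent ↥(S : Subgroup G) _ hnil
    have hlt : (h31_stab (S : Subgroup G) z u h.zz h.zc).subgroupOf (S : Subgroup G) < ⊤ := by
      rw [lt_top_iff_ne_top]
      intro htop
      apply hne
      apply le_antisymm hRS
      intro g hg
      have h0 : (⟨g, hg⟩ : ↥(S : Subgroup G)) ∈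
          (h31_stab (S : Subgroup G) z u h.zz h.zc).subgroupOf (S : Subgroup G) := by
        rw [htop]; trivial
      exact Subgroup.mem_subgroupOf.mp h0
    have hlt2 := hnc _ hlt
    obtain ⟨g, hgN, hgR⟩ := SetLike.exists_of_lt hlt2
    apply hgR
    rw [Subgroup.mem_subgroupOf]
    have hn2 : n - 2 + 1 = n - 1 := by omega
    have htuT : x ^ (2 ^ (n - 2)) ∈ T := Subgroup.pow_mem _ hxT _
    have htusq : x ^ (2 ^ (n - 2)) * x ^ (2 ^ (n - 2)) = u := by
      rw [← pow_add, ← two_mul, ← pow_succ', hn2, hxu]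
    have h1 : (g : G) * x ^ (2 ^ (n - 2)) * (g : G)⁻¹ ∈
        h31_stab (S : Subgroup G) z u h.zz h.zc := by
      have hmem : (⟨x ^ (2 ^ (n - 2)), h.TS htuT⟩ : ↥(S : Subgroup G)) ∈
          (h31_stab (S : Subgroup G) z u h.zz h.zc).subgroupOf (S : Subgroup G) :=
        Subgroup.mem_subgroupOf.mpr (hTR htuT)
      have h0 := (Subgroup.mem_normalizer_iff.mp hgN _).mp hmem
      exact Subgroup.mem_subgroupOf.mp h0
    have h2' := hsq _ h1
    have h3 : (g : G) * x ^ (2 ^ (n - 2)) * (g : G)⁻¹ * ((g : G) * x ^ (2 ^ (n - 2)) * (g : G)⁻¹)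
        = (g : G) * u * (g : G)⁻¹ := by
      rw [← htusq]; group
    rw [h3] at h2'
    have h4 : ((g : G) * u * (g : G)⁻¹) * ((g : G) * u * (g : G)⁻¹) = 1 := by
      calc ((g : G) * u * (g : G)⁻¹) * ((g : G) * u * (g : G)⁻¹)
          = (g : G) * (u * u) * (g : G)⁻¹ := by group
        _ = 1 := by rw [h.uu]; group
    rcases hinv _ h2' h4 with h5 | h5 | h5 | h5
    · exfalso
      apply h.u1
      calc u = (g : G)⁻¹ * ((g : G) * u * (g : G)⁻¹) * (g : G) := by group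
        _ = 1 := by rw [h5]; group
    · exfalso
      apply h.uz
      have hz' := h.zc (g : G) g.2
      calc u = (g : G)⁻¹ * ((g : G) * u * (g : G)⁻¹) * (g : G) := by group
        _ = (g : G)⁻¹ * (z * (g : G)) := by rw [h5]; group
        _ = (g : G)⁻¹ * ((g : G) * z) := by rw [hz']
        _ = z := by group
    · exact ⟨g.2, Or.inl h5⟩
    · exact ⟨g.2, Or.inr h5⟩
  -- `|S : T| = 2`
  have hidx : T.relIndex (S : Subgroup G) = 2 := by
    rw [Subgroup.relIndex_eq_two_iff]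
    refine ⟨s⁻¹, Subgroup.inv_mem _ h.sS, ?_⟩
    intro b hb
    have hbR : b ∈ h31_stab (S : Subgroup G) z u h.zz h.zc := by rw [hRS_eq]; exact hb
    rcases hbR.2 with hbu | hbu
    · have hbT := hR_T b hb hbu
      refine Or.inr ⟨hbT, ?_⟩
      intro hbs
      apply h.s_not_mem
      have h0 : s = (b * s⁻¹)⁻¹ * b := by group
      rw [h0]
      exact Subgroup.mul_mem _ (Subgroup.inv_mem _ hbs) hbT
    · refine Or.inl ⟨?_, ?_⟩
      · apply hR_T _ (Subgroup.mul_mem _ hb (Subgroup.inv_mem _ h.sS))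
        calc b * s⁻¹ * u * (b * s⁻¹)⁻¹ = b * (s⁻¹ * u * s) * b⁻¹ := by group
          _ = b * (z * u) * b⁻¹ := by rw [hsu']
          _ = z * (b * u * b⁻¹) := hconj_zu b hb
          _ = u := by rw [hbu, ← mul_assoc, h.zz, one_mul]
      · intro hbT
        have h0 := h.uc b hbT
        apply h.z1
        have h6 : b * u * b⁻¹ = u := by rw [h0, mul_assoc, mul_inv_cancel, mul_one]
        rw [hbu] at h6
        exact mul_eq_right.mp h6
  have hcardT : Nat.card T = 2 ^ n * 2 ^ n := by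
    rw [Nat.card_congr (e.toEquiv.trans Multiplicative.toAdd), Nat.card_prod, Nat.card_zmod]
  have hcard : Nat.card (S : Subgroup G) = 2 ^ (2 * n + 1) := by
    have h1 := Subgroup.card_mul_index (T.subgroupOf (S : Subgroup G))
    have h2' : Nat.card (T.subgroupOf (S : Subgroup G)) = Nat.card T :=
      Nat.card_congr (Subgroup.subgroupOfEquivOfLe h.TS).toEquiv
    have h3 : (T.subgroupOf (S : Subgroup G)).index = 2 := hidx
    rw [h2', h3, hcardT] at h1
    rw [← h1]; ring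
  -- uniqueness of the decomposition `x^a * y'^b`
  have hkey : ∀ a b a' b' : ℕ, x ^ a * (s * x * s⁻¹) ^ b = x ^ a' * (s * x * s⁻¹) ^ b' →
      x ^ a = x ^ a' ∧ (s * x * s⁻¹) ^ b = (s * x * s⁻¹) ^ b' := by
    intro a b a' b' hab
    have hg : (x ^ a')⁻¹ * x ^ a = (s * x * s⁻¹) ^ b' * ((s * x * s⁻¹) ^ b)⁻¹ := by
      calc (x ^ a')⁻¹ * x ^ a
          = (x ^ a')⁻¹ * (x ^ a * (s * x * s⁻¹) ^ b) * ((s * x * s⁻¹) ^ b)⁻¹ := by
            rw [mul_assoc, mul_assoc, mul_inv_cancel, mul_one]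
        _ = (x ^ a')⁻¹ * (x ^ a' * (s * x * s⁻¹) ^ b') * ((s * x * s⁻¹) ^ b)⁻¹ := by rw [hab]
        _ = (s * x * s⁻¹) ^ b' * ((s * x * s⁻¹) ^ b)⁻¹ := by rw [inv_mul_cancel_left]
    have hgx : (x ^ a')⁻¹ * x ^ a ∈ Subgroup.zpowers x :=
      Subgroup.mul_mem _ (Subgroup.inv_mem _ (Subgroup.pow_mem _ (Subgroup.mem_zpowers x) _))
        (Subgroup.pow_mem _ (Subgroup.mem_zpowers x) _)
    have hgy : (x ^ a')⁻¹ * x ^ a ∈ Subgroup.zpowers (s * x * s⁻¹) := by
      rw [hg]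
      exact Subgroup.mul_mem _ (Subgroup.pow_mem _ (Subgroup.mem_zpowers _) _)
        (Subgroup.inv_mem _ (Subgroup.pow_mem _ (Subgroup.mem_zpowers _) _))
    have hg1 : (x ^ a')⁻¹ * x ^ a = 1 := by
      have h0 : (x ^ a')⁻¹ * x ^ a ∈ Subgroup.zpowers x ⊓ Subgroup.zpowers (s * x * s⁻¹) :=
        Subgroup.mem_inf.mpr ⟨hgx, hgy⟩
      rw [hdisj] at h0
      exact Subgroup.mem_bot.mp h0
    refine ⟨(inv_mul_eq_one.mp hg1).symm, ?_⟩
    rw [hg1] at hg
    exact (mul_inv_eq_one.mp hg.symm).symm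
  -- every element of `T` is `x^i * y'^j`
  have hdecomp : ∀ t ∈ T, ∃ i j : ℕ, t = x ^ i * (s * x * s⁻¹) ^ j := by
    let f : ZMod (2 ^ n) × ZMod (2 ^ n) → ↥T := fun p =>
      ⟨x ^ p.1.val * (s * x * s⁻¹) ^ p.2.val,
        Subgroup.mul_mem _ (Subgroup.pow_mem _ hxT _) (Subgroup.pow_mem _ hy'T _)⟩
    have hf : Function.Injective f := by
      rintro ⟨i, j⟩ ⟨i', j'⟩ hij
      have hij' : x ^ i.val * (s * x * s⁻¹) ^ j.val = x ^ i'.val * (s * x * s⁻¹) ^ j'.val :=
        congrArg Subtype.val hij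
      obtain ⟨h1, h3⟩ := hkey _ _ _ _ hij'
      have hi : i.val = i'.val :=
        pow_injOn_Iio_orderOf (by rw [Set.mem_Iio, hxo]; exact ZMod.val_lt i)
          (by rw [Set.mem_Iio, hxo]; exact ZMod.val_lt i') h1
      have hj : j.val = j'.val :=
        pow_injOn_Iio_orderOf (by rw [Set.mem_Iio, hy'o]; exact ZMod.val_lt j)
          (by rw [Set.mem_Iio, hy'o]; exact ZMod.val_lt j') h3
      rw [Prod.mk.injEq]
      exact ⟨ZMod.val_injective _ hi, ZMod.val_injective _ hj⟩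
    have hbij : Function.Bijective f :=
      (Nat.bijective_iff_injective_and_card f).mpr
        ⟨hf, (Nat.card_congr (e.toEquiv.trans Multiplicative.toAdd)).symm⟩
    intro t ht
    obtain ⟨⟨i, j⟩, hij⟩ := hbij.2 ⟨t, ht⟩
    exact ⟨i.val, j.val, (congrArg Subtype.val hij).symm⟩
  have hs2T : s * s ∈ T := hsq s hsR
  obtain ⟨i, j, hij⟩ := hdecomp _ hs2T
  have hsy' : s * (s * x * s⁻¹) * s⁻¹ = x := by
    have hc := hTc (s * s) hs2T x hxT
    calc s * (s * x * s⁻¹) * s⁻¹ = (s * s) * x * (s * s)⁻¹ := by group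
      _ = x * (s * s) * (s * s)⁻¹ := by rw [hc]
      _ = x := by group
  have hfix : x ^ i * (s * x * s⁻¹) ^ j = (s * x * s⁻¹) ^ i * x ^ j := by
    have h1 : s * (s * s) * s⁻¹ = s * s := by group
    rw [hij] at h1
    have h3 : s * (x ^ i * (s * x * s⁻¹) ^ j) * s⁻¹
        = (s * x * s⁻¹) ^ i * (s * (s * x * s⁻¹) * s⁻¹) ^ j := by
      have ha : (s * x * s⁻¹) ^ i = s * x ^ i * s⁻¹ := conj_pow
      have hb : (s * (s * x * s⁻¹) * s⁻¹) ^ j = s * (s * x * s⁻¹) ^ j * s⁻¹ := conj_pow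
      rw [ha, hb]
      simp only [mul_assoc, inv_mul_cancel_left]
    rw [h3, hsy'] at h1
    exact h1.symm
  have hfix2 : x ^ i * (s * x * s⁻¹) ^ j = x ^ j * (s * x * s⁻¹) ^ i := by
    rw [hfix]
    exact hTc _ (pow_mem hy'T i) _ (pow_mem hxT j)
  obtain ⟨hxij, hyij⟩ := hkey i j j i hfix2
  have hs2 : s * s = x ^ i * (s * x * s⁻¹) ^ i := by rw [hij, hyij]
  have hww : ((x ^ i)⁻¹ * s) * ((x ^ i)⁻¹ * s) = 1 := by
    have h1 : s * (x ^ i)⁻¹ * s⁻¹ = ((s * x * s⁻¹) ^ i)⁻¹ := by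
      rw [conj_pow]; group
    have hc := hTc _ (pow_mem hxT i) _ (pow_mem hy'T i)
    calc ((x ^ i)⁻¹ * s) * ((x ^ i)⁻¹ * s)
        = (x ^ i)⁻¹ * (s * (x ^ i)⁻¹ * s⁻¹) * (s * s) := by group
      _ = (x ^ i)⁻¹ * ((s * x * s⁻¹) ^ i)⁻¹ * (x ^ i * (s * x * s⁻¹) ^ i) := by rw [h1, hs2]
      _ = (x ^ i)⁻¹ * ((s * x * s⁻¹) ^ i)⁻¹ * ((s * x * s⁻¹) ^ i * x ^ i) := by rw [hc]
      _ = 1 := by group
  have hw1 : (x ^ i)⁻¹ * s ≠ 1 := by
    intro h1
    apply h.s_not_mem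
    have h0 : s = x ^ i := by
      calc s = x ^ i * ((x ^ i)⁻¹ * s) := by group
        _ = x ^ i := by rw [h1, mul_one]
    rw [h0]
    exact pow_mem hxT i
  have hwo : orderOf ((x ^ i)⁻¹ * s) = 2 :=
    orderOf_eq_prime (by rw [pow_two]; exact hww) hw1
  have hwx : ((x ^ i)⁻¹ * s) * x * ((x ^ i)⁻¹ * s)⁻¹ = s * x * s⁻¹ := by
    have hc := hTc _ (pow_mem hxT i) _ hy'T
    calc ((x ^ i)⁻¹ * s) * x * ((x ^ i)⁻¹ * s)⁻¹ = (x ^ i)⁻¹ * ((s * x * s⁻¹) * x ^ i) := by group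
      _ = (x ^ i)⁻¹ * (x ^ i * (s * x * s⁻¹)) := by rw [hc]
      _ = s * x * s⁻¹ := by group
  exact Cfsg.Agent.Lib.helper26.isWreathed_of_elements S n hn hcard x (s * x * s⁻¹)
    ((x ^ i)⁻¹ * s) hxo hxy' hdisj hwo hwx

end Cfsg.Agent.Lib.helper31.S1238
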