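import Mathlib
import Cfsg.Agent.Lib.helper37.S3390Defs
import Cfsg.Agent.S3389

/-! S3390 split (architect helper37), piece FBO (`unique_fixed_odd`): an element of odd prime
order fixing `α` fixes no other point of `N α` (Sylow + Frattini + landed S3389). -/

set_option autoImplicit false
open Cfsg

namespace Cfsg.Agent.Lib.helper31.S3390FBO

variable {G : Type*} [Group G] [Finite G] {Ω : Type*} [MulAction G Ω]

/-- PIECE FBO: an element of odd prime order fixing `α` fixes no other point of `N α`. -/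
theorem unique_fixed_odd [Fintype Ω] [FaithfulSMul G Ω] (htr : MulAction.IsPretransitive G Ω)
    (hfix : ∀ g : G, g ≠ 1 → Nat.card (MulAction.fixedBy Ω g) ≤ 2)
    (hex : ∃ g : G, g ≠ 1 ∧ Nat.card (MulAction.fixedBy Ω g) = 2)
    (α : Ω) (n : G) (N : Subgroup G) (hN : N.Normal) (hnN : n ∉ N)
    (hstab : MulAction.stabilizer G α ≤ N)
    (q : ℕ) (hq : q.Prime) (hq2 : q ≠ 2)
    (y : G) (hy : orderOf y = q) (hyα : y • α = α) (m : G) (hm : m ∈ N)
    (hym : y • (m • α) = m • α) : m • α = α := by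
  by_contra hne
  have : Fact q.Prime := ⟨hq⟩
  have hy1 : y ≠ 1 := by
    rintro rfl
    rw [orderOf_one] at hy
    exact hq.one_lt.ne hy
  have hyA : y ∈ MulAction.stabilizer G α := MulAction.mem_stabilizer_iff.mpr hyα
  have hqA : q ∣ Nat.card (MulAction.stabilizer G α) := by
    have := Subgroup.orderOf_dvd_natCard (MulAction.stabilizer G α) hyA
    rwa [hy] at this
  have hqG : q ∣ Nat.card G := hqA.trans (Subgroup.card_subgroup_dvd_card _)
  have h3389 := (Cfsg.Agent.S3389.result htr 2 (by norm_num) hfix hex).2.2 q hq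
    (lt_of_le_of_ne hq.two_le (Ne.symm hq2)) hqG α
  have hidxA : ¬ q ∣ (MulAction.stabilizer G α).index := by
    rcases h3389 with h | h
    · exact absurd hqA h
    · exact h
  -- a Sylow `q`-subgroup of `G_α` containing `y`
  have hpg : IsPGroup q (Subgroup.zpowers (⟨y, hyA⟩ : MulAction.stabilizer G α)) := by
    apply IsPGroup.of_card (n := 1)
    rw [Nat.card_zpowers, pow_one, ← hy]
    exact Subgroup.orderOf_mk y hyA
  obtain ⟨Q₀, hQ₀⟩ := hpg.exists_le_sylow
  have hQ₁A : (Q₀ : Subgroup (MulAction.stabilizer G α)).map (MulAction.stabilizer G α).subtype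
      ≤ MulAction.stabilizer G α := Subgroup.map_subtype_le _
  have hyQ : y ∈ (Q₀ : Subgroup (MulAction.stabilizer G α)).map
      (MulAction.stabilizer G α).subtype :=
    ⟨⟨y, hyA⟩, hQ₀ (Subgroup.mem_zpowers _), rfl⟩
  have hQ₁p : IsPGroup q ((Q₀ : Subgroup (MulAction.stabilizer G α)).map
      (MulAction.stabilizer G α).subtype) := Q₀.isPGroup'.map _
  have hQ₁idx : ¬ q ∣ ((Q₀ : Subgroup (MulAction.stabilizer G α)).map
      (MulAction.stabilizer G α).subtype).index := by
    rw [Subgroup.index_map_subtype]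
    intro h
    rcases (Nat.Prime.dvd_mul hq).mp h with h | h
    · exact Q₀.not_dvd_index h
    · exact hidxA h
  have hQN : ((hQ₁p.toSylow hQ₁idx : Sylow q G) : Subgroup G) ≤ N := hQ₁A.trans hstab
  have := hN
  have hfrat := Sylow.normalizer_sup_eq_top' (hQ₁p.toSylow hQ₁idx) hQN
  have hn : n ∈ Subgroup.normalizer ((hQ₁p.toSylow hQ₁idx : Sylow q G) : Set G) ⊔ N := by
    rw [hfrat]; exact Subgroup.mem_top n
  rw [← SetLike.mem_coe, Subgroup.mul_normal] at hn
  obtain ⟨d, hd, m₁, hm₁, rfl⟩ := Set.mem_mul.mp hn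
  have hdN : d ∉ N := fun h => hnN (N.mul_mem h hm₁)
  -- `y` fixes `d • α`
  have hyd : y • (d • α) = d • α := by
    have h1 : d⁻¹ * y * d ∈ (Q₀ : Subgroup (MulAction.stabilizer G α)).map
        (MulAction.stabilizer G α).subtype := by
      have h0 := Subgroup.mem_normalizer_iff.mp hd (d⁻¹ * y * d)
      have h0' : d * (d⁻¹ * y * d) * d⁻¹ = y := by group
      rw [h0'] at h0
      exact h0.mpr hyQ
    have h2 : (d⁻¹ * y * d) • α = α := MulAction.mem_stabilizer_iff.mp (hQ₁A h1)
    rw [mul_smul, mul_smul, inv_smul_eq_iff] at h2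
    exact h2
  by_cases h1 : d • α = α
  · exact hdN (hstab (MulAction.mem_stabilizer_iff.mpr h1))
  by_cases h2 : d • α = m • α
  · have h3 : m⁻¹ * d ∈ MulAction.stabilizer G α := by
      rw [MulAction.mem_stabilizer_iff, mul_smul, h2, inv_smul_smul]
    have h4 : d ∈ N := by
      have h5 := N.mul_mem hm (hstab h3)
      rwa [mul_inv_cancel_left] at h5
    exact hdN h4
  · exact hy1 (Cfsg.Agent.Lib.helper37.S3390.fix3 hfix y α (m • α) (d • α) (Ne.symm hne)
      (Ne.symm h1) (Ne.symm h2) hyα hym hyd)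

end Cfsg.Agent.Lib.helper31.S3390FBO
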