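import Mathlib
import Cfsg.Agent.Lib.helper26.S4409Defs

/-! S4409 piece ES32 (helper31), core: an extraspecial 2-group which is not `NoP` has order at
least 32, given that its order is not 16. -/

set_option autoImplicit false

namespace Cfsg.Agent.Lib.helper26.S4409

variable {G : Type*} [Group G]

theorem h31_es32_core [Finite G] (X : Subgroup G) (h16 : Nat.card ↥X ≠ 16)
    (h : Cfsg.IsExtraspecial 2 ↥X) (hN : ¬ NoP X) : 32 ≤ Nat.card ↥X := by
  obtain ⟨⟨hP, -, -⟩, hZ⟩ := h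
  unfold NoP at hN
  push Not at hN
  obtain ⟨A, hAX, hAc, hA8, hAnc⟩ := hN
  haveI : Fact (Nat.Prime 2) := ⟨Nat.prime_two⟩
  obtain ⟨n, hn⟩ := IsPGroup.iff_card.1 hP
  have hdvd : Nat.card ↥A ∣ Nat.card ↥X := Subgroup.card_dvd_of_le hAX
  rw [hA8, hn] at hdvd
  have h3 : 3 ≤ n := by
    have h8 : (2 : ℕ) ^ 3 ∣ 2 ^ n := by simpa using hdvd
    exact (Nat.pow_dvd_pow_iff_le_right (by norm_num : 1 < 2)).1 h8
  have hn3 : n ≠ 3 := by
    rintro rfl
    have hAX' : A = X := Subgroup.eq_of_le_of_card_ge hAX (by rw [hA8, hn]; norm_num)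
    subst hAX'
    have hc : Subgroup.center ↥A = ⊤ := by
      rw [eq_top_iff]
      intro a _
      rw [Subgroup.mem_center_iff]
      intro b
      exact hAc.is_comm.comm b a
    rw [hc, Subgroup.card_top, hA8] at hZ
    norm_num at hZ
  have hn4 : n ≠ 4 := by
    rintro rfl
    exact h16 (by rw [hn]; norm_num)
  have h5 : 5 ≤ n := by omega
  rw [hn]
  calc 32 = 2 ^ 5 := by norm_num
    _ ≤ 2 ^ n := Nat.pow_le_pow_right (by norm_num) h5

end Cfsg.Agent.Lib.helper26.S4409
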