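import Mathlib
import Cfsg.Agent.Lib.helper26.S4409Defs
import Cfsg.Agent.Lib.helper31.S4409_ES32core
import Cfsg.Agent.Lib.helper54.S4409_ES16

/-! S4409 piece ES32 (helper31): an extraspecial 2-group which is not `NoP` has order at least 32. -/

set_option autoImplicit false

namespace Cfsg.Agent.Lib.helper26.S4409

variable {G : Type*} [Group G]

theorem es32 [Finite G] (X : Subgroup G) (h : Cfsg.IsExtraspecial 2 ↥X) (hN : ¬ NoP X) :
    32 ≤ Nat.card ↥X := h31_es32_core X (es16 h) h hN

end Cfsg.Agent.Lib.helper26.S4409
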