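import Mathlib
import Cfsg.Agent.Lib.helper89.S60Defs
import Cfsg.Agent.Lib.helper31.S60BFC
import Cfsg.Agent.Lib.helper29.S60BTF

/-!
S6000 split (architect helper89), leaf N3 (`s60_nec_three`), racer copy by helper31.
-/

set_option autoImplicit false

namespace Cfsg.Agent.Lib.helper89.S60

open Matrix Cfsg Cfsg.Geo

/-- a primitive cube root of unity when `q ≡ 1 (mod 3)`. -/
theorem h31_s60_omega {F : Type*} [Field F] [Fintype F] (hq : Fintype.card F % 3 = 1) :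
    ∃ ω : F, ω ≠ 1 ∧ ω ^ 3 = 1 ∧ ω ^ 2 + ω + 1 = 0 := by
  classical
  haveI : Fact (Nat.Prime 3) := ⟨by norm_num⟩
  have h3 : 3 ∣ Fintype.card Fˣ := by
    rw [Fintype.card_units]
    have hpos : 0 < Fintype.card F := Fintype.card_pos
    omega
  obtain ⟨u, hu⟩ := exists_prime_orderOf_dvd_card 3 h3
  have h1 : (u : F) ^ 3 = 1 := by
    have h1 : u ^ 3 = 1 := by rw [← hu]; exact pow_orderOf_eq_one u
    have := congrArg (fun v : Fˣ => (v : F)) h1
    simpa using this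
  have hne : (u : F) ≠ 1 := by
    intro h
    have : u = 1 := Units.ext h
    rw [this, orderOf_one] at hu
    norm_num at hu
  refine ⟨(u : F), hne, h1, ?_⟩
  have : ((u : F) - 1) * ((u : F) ^ 2 + u + 1) = 0 := by linear_combination h1
  exact (mul_eq_zero.mp this).resolve_left (sub_ne_zero.mpr hne)

/-- the trace of a conjugate -/
theorem h31_s60_trace_conj {F : Type*} [Field F] (g x : GL (Fin 4) F) :
    Matrix.trace ((g⁻¹ * x * g : GL (Fin 4) F) : Matrix (Fin 4) (Fin 4) F)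
      = Matrix.trace (x : Matrix (Fin 4) (Fin 4) F) := by
  rw [Units.val_mul, Units.val_mul, Matrix.trace_mul_comm, ← Matrix.mul_assoc, ← Units.val_mul,
    mul_inv_cancel, Units.val_one, Matrix.one_mul]

/-- N3 (M; uses BFC BTF), racer copy. -/
theorem h31_s60_nec_three {F : Type*} [Field F] [Fintype F] (h2 : (2 : F) ≠ 0) (R : Subgroup (GL (Fin 4) F)) (w : F) (hG : Good R w)
    (h3 : (3 : F) ≠ 0) (hq : Fintype.card F % 3 = 1) : Derang R 3 := by
  classical
  haveI : Fact (Nat.Prime 3) := ⟨by norm_num⟩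
  obtain ⟨ω, hω1, hω3, hω⟩ := h31_s60_omega hq
  have hωω : ω * ω ^ 2 = 1 := by rw [← hω3]; ring
  have hωω' : ω ^ 2 * ω = 1 := by rw [← hω3]; ring
  have hDD' : (Matrix.diagonal ![ω, ω, ω, 1] : Matrix (Fin 4) (Fin 4) F) *
      Matrix.diagonal ![ω ^ 2, ω ^ 2, ω ^ 2, 1] = 1 := by
    rw [Matrix.diagonal_mul_diagonal, ← Matrix.diagonal_one]
    congr 1
    funext i
    fin_cases i <;> simp [hωω]
  have hD'D : (Matrix.diagonal ![ω ^ 2, ω ^ 2, ω ^ 2, 1] : Matrix (Fin 4) (Fin 4) F) *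
      Matrix.diagonal ![ω, ω, ω, 1] = 1 := by
    rw [Matrix.diagonal_mul_diagonal, ← Matrix.diagonal_one]
    congr 1
    funext i
    fin_cases i <;> simp [hωω']
  obtain ⟨x, hxv, hxi⟩ : ∃ x : GL (Fin 4) F,
      (x : Matrix (Fin 4) (Fin 4) F) = Matrix.diagonal ![ω, ω, ω, 1] ∧
      ((x⁻¹ : GL (Fin 4) F) : Matrix (Fin 4) (Fin 4) F) = Matrix.diagonal ![ω ^ 2, ω ^ 2, ω ^ 2, 1] :=
    ⟨⟨_, _, hDD', hD'D⟩, rfl, rfl⟩
  have hx3 : x ^ 3 = 1 := by
    apply Units.ext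
    rw [Units.val_pow_eq_pow_val, hxv, Matrix.diagonal_pow, Units.val_one, ← Matrix.diagonal_one]
    congr 1
    funext i
    fin_cases i <;> simp [hω3]
  have hdet : x ∈ specialLinear (Fin 4) F := by
    show Matrix.GeneralLinearGroup.det x = 1
    apply Units.ext
    rw [Matrix.GeneralLinearGroup.val_det_apply, hxv, Matrix.det_diagonal, Fin.prod_univ_four]
    simp only [Units.val_one]
    show ω * ω * ω * 1 = 1
    linear_combination hω3
  have hns : ∀ z : F, (x : Matrix (Fin 4) (Fin 4) F) ≠ z • (1 : Matrix (Fin 4) (Fin 4) F) := by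
    intro z hz
    rw [hxv] at hz
    have h00 := congrFun (congrFun hz 0) 0
    have h33 := congrFun (congrFun hz 3) 3
    simp at h00 h33
    exact hω1 (h00.trans h33.symm)
  have htx : Matrix.trace (x : Matrix (Fin 4) (Fin 4) F) = 3 * ω + 1 := by
    rw [hxv, Matrix.trace, Fin.sum_univ_four]
    simp
    ring
  have htxi : Matrix.trace ((x⁻¹ : GL (Fin 4) F) : Matrix (Fin 4) (Fin 4) F) = 3 * ω ^ 2 + 1 := by
    rw [hxi, Matrix.trace, Fin.sum_univ_four]
    simp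
    ring
  refine ⟨x, hdet, hx3, hns, ?_⟩
  intro g hy
  have hy3 : (g⁻¹ * x * g) ^ 3 = 1 := by
    have h := conj_pow (i := 3) (a := g⁻¹) (b := x)
    rw [inv_inv] at h
    rw [h, hx3]
    group
  have hty : Matrix.trace ((g⁻¹ * x * g : GL (Fin 4) F) : Matrix (Fin 4) (Fin 4) F) = 3 * ω + 1 := by
    rw [h31_s60_trace_conj, htx]
  have htyi : Matrix.trace (((g⁻¹ * x * g)⁻¹ : GL (Fin 4) F) : Matrix (Fin 4) (Fin 4) F) = 3 * ω ^ 2 + 1 := by
    have e : (g⁻¹ * x * g)⁻¹ = g⁻¹ * x⁻¹ * g := by group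
    rw [e, h31_s60_trace_conj, htxi]
  obtain ⟨hdvd, h4, hmod, -⟩ := s60_fix_count h2 R w hG 3 (g⁻¹ * x * g) hy hy3
  have hF := s60_trace_formula h2 R w hG (g⁻¹ * x * g) hy 3 (by decide) hy3
  rw [hty, htyi] at hF
  obtain ⟨c, hc⟩ : ∃ c : ℕ, c = Nat.card {s : GL (Fin 4) F // s ∈ R ∧ g⁻¹ * x * g * s = s * (g⁻¹ * x * g)} :=
    ⟨_, rfl⟩
  rw [← hc] at hdvd h4 hmod hF
  have h28 : (4 : F) * ((3 * ω + 1) * (3 * ω ^ 2 + 1)) = 28 := by
    linear_combination 36 * hω3 + 12 * hω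
  rw [h28] at hF
  have hcle : c ≤ 64 := Nat.le_of_dvd (by norm_num) hdvd
  have hc3 : c = 4 ∨ c = 16 ∨ c = 64 := by
    interval_cases c <;> omega
  rcases hc3 with h | h | h
  · rw [h] at hF
    have h0 : (2 : F) ^ 3 * 3 = 0 := by
      push_cast at hF
      linear_combination hF
    exact absurd h0 (mul_ne_zero (pow_ne_zero _ h2) h3)
  · rw [h] at hF
    have h0 : (2 : F) ^ 2 * 3 = 0 := by
      push_cast at hF
      linear_combination hF
    exact absurd h0 (mul_ne_zero (pow_ne_zero _ h2) h3)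
  · rw [h] at hF
    have h0 : (2 : F) ^ 2 * 3 ^ 2 = 0 := by
      push_cast at hF
      linear_combination -hF
    exact absurd h0 (mul_ne_zero (pow_ne_zero _ h2) (pow_ne_zero _ h3))

end Cfsg.Agent.Lib.helper89.S60
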