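import Cfsg.Agent.S3335
import Mathlib

/-! S0892 split (architect helper70), piece O1 (`exists_lifts_odd`), written by helper31
(the architect's namespace `Cfsg.Agent.Lib.helper70.SM` is mandated; nothing is declared in
`namespace Cfsg.Agent.Lib.helper31`).  Normalised lifts of the Carmichael generators when the
central kernel has odd order. -/

set_option autoImplicit false
open Cfsg Cfsg.Agent.S3335

namespace Cfsg.Agent.Lib.helper70.SM

universe u

/-- O1 (normalised lifts, odd kernel). -/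
theorem exists_lifts_odd {Γ : Type u} [Group Γ] [Finite Γ] (k : ℕ) (hk : 2 ≤ k)
    (π : Γ →* PresentedGroup (rels k)) (hπ : Function.Surjective π)
    (hc : π.ker ≤ Subgroup.center Γ) (hodd : Odd (Nat.card π.ker)) :
    ∃ y : Fin (k + 1) → Γ, (∀ i, π (y i) = x k i) ∧
      (∀ i : Fin (k + 1), i.val = 0 → y i ^ 3 = 1) ∧
      (∀ i : Fin (k + 1), 1 ≤ i.val → y i ^ 2 = 1) ∧
      (∀ i j : Fin (k + 1), i.val = 0 → j.val = 2 → y j * y i * (y j)⁻¹ = (y i)⁻¹) := by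
  classical
  have hpowK : ∀ c : Γ, c ∈ π.ker → c ^ Nat.card π.ker = 1 := by
    intro c hcK
    have h1 : (⟨c, hcK⟩ : π.ker) ^ Nat.card π.ker = 1 := pow_card_eq_one'
    have h2 := congrArg Subtype.val h1
    simpa using h2
  obtain ⟨m, hm⟩ := hodd
  have hroot : ∀ c : Γ, c ∈ π.ker → ∃ d : Γ, d ∈ π.ker ∧ d ^ 2 = c := by
    intro c hcK
    refine ⟨c ^ (m + 1), pow_mem hcK _, ?_⟩
    have h1 := hpowK c hcK
    rw [hm] at h1
    rw [← pow_mul]
    have h2 : (m + 1) * 2 = (2 * m + 1) + 1 := by ring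
    rw [h2, pow_succ, h1, one_mul]
  have hsq1 : ∀ c : Γ, c ∈ π.ker → c ^ 2 = 1 → c = 1 := by
    intro c hcK h2
    have h1 := hpowK c hcK
    rw [hm, pow_succ, pow_mul, h2, one_pow, one_mul] at h1
    exact h1
  have hcomm : ∀ c : Γ, c ∈ π.ker → ∀ g : Γ, c * g = g * c := by
    intro c hcK g
    exact ((Subgroup.mem_center_iff.mp (hc hcK)) g).symm
  -- involution lifts
  have hinv : ∀ i : Fin (k + 1), 1 ≤ i.val → ∃ t : Γ, π t = x k i ∧ t ^ 2 = 1 := by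
    intro i hi
    obtain ⟨t0, ht0⟩ := hπ (x k i)
    have hcK : t0 ^ 2 ∈ π.ker := by
      rw [MonoidHom.mem_ker, map_pow, ht0, x_sq k i hi]
    obtain ⟨d, hdK, hd⟩ := hroot (t0 ^ 2)⁻¹ (inv_mem hcK)
    refine ⟨t0 * d, ?_, ?_⟩
    · rw [map_mul, ht0, MonoidHom.mem_ker.mp hdK, mul_one]
    · have h3 := hcomm d hdK t0
      have h1 : (t0 * d) ^ 2 = t0 ^ 2 * d ^ 2 := by
        rw [pow_two, pow_two, pow_two]
        calc t0 * d * (t0 * d) = t0 * (d * t0) * d := by group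
          _ = t0 * (t0 * d) * d := by rw [h3]
          _ = t0 * t0 * (d * d) := by group
      rw [h1, hd, mul_inv_cancel]
  choose! t ht using hinv
  obtain ⟨i0, hi0⟩ : ∃ i0 : Fin (k + 1), i0.val = 0 := ⟨⟨0, by omega⟩, rfl⟩
  obtain ⟨i2, hi2⟩ : ∃ i2 : Fin (k + 1), i2.val = 2 := ⟨⟨2, by omega⟩, rfl⟩
  have ht2 := ht i2 (by omega)
  obtain ⟨a0, ha0⟩ := hπ (x k i0)
  have hx : x k i2 * x k i0 * (x k i2)⁻¹ = (x k i0)⁻¹ := by
    have h1 := x_far k i0 i2 (by omega)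
    have h2 := x_sq k i2 (by omega)
    have h3 : (x k i2)⁻¹ = x k i2 :=
      inv_eq_of_mul_eq_one_right (by rw [← pow_two]; exact h2)
    rw [h3, eq_inv_iff_mul_eq_one]
    rw [pow_two] at h1
    calc x k i2 * x k i0 * x k i2 * x k i0
        = (x k i0)⁻¹ * (x k i0 * x k i2 * (x k i0 * x k i2)) * x k i0 := by group
      _ = 1 := by rw [h1]; group
  have hηK : a0 * (t i2 * a0 * (t i2)⁻¹) ∈ π.ker := by
    rw [MonoidHom.mem_ker, map_mul, map_mul, map_mul, map_inv, ha0, ht2.1, hx, mul_inv_cancel]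
  obtain ⟨d, hdK, hd⟩ := hroot (a0 * (t i2 * a0 * (t i2)⁻¹))⁻¹ (inv_mem hηK)
  have hy0π : π (a0 * d) = x k i0 := by
    rw [map_mul, ha0, MonoidHom.mem_ker.mp hdK, mul_one]
  have hconj : t i2 * (a0 * d) * (t i2)⁻¹ = (a0 * d)⁻¹ := by
    have hdc := hcomm d hdK
    have hηc := hcomm _ hηK
    rw [eq_inv_iff_mul_eq_one]
    have e1 : t i2 * (a0 * d) * (t i2)⁻¹ * (a0 * d) =
        (t i2 * a0 * (t i2)⁻¹ * a0) * (d * d) := by
      have h1 := hdc (t i2)⁻¹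
      have h2 := hdc a0
      calc t i2 * (a0 * d) * (t i2)⁻¹ * (a0 * d)
          = t i2 * a0 * (d * (t i2)⁻¹) * a0 * d := by group
        _ = t i2 * a0 * ((t i2)⁻¹ * d) * a0 * d := by rw [h1]
        _ = t i2 * a0 * (t i2)⁻¹ * (d * a0) * d := by group
        _ = t i2 * a0 * (t i2)⁻¹ * (a0 * d) * d := by rw [h2]
        _ = (t i2 * a0 * (t i2)⁻¹ * a0) * (d * d) := by group
    have e2 : t i2 * a0 * (t i2)⁻¹ * a0 = a0 * (t i2 * a0 * (t i2)⁻¹) := by
      have h3 := hηc a0⁻¹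
      calc t i2 * a0 * (t i2)⁻¹ * a0
          = a0⁻¹ * (a0 * (t i2 * a0 * (t i2)⁻¹)) * a0 := by group
        _ = (a0 * (t i2 * a0 * (t i2)⁻¹)) * a0⁻¹ * a0 := by rw [← h3]
        _ = a0 * (t i2 * a0 * (t i2)⁻¹) := by group
    rw [e1, e2, ← pow_two, hd, mul_inv_cancel]
  have hcube : (a0 * d) ^ 3 = 1 := by
    have hcK : (a0 * d) ^ 3 ∈ π.ker := by
      rw [MonoidHom.mem_ker, map_pow, hy0π, x_cube k i0 hi0]
    apply hsq1 _ hcK
    have h1 : t i2 * (a0 * d) ^ 3 * (t i2)⁻¹ = ((a0 * d) ^ 3)⁻¹ := by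
      rw [← conj_pow, hconj, inv_pow]
    have h2 : t i2 * (a0 * d) ^ 3 * (t i2)⁻¹ = (a0 * d) ^ 3 := by
      have h3 := hcomm _ hcK (t i2)
      rw [← h3]
      exact mul_inv_cancel_right _ _
    rw [h2] at h1
    rw [pow_two]
    calc (a0 * d) ^ 3 * (a0 * d) ^ 3 = (a0 * d) ^ 3 * ((a0 * d) ^ 3)⁻¹ := by rw [← h1]
      _ = 1 := mul_inv_cancel _
  obtain ⟨y, hy⟩ : ∃ y : Fin (k + 1) → Γ, ∀ i, y i = if i.val = 0 then a0 * d else t i :=
    ⟨_, fun _ => rfl⟩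
  refine ⟨y, ?_, ?_, ?_, ?_⟩
  · intro i
    by_cases hi : i.val = 0
    · have hii : i = i0 := Fin.ext (by omega)
      rw [hy, if_pos hi, hii]
      exact hy0π
    · rw [hy, if_neg hi]
      exact (ht i (by omega)).1
  · intro i hi
    rw [hy, if_pos hi]
    exact hcube
  · intro i hi
    have hi' : ¬ i.val = 0 := by omega
    rw [hy, if_neg hi']
    exact (ht i hi).2
  · intro i j hi hj
    have hjj : j = i2 := Fin.ext (by omega)
    have hj' : ¬ j.val = 0 := by omega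
    rw [hy i, hy j, if_pos hi, if_neg hj', hjj]
    exact hconj

end Cfsg.Agent.Lib.helper70.SM
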