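import Mathlib
import Cfsg.Agent.Lib.helper49.SPEDefs
import Cfsg.Agent.Lib.helper49.SPEPBIL

/-! S2333 piece PIND (helper31, racer copy): a pair with non-zero polar value is independent. -/

set_option autoImplicit false

namespace Cfsg.Agent.Lib.helper49.SPE

open Matrix

/-- PIND (S), racer copy -/
theorem h31_indep_of_polar {F : Type*} [Field F] {n : ℕ} (h2 : (2 : F) = 0) (Q : (Fin n → F) → F)
    (hQ : IsQF Q) (u v : Fin n → F) (h : polar Q u v ≠ 0) : Indep u v := by
  obtain ⟨hadd, hsm, hsymm, -, hdiag⟩ := polar_bilin Q hQ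
  have h0 : ∀ w, polar Q 0 w = 0 := by
    intro w
    have := hsm 0 u w
    rwa [zero_smul, zero_mul] at this
  intro s t hst
  have h1 : polar Q (s • u + t • v) v = s * polar Q u v := by
    rw [hadd, hsm, hsm, hdiag, h2, zero_mul, mul_zero, add_zero]
  have h1' : polar Q (s • u + t • v) u = t * polar Q u v := by
    rw [hadd, hsm, hsm, hdiag, h2, zero_mul, mul_zero, zero_add, hsymm v u]
  rw [hst, h0] at h1 h1'
  constructor
  · rcases mul_eq_zero.1 h1.symm with h' | h'
    · exact h'
    · exact absurd h' h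
  · rcases mul_eq_zero.1 h1'.symm with h' | h'
    · exact h'
    · exact absurd h' h

end Cfsg.Agent.Lib.helper49.SPE
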