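import Mathlib
import Cfsg.Agent.Lib.helper45.SVDefs

/-! S2425 piece HOM1 (helper31): the number of intertwining maps between two simple modules of
an endomorphism over a finite field. -/

set_option autoImplicit false

namespace Cfsg.Agent.Lib.helper45.SV

open Polynomial

/-- In a simple module, a polynomial in `S` killing a nonzero vector is zero. -/
theorem h31_hom1_aeval_eq_zero {F : Type*} [Field F] {M : Type*} [AddCommGroup M] [Module F M]
    (S : Module.End F M)
    (hS : ∀ U : Submodule F M, (∀ v ∈ U, S v ∈ U) → U = ⊥ ∨ U = ⊤)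
    (v₀ : M) (hv₀ : v₀ ≠ 0) (p : F[X]) (h : (aeval S p) v₀ = 0) : aeval S p = 0 := by
  have hcomm : aeval S p * S = S * aeval S p := by
    have h1 : aeval S (p * X) = aeval S (X * p) := by rw [mul_comm]
    simpa only [map_mul, aeval_X] using h1
  have hinv : ∀ v ∈ LinearMap.ker (aeval S p), S v ∈ LinearMap.ker (aeval S p) := by
    intro v hv
    rw [LinearMap.mem_ker] at hv ⊢
    have hc : (aeval S p) (S v) = S ((aeval S p) v) := by
      have := congrArg (fun T : Module.End F M => T v) hcomm
      simpa only [Module.End.mul_apply] using this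
    rw [hc, hv, map_zero]
  rcases hS _ hinv with hk | hk
  · exfalso
    have : v₀ ∈ LinearMap.ker (aeval S p) := LinearMap.mem_ker.2 h
    rw [hk] at this
    exact hv₀ ((Submodule.mem_bot F).1 this)
  · exact LinearMap.ker_eq_top.1 hk

/-- A simple module is cyclic, generated by any nonzero vector. -/
theorem h31_hom1_cyclic {F : Type*} [Field F] {M : Type*} [AddCommGroup M] [Module F M]
    (S : Module.End F M)
    (hS : ∀ U : Submodule F M, (∀ v ∈ U, S v ∈ U) → U = ⊥ ∨ U = ⊤)
    (v₀ : M) (hv₀ : v₀ ≠ 0) (m : M) : ∃ p : F[X], (aeval S p) v₀ = m := by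
  let ev : F[X] →ₗ[F] M :=
    { toFun := fun p => (aeval S p) v₀
      map_add' := fun p q => by rw [map_add, LinearMap.add_apply]
      map_smul' := fun c p => by rw [map_smul, LinearMap.smul_apply, RingHom.id_apply] }
  have hev : ∀ p, ev p = (aeval S p) v₀ := fun p => rfl
  have hinv : ∀ v ∈ LinearMap.range ev, S v ∈ LinearMap.range ev := by
    rintro _ ⟨p, rfl⟩
    refine ⟨X * p, ?_⟩
    rw [hev, hev, map_mul, aeval_X, Module.End.mul_apply]
  rcases hS _ hinv with hk | hk
  · exfalso
    have : v₀ ∈ LinearMap.range ev := ⟨1, by rw [hev, map_one, Module.End.one_apply]⟩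
    rw [hk] at this
    exact hv₀ ((Submodule.mem_bot F).1 this)
  · have : m ∈ LinearMap.range ev := by rw [hk]; exact Submodule.mem_top
    obtain ⟨p, hp⟩ := this
    exact ⟨p, hp⟩

/-- For a simple module the characteristic polynomial is the minimal polynomial. -/
theorem h31_hom1_charpoly_eq_minpoly {F : Type*} [Field F] {M : Type*} [AddCommGroup M]
    [Module F M] [Module.Finite F M] (S : Module.End F M) (hM : Nontrivial M)
    (hS : ∀ U : Submodule F M, (∀ v ∈ U, S v ∈ U) → U = ⊥ ∨ U = ⊤) :
    S.charpoly = minpoly F S := by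
  obtain ⟨v₀, hv₀⟩ := exists_ne (0 : M)
  have hint : IsIntegral F S := LinearMap.isIntegral S
  have hmonic := minpoly.monic hint
  have hle : Module.finrank F M ≤ (minpoly F S).natDegree := by
    let ev : degreeLT F (minpoly F S).natDegree →ₗ[F] M :=
      { toFun := fun p => (aeval S (p : F[X])) v₀
        map_add' := fun p q => by
          rw [Submodule.coe_add, map_add, LinearMap.add_apply]
        map_smul' := fun c p => by
          rw [Submodule.coe_smul, map_smul, LinearMap.smul_apply, RingHom.id_apply] }
    have hsurj : Function.Surjective ev := by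
      intro m
      obtain ⟨p, hp⟩ := h31_hom1_cyclic S hS v₀ hv₀ m
      have hmem : p %ₘ minpoly F S ∈ degreeLT F (minpoly F S).natDegree := by
        rw [mem_degreeLT]
        have := degree_modByMonic_lt p hmonic
        rwa [degree_eq_natDegree hmonic.ne_zero] at this
      refine ⟨⟨p %ₘ minpoly F S, hmem⟩, ?_⟩
      show (aeval S (p %ₘ minpoly F S)) v₀ = m
      rw [aeval_modByMonic_eq_self_of_root (minpoly.aeval F S), hp]
    have h1 := LinearMap.finrank_le_finrank_of_surjective hsurj
    have h2 : Module.finrank F (degreeLT F (minpoly F S).natDegree) = (minpoly F S).natDegree := by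
      rw [(degreeLTEquiv F (minpoly F S).natDegree).finrank_eq, Module.finrank_fin_fun]
    rwa [h2] at h1
  have hdvd := LinearMap.minpoly_dvd_charpoly S
  have hdeg : S.charpoly.natDegree = Module.finrank F M := LinearMap.charpoly_natDegree S
  exact Polynomial.eq_of_monic_of_dvd_of_natDegree_le hmonic (LinearMap.charpoly_monic S) hdvd
    (by rw [hdeg]; exact hle)

open Classical in
/-- HOM1 (L). -/
theorem card_hom_simple_simple {F : Type*} [Field F] [Fintype F] {M N : Type*} [AddCommGroup M]
    [Module F M] [Finite M] [AddCommGroup N] [Module F N] [Finite N]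
    (S : Module.End F M) (hM : Nontrivial M)
    (hS : ∀ U : Submodule F M, (∀ v ∈ U, S v ∈ U) → U = ⊥ ∨ U = ⊤)
    (R : Module.End F N) (hN : Nontrivial N)
    (hR : ∀ U : Submodule F N, (∀ v ∈ U, R v ∈ U) → U = ⊥ ∨ U = ⊤) :
    Nat.card {φ : M →ₗ[F] N // ∀ m, φ (S m) = R (φ m)} =
      if S.charpoly = R.charpoly then Fintype.card F ^ Module.finrank F N else 1 := by
  classical
  obtain ⟨v₀, hv₀⟩ := exists_ne (0 : M)
  have hinj : ∀ φ ψ : {φ : M →ₗ[F] N // ∀ m, φ (S m) = R (φ m)}, φ.1 v₀ = ψ.1 v₀ → φ = ψ := by
    intro φ ψ h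
    apply Subtype.ext
    have hinv : ∀ v ∈ LinearMap.ker (φ.1 - ψ.1), S v ∈ LinearMap.ker (φ.1 - ψ.1) := by
      intro v hv
      rw [LinearMap.mem_ker, LinearMap.sub_apply] at hv ⊢
      rw [φ.2, ψ.2, ← map_sub, hv, map_zero]
    rcases hS _ hinv with hk | hk
    · exfalso
      have : v₀ ∈ LinearMap.ker (φ.1 - ψ.1) := by
        rw [LinearMap.mem_ker, LinearMap.sub_apply, h, sub_self]
      rw [hk] at this
      exact hv₀ ((Submodule.mem_bot F).1 this)
    · exact sub_eq_zero.1 (LinearMap.ker_eq_top.1 hk)
  split_ifs with hchar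
  · have hmin : minpoly F S = minpoly F R := by
      rw [← h31_hom1_charpoly_eq_minpoly S hM hS, ← h31_hom1_charpoly_eq_minpoly R hN hR, hchar]
    have hsurj : ∀ w : N, ∃ φ : {φ : M →ₗ[F] N // ∀ m, φ (S m) = R (φ m)}, φ.1 v₀ = w := by
      intro w
      let evM : F[X] →ₗ[F] M :=
        { toFun := fun p => (aeval S p) v₀
          map_add' := fun p q => by rw [map_add, LinearMap.add_apply]
          map_smul' := fun c p => by rw [map_smul, LinearMap.smul_apply, RingHom.id_apply] }
      let evN : F[X] →ₗ[F] N :=
        { toFun := fun p => (aeval R p) w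
          map_add' := fun p q => by rw [map_add, LinearMap.add_apply]
          map_smul' := fun c p => by rw [map_smul, LinearMap.smul_apply, RingHom.id_apply] }
      have hevM : ∀ p, evM p = (aeval S p) v₀ := fun p => rfl
      have hevN : ∀ p, evN p = (aeval R p) w := fun p => rfl
      have hrange : LinearMap.range evM = ⊤ := by
        rw [LinearMap.range_eq_top]
        intro m
        obtain ⟨p, hp⟩ := h31_hom1_cyclic S hS v₀ hv₀ m
        exact ⟨p, hp⟩
      obtain ⟨g, hg⟩ := LinearMap.exists_rightInverse_of_surjective evM hrange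
      have hker : ∀ p, evM p = 0 → evN p = 0 := by
        intro p hp
        have h0 := h31_hom1_aeval_eq_zero S hS v₀ hv₀ p hp
        have hd : minpoly F S ∣ p := minpoly.dvd F S h0
        rw [hmin] at hd
        obtain ⟨r, rfl⟩ := hd
        rw [hevN, map_mul, minpoly.aeval, zero_mul, LinearMap.zero_apply]
      have hφ : ∀ p, evN (g (evM p)) = evN p := by
        intro p
        have h1 : evM (g (evM p) - p) = 0 := by
          rw [map_sub]
          have := congrArg (fun T : M →ₗ[F] M => T (evM p)) hg
          simp only [LinearMap.comp_apply, LinearMap.id_apply] at this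
          rw [this, sub_self]
        have h2 := hker _ h1
        rw [map_sub, sub_eq_zero] at h2
        exact h2
      refine ⟨⟨evN ∘ₗ g, ?_⟩, ?_⟩
      · intro m
        obtain ⟨p, rfl⟩ := h31_hom1_cyclic S hS v₀ hv₀ m
        have hS' : S ((aeval S p) v₀) = evM (X * p) := by
          rw [hevM, map_mul, aeval_X, Module.End.mul_apply]
        rw [LinearMap.comp_apply, LinearMap.comp_apply, hS', ← hevM p, hφ, hφ, hevN, hevN,
          map_mul, aeval_X, Module.End.mul_apply]
      · show evN (g v₀) = w
        have h1 : v₀ = evM 1 := by rw [hevM, map_one, Module.End.one_apply]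
        rw [h1, hφ, hevN, map_one, Module.End.one_apply]
    have hbij : Function.Bijective
        (fun φ : {φ : M →ₗ[F] N // ∀ m, φ (S m) = R (φ m)} => φ.1 v₀) :=
      ⟨fun φ ψ h => hinj φ ψ h, hsurj⟩
    rw [Nat.card_eq_of_bijective _ hbij, Module.natCard_eq_pow_finrank (K := F) (V := N),
      Nat.card_eq_fintype_card]
  · have hzero : ∀ φ : {φ : M →ₗ[F] N // ∀ m, φ (S m) = R (φ m)}, φ.1 = 0 := by
      intro φ
      by_contra hne
      have hker : LinearMap.ker φ.1 = ⊥ := by
        have hinv : ∀ v ∈ LinearMap.ker φ.1, S v ∈ LinearMap.ker φ.1 := by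
          intro v hv
          rw [LinearMap.mem_ker] at hv ⊢
          rw [φ.2, hv, map_zero]
        rcases hS _ hinv with hk | hk
        · exact hk
        · exact absurd (LinearMap.ker_eq_top.1 hk) hne
      have hrange : LinearMap.range φ.1 = ⊤ := by
        have hinv : ∀ v ∈ LinearMap.range φ.1, R v ∈ LinearMap.range φ.1 := by
          rintro _ ⟨m, rfl⟩
          exact ⟨S m, φ.2 m⟩
        rcases hR _ hinv with hk | hk
        · exact absurd (LinearMap.range_eq_bot.1 hk) hne
        · exact hk
      let e : M ≃ₗ[F] N := LinearEquiv.ofBijective φ.1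
        ⟨LinearMap.ker_eq_bot.1 hker, LinearMap.range_eq_top.1 hrange⟩
      have hconj : e.conj S = R := by
        apply LinearMap.ext
        intro n
        rw [LinearEquiv.conj_apply_apply]
        show φ.1 (S (e.symm n)) = R n
        rw [φ.2]
        congr 1
        exact e.apply_symm_apply n
      exact hchar (by rw [← hconj, LinearEquiv.charpoly_conj])
    rw [Nat.card_eq_one_iff_unique]
    exact ⟨⟨fun a b => Subtype.ext ((hzero a).trans (hzero b).symm)⟩,
      ⟨⟨0, fun m => by simp⟩⟩⟩

end Cfsg.Agent.Lib.helper45.SV
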