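import Mathlib
import Cfsg.Prelude.Def_Classical
import Cfsg.Prelude.Def_GeometricClasses

/-!
S5977 / S5978 block [A] (architect helper59), leaf ZPM (`sfk_z`), by helper31.
-/

set_option autoImplicit false

namespace Cfsg.Agent.Lib.helper59.Sfk

open Matrix Cfsg.Geo

/-- ZPM (S/M): an isometry with scalar square `z`, not itself scalar, has `z = ±1`. -/
theorem sfk_z {F : Type*} [Field F] {ι : Type} [Fintype ι] [DecidableEq ι]
    (h2 : (2 : F) ≠ 0) (Q : QuadraticForm F (ι → F))
    (hQ : (QuadraticMap.polarBilin Q).Nondegenerate)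
    (x : GL ι F) (hx : x ∈ Cfsg.isometryGroup F (⇑Q)) (z : F)
    (hxz : (x : Matrix ι ι F) * (x : Matrix ι ι F) = z • (1 : Matrix ι ι F))
    (hns : ∀ c : F, (x : Matrix ι ι F) ≠ c • (1 : Matrix ι ι F)) : z = 1 ∨ z = -1 := by
  classical
  have hne : Nonempty ι := by
    by_contra hemp
    rw [not_nonempty_iff] at hemp
    exact hns 0 (Subsingleton.elim _ _)
  obtain ⟨i0⟩ := hne
  have hex : ∃ v : ι → F, Q v ≠ 0 := by
    by_contra hcon
    push_neg at hcon
    have hz := hQ.1 (Pi.single i0 1) (fun w => by simp [QuadraticMap.polar, hcon])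
    have h0 := congrFun hz i0
    simp at h0
  obtain ⟨v, hv⟩ := hex
  have hiso : ∀ u : ι → F, Q ((x : Matrix ι ι F) *ᵥ u) = Q u := fun u => hx u u
  have h1 : Q ((x : Matrix ι ι F) *ᵥ ((x : Matrix ι ι F) *ᵥ v)) = Q v := by rw [hiso, hiso]
  rw [Matrix.mulVec_mulVec, hxz, Matrix.smul_mulVec, Matrix.one_mulVec, QuadraticMap.map_smul,
    smul_eq_mul] at h1
  have h3 : z * z = 1 := by
    have : (z * z - 1) * Q v = 0 := by rw [sub_mul, h1, one_mul, sub_self]
    rcases mul_eq_zero.mp this with h | h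
    · exact sub_eq_zero.mp h
    · exact absurd h hv
  exact mul_self_eq_one_iff.mp h3

end Cfsg.Agent.Lib.helper59.Sfk
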