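import Mathlib
import Cfsg.Agent.Lib.helper24.SfoDefs
import Cfsg.Agent.Lib.helper57.SfoBINCNT

/-! S5981 piece CNTDE (helper31): number of solutions of a diagonal quadratic equation in an
even number of variables over a finite field of odd characteristic. -/

set_option autoImplicit false

namespace Cfsg.Agent.Lib.helper24

open Module Matrix Cfsg.Geo

/-- splitting off the first variable -/
theorem h31_cntde_step1 {F : Type*} [Field F] [Fintype F] [DecidableEq F] {n : ℕ}
    (d : Fin (n + 1) → F) (c : F) :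
    (Finset.univ.filter (fun x : Fin (n + 1) → F => ∑ j, d j * x j ^ 2 = c)).card =
      ∑ a : F, (Finset.univ.filter (fun y : Fin n → F =>
        ∑ j, d j.succ * y j ^ 2 = c - d 0 * a ^ 2)).card := by
  have key : ∀ (a : F) (y : Fin n → F),
      (∑ j, d j * (Fin.cons a y : Fin (n + 1) → F) j ^ 2 = c) ↔
        (∑ j, d j.succ * y j ^ 2 = c - d 0 * a ^ 2) := by
    intro a y
    rw [Fin.sum_univ_succ]
    simp only [Fin.cons_zero, Fin.cons_succ]
    constructor
    · intro h; rw [← h]; ring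
    · intro h; rw [h]; ring
  rw [Finset.card_filter]
  rw [← Fintype.sum_equiv (Fin.consEquiv (fun _ : Fin (n + 1) => F))
    (fun p : F × (Fin n → F) =>
      if ∑ j, d j * (Fin.cons p.1 p.2 : Fin (n + 1) → F) j ^ 2 = c then 1 else 0)
    (fun x : Fin (n + 1) → F => if ∑ j, d j * x j ^ 2 = c then 1 else 0)
    (fun p => rfl)]
  rw [Fintype.sum_prod_type]
  refine Finset.sum_congr rfl fun a _ => ?_
  rw [Finset.card_filter]
  exact Finset.sum_congr rfl fun y _ => if_congr (key a y) rfl rfl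

/-- splitting off the first two variables -/
theorem h31_cntde_step2 {F : Type*} [Field F] [Fintype F] [DecidableEq F] {m : ℕ}
    (d : Fin (m + 2) → F) (c : F) :
    (Finset.univ.filter (fun x : Fin (m + 2) → F => ∑ j, d j * x j ^ 2 = c)).card =
      ∑ t : F, (Finset.univ.filter (fun p : F × F => d 0 * p.1 ^ 2 + d 1 * p.2 ^ 2 = t)).card *
        (Finset.univ.filter (fun y : Fin m → F => ∑ j, d j.succ.succ * y j ^ 2 = c - t)).card := by
  calc (Finset.univ.filter (fun x : Fin (m + 2) → F => ∑ j, d j * x j ^ 2 = c)).card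
      = ∑ a : F, (Finset.univ.filter (fun y : Fin (m + 1) → F =>
          ∑ j, d j.succ * y j ^ 2 = c - d 0 * a ^ 2)).card := h31_cntde_step1 d c
    _ = ∑ a : F, ∑ b : F, (Finset.univ.filter (fun y : Fin m → F =>
          ∑ j, d j.succ.succ * y j ^ 2 = c - d 0 * a ^ 2 - d 1 * b ^ 2)).card := by
        refine Finset.sum_congr rfl fun a _ => ?_
        have h := h31_cntde_step1 (fun j : Fin (m + 1) => d j.succ) (c - d 0 * a ^ 2)
        simp only [Fin.succ_zero_eq_one] at h
        exact h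
    _ = ∑ p : F × F, (Finset.univ.filter (fun y : Fin m → F =>
          ∑ j, d j.succ.succ * y j ^ 2 = c - (d 0 * p.1 ^ 2 + d 1 * p.2 ^ 2))).card := by
        rw [Fintype.sum_prod_type]
        refine Finset.sum_congr rfl fun a _ => Finset.sum_congr rfl fun b _ => ?_
        rw [sub_sub]
    _ = ∑ t : F, (Finset.univ.filter (fun p : F × F => d 0 * p.1 ^ 2 + d 1 * p.2 ^ 2 = t)).card *
          (Finset.univ.filter (fun y : Fin m → F => ∑ j, d j.succ.succ * y j ^ 2 = c - t)).card := by
        rw [← Finset.sum_fiberwise (s := Finset.univ)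
          (g := fun p : F × F => d 0 * p.1 ^ 2 + d 1 * p.2 ^ 2)]
        refine Finset.sum_congr rfl fun t _ => ?_
        rw [Finset.card_eq_sum_ones, Finset.sum_mul]
        refine Finset.sum_congr rfl fun p hp => ?_
        rw [(Finset.mem_filter.1 hp).2, one_mul]

/-- the fibres of a function on `F^m` partition `F^m` -/
theorem h31_cntde_total {F : Type*} [Field F] [Fintype F] [DecidableEq F] {m : ℕ}
    (d : Fin m → F) (c : F) :
    ∑ t : F, (Finset.univ.filter (fun y : Fin m → F => ∑ j, d j * y j ^ 2 = c - t)).card =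
      Fintype.card F ^ m := by
  have h1 : ∑ t : F, (Finset.univ.filter (fun y : Fin m → F => ∑ j, d j * y j ^ 2 = c - t)).card =
      ∑ s : F, (Finset.univ.filter (fun y : Fin m → F => ∑ j, d j * y j ^ 2 = s)).card :=
    (Equiv.subLeft c).sum_comp
      (fun s : F => (Finset.univ.filter (fun y : Fin m → F => ∑ j, d j * y j ^ 2 = s)).card)
  rw [h1, ← Finset.card_eq_sum_card_fiberwise (f := fun y : Fin m → F => ∑ j, d j * y j ^ 2)
    (s := Finset.univ) (t := Finset.univ) (fun _ _ => Finset.mem_univ _)]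
  rw [Finset.card_univ, Fintype.card_fun, Fintype.card_fin]

/-- the induction, with the factor `q` cleared -/
theorem h31_cntde_main {F : Type*} [Field F] [Fintype F] [DecidableEq F] (h2 : (2 : F) ≠ 0)
    (k : ℕ) : ∀ (n : ℕ), n = 2 * k → ∀ (d : Fin n → F), (∀ j, d j ≠ 0) →
    ∃ ε : ℤ, (ε = 1 ∨ ε = -1) ∧ (k = 0 → ε = 1) ∧ ∀ c : F, c ≠ 0 →
      (Fintype.card F : ℤ) *
        ((Finset.univ.filter (fun x : Fin n → F => ∑ j, d j * x j ^ 2 = c)).card : ℤ) =
        (Fintype.card F : ℤ) ^ k * ((Fintype.card F : ℤ) ^ k - ε) := by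
  induction k with
  | zero =>
    intro n hn d hd
    have hn0 : n = 0 := by omega
    subst hn0
    refine ⟨1, Or.inl rfl, fun _ => rfl, fun c hc => ?_⟩
    have : (Finset.univ.filter (fun x : Fin 0 → F => ∑ j, d j * x j ^ 2 = c)) = ∅ := by
      apply Finset.filter_eq_empty_iff.2
      intro x _ h
      apply hc
      rw [← h]
      exact Fin.sum_univ_zero _
    rw [this]
    simp
  | succ k ih =>
    intro n hn d hd
    obtain ⟨m, rfl⟩ : ∃ m, n = m + 2 := ⟨2 * k, by omega⟩
    have hm : m = 2 * k := by omega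
    obtain ⟨e, he, hB, hB0⟩ := sfo_bin_count h2 (d 0) (d 1) (hd 0) (hd 1)
    obtain ⟨ε, hε, -, hN⟩ := ih m hm (fun j : Fin m => d j.succ.succ) (fun j => hd _)
    refine ⟨e * ε, ?_, fun h => absurd h (Nat.succ_ne_zero k), fun c hc => ?_⟩
    · rcases he with rfl | rfl <;> rcases hε with rfl | rfl <;> simp
    rw [h31_cntde_step2 d c]
    push_cast
    have hBt : ∀ t : F,
        ((Finset.univ.filter (fun p : F × F => d 0 * p.1 ^ 2 + d 1 * p.2 ^ 2 = t)).card : ℤ) =
          ((Fintype.card F : ℤ) - e) + if t = 0 then (Fintype.card F : ℤ) * e else 0 := by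
      intro t
      by_cases ht : t = 0
      · subst ht
        rw [hB0, if_pos rfl]; ring
      · rw [hB t ht, if_neg ht, add_zero]
    have htot := h31_cntde_total (fun j : Fin m => d j.succ.succ) c
    have htot' : ∑ t : F, ((Finset.univ.filter
        (fun y : Fin m → F => ∑ j, d j.succ.succ * y j ^ 2 = c - t)).card : ℤ) =
        (Fintype.card F : ℤ) ^ m := by
      exact_mod_cast htot
    have hsum : ∑ t : F, ((Finset.univ.filter
        (fun p : F × F => d 0 * p.1 ^ 2 + d 1 * p.2 ^ 2 = t)).card : ℤ) *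
        ((Finset.univ.filter (fun y : Fin m → F => ∑ j, d j.succ.succ * y j ^ 2 = c - t)).card : ℤ) =
        ((Fintype.card F : ℤ) - e) * (Fintype.card F : ℤ) ^ m + (Fintype.card F : ℤ) * e *
          ((Finset.univ.filter (fun y : Fin m → F => ∑ j, d j.succ.succ * y j ^ 2 = c)).card : ℤ) := by
      simp only [hBt, add_mul, Finset.sum_add_distrib, ← Finset.mul_sum, htot', ite_mul, zero_mul]
      rw [Finset.sum_ite_eq' Finset.univ (0 : F)]
      simp
    rw [hsum]
    have hNc := hN c hc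
    subst hm
    calc (Fintype.card F : ℤ) * (((Fintype.card F : ℤ) - e) * (Fintype.card F : ℤ) ^ (2 * k) +
          (Fintype.card F : ℤ) * e * ((Finset.univ.filter
            (fun y : Fin (2 * k) → F => ∑ j, d j.succ.succ * y j ^ 2 = c)).card : ℤ))
        = ((Fintype.card F : ℤ) - e) * (Fintype.card F : ℤ) ^ (2 * k + 1) +
          (Fintype.card F : ℤ) * e * ((Fintype.card F : ℤ) * ((Finset.univ.filter
            (fun y : Fin (2 * k) → F => ∑ j, d j.succ.succ * y j ^ 2 = c)).card : ℤ)) := by ring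
      _ = ((Fintype.card F : ℤ) - e) * (Fintype.card F : ℤ) ^ (2 * k + 1) +
          (Fintype.card F : ℤ) * e * ((Fintype.card F : ℤ) ^ k * ((Fintype.card F : ℤ) ^ k - ε)) := by
        rw [hNc]
      _ = (Fintype.card F : ℤ) ^ (k + 1) * ((Fintype.card F : ℤ) ^ (k + 1) - e * ε) := by ring

/-- CNTDE -/
theorem sfo_count_diag_even {F : Type*} [Field F] [Fintype F] [DecidableEq F] (h2 : (2 : F) ≠ 0)
    (k : ℕ) (d : Fin (2 * k) → F) (hd : ∀ j, d j ≠ 0) :
    ∃ ε : ℤ, (ε = 1 ∨ ε = -1) ∧ ∀ c : F, c ≠ 0 →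
      ((Finset.univ.filter (fun x : Fin (2 * k) → F => ∑ j, d j * x j ^ 2 = c)).card : ℤ) =
        (Fintype.card F : ℤ) ^ (k - 1) * ((Fintype.card F : ℤ) ^ k - ε) := by
  obtain ⟨ε, hε, hk0, hN⟩ := h31_cntde_main h2 k (2 * k) rfl d hd
  refine ⟨ε, hε, fun c hc => ?_⟩
  have hq : (Fintype.card F : ℤ) ≠ 0 := by
    exact_mod_cast (Fintype.card_ne_zero : Fintype.card F ≠ 0)
  apply mul_left_cancel₀ hq
  rw [hN c hc]
  rcases Nat.eq_zero_or_pos k with hk | hk
  · have := hk0 hk
    subst hk
    subst this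
    simp
  · obtain ⟨k', rfl⟩ : ∃ k', k = k' + 1 := ⟨k - 1, by omega⟩
    simp only [Nat.add_sub_cancel]
    ring

end Cfsg.Agent.Lib.helper24
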