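import Mathlib
import Cfsg.Agent.Lib.helper24.StsDefs
import Cfsg.Agent.Lib.helper24.SroReal
import Cfsg.Agent.Lib.helper42.FormsNondeg
import Cfsg.Agent.Lib.helper45.OPrimeOrder
import Cfsg.Agent.Lib.helper45.OEven
import Cfsg.Agent.Lib.helper25.SreEXT
import Cfsg.Agent.Lib.helper4.StpWITT

/-! S5987 split, piece MR2A (`stm_inv_suff`), written by helper31 (auxiliaries carry the prefix
`h31_`; nothing is declared in `namespace Cfsg.Agent.Lib.helper31`, the architect's namespace is
mandated).  `q` odd: an involutory isometry of the minus form of dimension `2d` fixes a totally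
singular `m`-space for every `m ≤ d - 1`: the eigenspaces `E₊ = ker (x - 1)` and
`E₋ = range (x - 1)` are nondegenerate, orthogonal and complementary, and their Witt indices add
up to `d - 1`. -/

set_option autoImplicit false
set_option linter.unusedSectionVars false
set_option linter.unusedVariables false

namespace Cfsg.Agent.Lib.helper24

open Module Cfsg.Agent.Lib.helper45 Cfsg.Agent.Lib.helper49

universe u

section stmmr2a

/-- `2 ≠ 0` in a finite field of odd order. -/
theorem h31_two_ne_zero {F : Type*} [Field F] [Fintype F] (hodd : Odd (Fintype.card F)) :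
    (2 : F) ≠ 0 := by
  intro h
  have hdvd : ringChar F ∣ 2 := by
    apply ringChar.dvd
    exact_mod_cast h
  have hne : ringChar F ≠ 1 := CharP.ringChar_ne_one
  have h2 : ringChar F = 2 := by
    rcases (Nat.dvd_prime Nat.prime_two).mp hdvd with h1 | h1
    · exact absurd h1 hne
    · exact h1
  have := FiniteField.even_card_of_char_two h2
  have := Nat.odd_iff.mp hodd
  omega

variable {F : Type u} [Field F] [Fintype F]

/-- An involutory isometry of a nondegenerate quadratic space of dimension `2d` and type `-1`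
(odd characteristic) leaves invariant a totally singular subspace of every dimension
`m ≤ d - 1`. -/
theorem h31_inv_ts {V : Type u} [AddCommGroup V] [Module F V] [FiniteDimensional F V]
    (Q : QuadraticForm F V) (hnd : ∀ v, (∀ w, QuadraticMap.polar Q v w = 0) → v = 0)
    (h2 : (2 : F) ≠ 0) (T : Module.End F V) (hT : ∀ v, Q (T v) = Q v) (hTsq : T ^ 2 = 1)
    (d : ℕ) (hdim : finrank F V = 2 * d) (hty : SrTy Q ⊤ (-1)) (m : ℕ) (hmd : m + 1 ≤ d) :
    ∃ W : Submodule F V, finrank F W = m ∧ (∀ w ∈ W, Q w = 0) ∧ ∀ w ∈ W, T w ∈ W := by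
  classical
  have h2F : ((2 : ℕ) : F) ≠ 0 := by exact_mod_cast h2
  have hK : SpNd (QuadraticMap.polarBilin Q) (LinearMap.ker (T - 1)) :=
    sr_K_nd Q hnd T hT 2 hTsq h2F
  have hR : SpNd (QuadraticMap.polarBilin Q) (LinearMap.range (T - 1)) :=
    sr_R_nd Q hnd T hT 2 hTsq h2F
  have horth := sr_KR_orth Q T hT
  have hdis := sr_KR_bot T 2 hTsq h2F
  have hsup := sp_fix_range_top T 2 hTsq h2F
  have hrn := LinearMap.finrank_range_add_finrank_ker (T - 1)
  rw [hdim] at hrn
  have hTT : ∀ y, T (T y) = y := by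
    intro y
    have h1 := congrArg (fun L : Module.End F V => L y) hTsq
    simp only [pow_two, Module.End.mul_apply, Module.End.one_apply] at h1
    exact h1
  -- gluing a totally singular subspace of `E₊` and one of `E₋`
  have hcomb : ∀ (A B : Submodule F V), A ≤ LinearMap.ker (T - 1) →
      B ≤ LinearMap.range (T - 1) → (∀ w ∈ A, Q w = 0) → (∀ w ∈ B, Q w = 0) →
      finrank F A + finrank F B = m →
      ∃ W : Submodule F V, finrank F W = m ∧ (∀ w ∈ W, Q w = 0) ∧ ∀ w ∈ W, T w ∈ W := by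
    intro A B hA hB hAts hBts hsum
    refine ⟨A ⊔ B, ?_, ?_, ?_⟩
    · have h1 := Submodule.finrank_sup_add_finrank_inf_eq A B
      have h3 : A ⊓ B = ⊥ := by
        apply le_bot_iff.mp
        rw [← hdis]
        exact inf_le_inf hA hB
      rw [h3, finrank_bot, add_zero] at h1
      omega
    · intro w hw
      obtain ⟨u, hu, v, hv, rfl⟩ := Submodule.mem_sup.mp hw
      have h1 := horth u (hA hu) v (hB hv)
      have h3 : Q (u + v) = Q u + Q v + QuadraticMap.polar Q u v := by
        unfold QuadraticMap.polar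
        ring
      rw [h3, hAts u hu, hBts v hv, h1, add_zero, add_zero]
    · intro w hw
      obtain ⟨u, hu, v, hv, rfl⟩ := Submodule.mem_sup.mp hw
      have hTu : T u = u := by
        have h5 := hA hu
        rw [LinearMap.mem_ker, LinearMap.sub_apply, Module.End.one_apply, sub_eq_zero] at h5
        exact h5
      have hTv : T v = -v := by
        obtain ⟨y, hy⟩ := hB hv
        rw [LinearMap.sub_apply, Module.End.one_apply] at hy
        rw [← hy, map_sub, hTT]
        abel
      rw [map_add, hTu, hTv]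
      exact Submodule.add_mem _ (Submodule.mem_sup_left hu)
        (Submodule.mem_sup_right (B.neg_mem hv))
  have hbot : ∀ w ∈ (⊥ : Submodule F V), Q w = 0 := by
    intro w hw
    rw [Submodule.mem_bot] at hw
    rw [hw, QuadraticMap.map_zero]
  have hq0 : (0 : ℤ) < (Fintype.card F : ℤ) ^ d := by
    apply pow_pos
    exact_mod_cast Fintype.card_pos
  have hne : ¬ ((1 : ℤ) = -1) := by norm_num
  have hpp : ((-1 : ℤ) = -1) := rfl
  obtain ⟨k, hk⟩ : ∃ k, k = finrank F (LinearMap.ker (T - 1)) := ⟨_, rfl⟩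
  rcases Nat.even_or_odd' k with ⟨s, hs | hs⟩
  · -- even dimensions: the types multiply to `-1`
    have hKdim : finrank F (LinearMap.ker (T - 1)) = 2 * s := by omega
    have hRdim : finrank F (LinearMap.range (T - 1)) = 2 * (d - s) := by omega
    have hprod : ∀ η₁ η₂ : ℤ, SrTy Q (LinearMap.ker (T - 1)) η₁ →
        SrTy Q (LinearMap.range (T - 1)) η₂ → η₁ * η₂ * (Fintype.card F : ℤ) ^ d =
          -1 * (Fintype.card F : ℤ) ^ d := by
      intro η₁ η₂ h1 h3
      have hsum := sr_ty_sum Q (LinearMap.ker (T - 1)) (LinearMap.range (T - 1))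
        horth hdis η₁ η₂ h1 h3 (by rw [hKdim]; exact ⟨s, by ring⟩)
        (by rw [hRdim]; exact ⟨d - s, by ring⟩)
      rw [hsup] at hsum
      have h15 := Unif.unique hsum hty
      rw [finrank_top, hdim, Nat.mul_div_cancel_left _ (by norm_num)] at h15
      exact h15
    rcases sr_ty_or Q _ hK s hKdim with hKty | hKty
    · rcases sr_ty_or Q _ hR (d - s) hRdim with hRty | hRty
      · exfalso
        have h15 := hprod 1 1 hKty hRty
        linarith
      · -- `E₊` of type `+1`, `E₋` of type `-1`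
        by_cases hms : m ≤ s
        · obtain ⟨A, hAK, hAdim, hAts⟩ := stp_witt Q _ hK s hKdim 1 (Or.inl rfl) hKty m
            (by rw [if_neg hne]; omega)
          exact hcomb A ⊥ hAK bot_le hAts hbot (by rw [finrank_bot]; omega)
        · obtain ⟨A, hAK, hAdim, hAts⟩ := stp_witt Q _ hK s hKdim 1 (Or.inl rfl) hKty s
            (by rw [if_neg hne]; omega)
          obtain ⟨B, hBR, hBdim, hBts⟩ := stp_witt Q _ hR (d - s) hRdim (-1) (Or.inr rfl) hRty
            (m - s) (by rw [if_pos hpp]; omega)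
          exact hcomb A B hAK hBR hAts hBts (by omega)
    · rcases sr_ty_or Q _ hR (d - s) hRdim with hRty | hRty
      · -- `E₊` of type `-1`, `E₋` of type `+1`
        by_cases hms : m ≤ d - s
        · obtain ⟨B, hBR, hBdim, hBts⟩ := stp_witt Q _ hR (d - s) hRdim 1 (Or.inl rfl) hRty m
            (by rw [if_neg hne]; omega)
          exact hcomb ⊥ B bot_le hBR hbot hBts (by rw [finrank_bot]; omega)
        · obtain ⟨B, hBR, hBdim, hBts⟩ := stp_witt Q _ hR (d - s) hRdim 1 (Or.inl rfl) hRty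
            (d - s) (by rw [if_neg hne]; omega)
          obtain ⟨A, hAK, hAdim, hAts⟩ := stp_witt Q _ hK s hKdim (-1) (Or.inr rfl) hKty
            (m - (d - s)) (by rw [if_pos hpp]; omega)
          exact hcomb A B hAK hBR hAts hBts (by omega)
      · exfalso
        have h15 := hprod (-1) (-1) hKty hRty
        linarith
  · -- odd dimensions: Witt indices `(dim - 1) / 2`
    have hKdim : finrank F (LinearMap.ker (T - 1)) = 2 * s + 1 := by omega
    have hRdim : finrank F (LinearMap.range (T - 1)) = 2 * (d - s - 1) + 1 := by omega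
    obtain ⟨A, hAK, hAdim, hAts⟩ := sts_witt Q h2 _ hK (min m s) (by rw [hKdim]; omega)
    obtain ⟨B, hBR, hBdim, hBts⟩ := sts_witt Q h2 _ hR (m - min m s) (by rw [hRdim]; omega)
    exact hcomb A B hAK hBR hAts hBts (by omega)

/-! ### PIECE MR2A (`q` odd; involutory isometries — no spinor norm needed) -/

/-- `q` odd: an involutory isometry `x` of the minus form fixes a totally singular `m`-space for
every `m ≤ d - 1`. -/
theorem stm_inv_suff (hodd : Odd (Fintype.card F)) (d m : ℕ) (hd : 4 ≤ d) (hm : 1 ≤ m)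
    (hmd : m + 1 ≤ d) (a b : F)
    (hab : ∀ x y : F, x ^ 2 + a * x * y + b * y ^ 2 = 0 → x = 0 ∧ y = 0)
    (x : GL ((Fin (d - 1) ⊕ Fin (d - 1)) ⊕ Fin 2) F)
    (hiso : ∀ u : ((Fin (d - 1) ⊕ Fin (d - 1)) ⊕ Fin 2) → F, Cfsg.quadFormMinus (d - 1) F a b
      ((x : Matrix ((Fin (d - 1) ⊕ Fin (d - 1)) ⊕ Fin 2) ((Fin (d - 1) ⊕ Fin (d - 1)) ⊕ Fin 2) F).mulVec u) = Cfsg.quadFormMinus (d - 1) F a b u)
    (hx2 : x * x = 1) :
    ∃ W : Submodule F (((Fin (d - 1) ⊕ Fin (d - 1)) ⊕ Fin 2) → F), (finrank F W = m ∧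
      Cfsg.Geo.IsTotallySingularQuad (Cfsg.quadFormMinus (d - 1) F a b) W) ∧
      W.map (Matrix.toLin' (x : Matrix ((Fin (d - 1) ⊕ Fin (d - 1)) ⊕ Fin 2) ((Fin (d - 1) ⊕ Fin (d - 1)) ⊕ Fin 2) F)) ≤ W := by
  classical
  have h2 : (2 : F) ≠ 0 := h31_two_ne_zero hodd
  obtain ⟨T, hTdef⟩ : ∃ T : Module.End F (((Fin (d - 1) ⊕ Fin (d - 1)) ⊕ Fin 2) → F),
      T = Matrix.toLin' (x : Matrix ((Fin (d - 1) ⊕ Fin (d - 1)) ⊕ Fin 2)
        ((Fin (d - 1) ⊕ Fin (d - 1)) ⊕ Fin 2) F) := ⟨_, rfl⟩
  have hTT : ∀ y, T (T y) = y := by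
    intro y
    rw [hTdef, Matrix.toLin'_apply, Matrix.toLin'_apply, Matrix.mulVec_mulVec, ← Units.val_mul,
      hx2, Units.val_one, Matrix.one_mulVec]
  have hTsq : T ^ 2 = 1 := by
    apply LinearMap.ext
    intro y
    rw [pow_two, Module.End.mul_apply, hTT, Module.End.one_apply]
  have hTiso : ∀ y, minusForm (d - 1) F a b (T y) = minusForm (d - 1) F a b y := by
    intro y
    rw [hTdef, Matrix.toLin'_apply]
    exact hiso y
  have hnd : ∀ v, (∀ w, QuadraticMap.polar (minusForm (d - 1) F a b) v w = 0) → v = 0 :=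
    forall_of_nondegenerate _
      (Cfsg.Agent.Lib.helper42.minusForm_nondegenerate (d - 1) a b hab)
  have hdimV : finrank F (((Fin (d - 1) ⊕ Fin (d - 1)) ⊕ Fin 2) → F) = 2 * d := by
    rw [Module.finrank_fintype_fun_eq_card, Fintype.card_sum, Fintype.card_sum, Fintype.card_fin,
      Fintype.card_fin]
    omega
  have hty : SrTy (minusForm (d - 1) F a b) ⊤ (-1) := by
    unfold SrTy
    rw [sro_nu_top, finrank_top, hdimV, Nat.mul_div_cancel_left _ (by norm_num), neg_one_mul]
    have h5 := unif_minus_std (d - 1) a b hab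
    rw [show d - 1 + 1 = d by omega] at h5
    exact h5
  obtain ⟨W, hWdim, hWts, hWinv⟩ :=
    h31_inv_ts (minusForm (d - 1) F a b) hnd h2 T hTiso hTsq d hdimV hty m hmd
  refine ⟨W, ⟨hWdim, fun w hw => hWts w hw⟩, ?_⟩
  rintro _ ⟨w, hw, rfl⟩
  rw [← hTdef]
  exact hWinv w hw

end stmmr2a

end Cfsg.Agent.Lib.helper24
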