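import Cfsg.Agent.Lib.helper81.WTDefs

/-! S4414 piece A, core (helper31): two T-fixed vectors with supports inside / outside one T-orbit,
from the facts W0 (a weight exists), W1 (the weights are not one T-orbit) and SV (a T-invariant set
of characters containing a weight carries a nonzero T-fixed vector supported in it), taken here as
hypotheses. -/

set_option autoImplicit false

namespace Cfsg.Agent.Lib.helper81.WT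

open scoped TensorProduct

universe u v w

theorem h31_exists_two_core {S : Type u} [Group S] {F : Type w} [Field F]
    {V : Type v} [AddCommGroup V] [Module F V]
    (R : Representation F S V) (Y : Subgroup S) [Y.Normal] [Fintype ↥Y]
    (T : Subgroup S)
    (hW0 : ∃ μ₀ : ↥Y →* Fˣ, proj R Y μ₀ ≠ 0)
    (hW1 : ∀ μ₀ : ↥Y →* Fˣ, proj R Y μ₀ ≠ 0 →
      ¬ ∀ ν : ↥Y →* Fˣ, proj R Y ν ≠ 0 → ν ∈ orb Y T μ₀)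
    (hSV : ∀ (Θ : Set (↥Y →* Fˣ)), (∀ s ∈ T, ∀ μ ∈ Θ, cj Y s μ ∈ Θ) → ∀ μ₀ : ↥Y →* Fˣ, μ₀ ∈ Θ →
      proj R Y μ₀ ≠ 0 → ∃ v : V, v ≠ 0 ∧ v ∈ fixT R T ∧ supp R Y v ⊆ Θ) :
    ∃ (μ₀ : ↥Y →* Fˣ) (v₁ v₂ : V), v₁ ≠ 0 ∧ v₂ ≠ 0 ∧ v₁ ∈ fixT R T ∧ v₂ ∈ fixT R T ∧
      supp R Y v₁ ⊆ orb Y T μ₀ ∧ Disjoint (supp R Y v₂) (orb Y T μ₀) := by
  obtain ⟨μ₀, hμ₀⟩ := hW0
  have hinv1 : ∀ s ∈ T, ∀ μ ∈ orb Y T μ₀, cj Y s μ ∈ orb Y T μ₀ := by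
    rintro s hs μ ⟨t, ht, rfl⟩
    exact ⟨s * t, T.mul_mem hs ht, (cj_mul Y s t μ₀).symm⟩
  have hmem : μ₀ ∈ orb Y T μ₀ := ⟨1, T.one_mem, (cj_one Y μ₀).symm⟩
  obtain ⟨v₁, hv1, hf1, hs1⟩ := hSV (orb Y T μ₀) hinv1 μ₀ hmem hμ₀
  obtain ⟨ν₀, hν⟩ := not_forall.1 (hW1 μ₀ hμ₀)
  obtain ⟨hν₀, hν₀'⟩ := Classical.not_imp.1 hν
  have hinv2 : ∀ s ∈ T, ∀ μ ∈ (orb Y T μ₀)ᶜ, cj Y s μ ∈ (orb Y T μ₀)ᶜ := by
    intro s hs μ hμ hcontra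
    apply hμ
    have h1 := hinv1 s⁻¹ (T.inv_mem hs) _ hcontra
    rw [← cj_mul, inv_mul_cancel, cj_one] at h1
    exact h1
  obtain ⟨v₂, hv2, hf2, hs2⟩ := hSV (orb Y T μ₀)ᶜ hinv2 ν₀ hν₀' hν₀
  refine ⟨μ₀, v₁, v₂, hv1, hv2, hf1, hf2, hs1, ?_⟩
  rw [Set.disjoint_left]
  intro ν h2 h1
  exact hs2 h2 h1

end Cfsg.Agent.Lib.helper81.WT
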